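import Mathlib
import Cfsg.Prelude.Def_PLocal
import Cfsg.Agent.Helper9.HypGen
import Cfsg.Agent.Helper9.PPrimeCore
import Cfsg.Agent.Helper23.Replacement
import Cfsg.Agent.S0028

/-!
helper19: best offenders in the set-up of failure of factorization (`H` faithful on the elementary
abelian `V`, `C_H(O_{p'}(H)) ≤ O_{p'}(H)`): part 1, the cardinality statements and the
decomposition into offenders of order `p`.
-/

set_option autoImplicit false
open Cfsg

namespace Cfsg.Agent.Helper19.BO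

open scoped commutatorElement

variable {G : Type*} [Group G]

/-- image in `G` of `O_{p'}(H)` -/
def Qc (p : ℕ) (H : Subgroup G) : Subgroup G := (Cfsg.pPrimeCore p ↥H).map H.subtype

theorem Qc_le (p : ℕ) (H : Subgroup G) : Qc p H ≤ H := by
  rintro _ ⟨x, _, rfl⟩
  exact x.2

theorem Qc_coprime [Finite G] (p : ℕ) (H : Subgroup G) : (Nat.card (Qc p H)).Coprime p := by
  have h := Cfsg.Agent.Helper9.pPrimeCore_coprime p ↥H
  have e : Nat.card (Qc p H) = Nat.card (Cfsg.pPrimeCore p ↥H) :=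
    Nat.card_congr ((Cfsg.pPrimeCore p ↥H).equivMapOfInjective H.subtype
      H.subtype_injective).symm.toEquiv
  rw [e]
  exact h

theorem Qc_conj_mem (p : ℕ) (H : Subgroup G) {h x : G} (hh : h ∈ H) (hx : x ∈ Qc p H) :
    h * x * h⁻¹ ∈ Qc p H := by
  obtain ⟨y, hy, rfl⟩ := hx
  exact ⟨⟨h, hh⟩ * y * ⟨h, hh⟩⁻¹, (Cfsg.pPrimeCore_normal p ↥H).conj_mem y hy ⟨h, hh⟩, rfl⟩

theorem Qc_normal (p : ℕ) (H : Subgroup G) : H ≤ Subgroup.normalizer (Qc p H : Set G) := by
  intro h hh
  rw [Subgroup.mem_normalizer_iff]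
  intro x
  constructor
  · exact fun hx => Qc_conj_mem p H hh hx
  · intro hx
    have := Qc_conj_mem p H (inv_mem hh) hx
    simpa [mul_assoc] using this

/-- the set-up -/
structure Setup (p : ℕ) (V H : Subgroup G) : Prop where
  hV : Cfsg.IsElementaryAbelian p V
  hHV : H ≤ Subgroup.normalizer (V : Set G)
  hf : H ⊓ Subgroup.centralizer (V : Set G) = ⊥
  hS1 : Subgroup.centralizer (Cfsg.pPrimeCore p ↥H : Set ↥H) ≤ Cfsg.pPrimeCore p ↥H

namespace Setup

variable {p : ℕ} {V H : Subgroup G}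

theorem comm (S : Setup p V H) {u v : G} (hu : u ∈ V) (hv : v ∈ V) : u * v = v * u := by
  have := S.hV.1.is_comm.comm (⟨u, hu⟩ : V) ⟨v, hv⟩
  exact congrArg Subtype.val this

theorem pgroupV (S : Setup p V H) : IsPGroup p V := by
  intro v
  refine ⟨1, ?_⟩
  rw [pow_one]
  exact Subtype.ext (S.hV.2 v.1 v.2)

theorem self_cent (S : Setup p V H) {h : G} (hh : h ∈ H) (hc : ∀ q ∈ Qc p H, h * q = q * h) :
    h ∈ Qc p H := by
  have : (⟨h, hh⟩ : H) ∈ Subgroup.centralizer (Cfsg.pPrimeCore p ↥H : Set ↥H) := by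
    rw [Subgroup.mem_centralizer_iff]
    intro y hy
    apply Subtype.ext
    have := hc y.1 ⟨y, hy, rfl⟩
    exact this.symm
  exact ⟨⟨h, hh⟩, S.hS1 this, rfl⟩

theorem faithful (S : Setup p V H) {h : G} (hh : h ∈ H)
    (hc : h ∈ Subgroup.centralizer (V : Set G)) : h = 1 := by
  have : h ∈ H ⊓ Subgroup.centralizer (V : Set G) := ⟨hh, hc⟩
  rw [S.hf] at this
  exact this

end Setup

theorem pgroup_inf_Qc [Finite G] {p : ℕ} [Fact p.Prime] {H A : Subgroup G} (hA : IsPGroup p A) :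
    A ⊓ Qc p H = ⊥ := by
  rw [eq_bot_iff]
  intro x hx
  obtain ⟨k, hk⟩ := hA ⟨x, hx.1⟩
  have hk' : x ^ p ^ k = 1 := congrArg Subtype.val hk
  have h1 : orderOf x ∣ p ^ k := orderOf_dvd_of_pow_eq_one hk'
  have h2 : orderOf x ∣ Nat.card (Qc p H) := by
    have := orderOf_dvd_natCard (⟨x, hx.2⟩ : Qc p H)
    rwa [Subgroup.orderOf_mk] at this
  have h3 : (Nat.card (Qc p H)).Coprime (p ^ k) := Nat.Coprime.pow_right k (Qc_coprime p H)
  have h4 : orderOf x = 1 := Nat.eq_one_of_dvd_coprimes h3 h2 h1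
  exact orderOf_eq_one_iff.mp h4

theorem not_centralize [Finite G] {p : ℕ} [Fact p.Prime] {V H : Subgroup G} (S : Setup p V H)
    {A : Subgroup G} (hAH : A ≤ H) (hA : IsPGroup p A) (hA1 : A ≠ ⊥) :
    ¬ (Qc p H ≤ Subgroup.centralizer (A : Set G)) := by
  intro hc
  apply hA1
  rw [eq_bot_iff]
  intro a ha
  have haQ : a ∈ Qc p H := by
    apply S.self_cent (hAH ha)
    intro q hq
    exact (Subgroup.mem_centralizer_iff.1 (hc hq) a ha)
  have : a ∈ A ⊓ Qc p H := ⟨ha, haQ⟩
  rw [pgroup_inf_Qc hA] at this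
  exact this


section bo

variable {p : ℕ} {V H : Subgroup G}

/-- best offenders inside `H` are abelian -/
theorem bo_comm (S : Setup p V H) {A : Subgroup G} (hAH : A ≤ H)
    (hA : Cfsg.IsBestOffenderOn p V A) {a b : G} (ha : a ∈ A) (hb : b ∈ A) : a * b = b * a := by
  have h1 : ⁅a, b⁆ ∈ Subgroup.centralizer (V : Set G) :=
    hA.2.1 (Subgroup.commutator_mem_commutator ha hb)
  have h2 : ⁅a, b⁆ ∈ H := by
    rw [commutatorElement_def]
    exact mul_mem (mul_mem (mul_mem (hAH ha) (hAH hb)) (inv_mem (hAH ha))) (inv_mem (hAH hb))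
  have h3 := S.faithful h2 h1
  rw [commutatorElement_eq_one_iff_mul_comm] at h3
  exact h3

theorem bo_pow (S : Setup p V H) {A : Subgroup G} (hAH : A ≤ H)
    (hA : Cfsg.IsBestOffenderOn p V A) {a : G} (ha : a ∈ A) : a ^ p = 1 :=
  S.faithful (pow_mem (hAH ha) p) (hA.2.2 a ha)

theorem bo_pgroup (S : Setup p V H) {A : Subgroup G} (hAH : A ≤ H)
    (hA : Cfsg.IsBestOffenderOn p V A) : IsPGroup p A := fun a =>
  ⟨1, by rw [pow_one]; exact Subtype.ext (bo_pow S hAH hA a.2)⟩

theorem bo_elemab (S : Setup p V H) {A : Subgroup G} (hAH : A ≤ H)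
    (hA : Cfsg.IsBestOffenderOn p V A) : Cfsg.IsElementaryAbelian p A :=
  ⟨⟨⟨fun a b => Subtype.ext (bo_comm S hAH hA a.2 b.2)⟩⟩, fun _ ha => bo_pow S hAH hA ha⟩

theorem bo_of_eq {A B : Subgroup G} (hA : Cfsg.IsBestOffenderOn p V A) (hBA : B ≤ A)
    (heq : Nat.card B * Nat.card ↥(V ⊓ Subgroup.centralizer (B : Set G)) =
      Nat.card A * Nat.card ↥(V ⊓ Subgroup.centralizer (A : Set G))) :
    Cfsg.IsBestOffenderOn p V B :=
  ⟨fun C hC => heq ▸ hA.1 C (hC.trans hBA), (Subgroup.commutator_mono hBA hBA).trans hA.2.1,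
    fun b hb => hA.2.2 b (hBA hb)⟩

theorem comm_ne_bot (S : Setup p V H) {B : Subgroup G} (hBH : B ≤ H) (hB1 : B ≠ ⊥) :
    ⁅V, B⁆ ≠ ⊥ := by
  intro h
  apply hB1
  rw [Subgroup.commutator_eq_bot_iff_le_centralizer] at h
  have h2 : B ≤ Subgroup.centralizer (V : Set G) := Subgroup.le_centralizer_iff.1 h
  rw [eq_bot_iff, ← S.hf]
  exact le_inf hBH h2

end bo

theorem normalizer_inf_le (X Y : Subgroup G) :
    Subgroup.normalizer (X : Set G) ⊓ Subgroup.normalizer (Y : Set G) ≤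
      Subgroup.normalizer ((X ⊓ Y : Subgroup G) : Set G) := by
  intro g hg
  rw [Subgroup.mem_normalizer_iff]
  intro h
  have h1 := Subgroup.mem_normalizer_iff.1 hg.1 h
  have h2 := Subgroup.mem_normalizer_iff.1 hg.2 h
  rw [Subgroup.mem_inf, Subgroup.mem_inf, h1, h2]

theorem card_mul_relIndex_eq {B A : Subgroup G} (hBA : B ≤ A) :
    Nat.card B * B.relIndex A = Nat.card A := by
  have := Subgroup.relIndex_mul_relIndex (⊥ : Subgroup G) B A bot_le hBA
  rwa [Subgroup.relIndex_bot_left, Subgroup.relIndex_bot_left] at this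

theorem inf_centralizer_bot (V : Subgroup G) :
    V ⊓ Subgroup.centralizer ((⊥ : Subgroup G) : Set G) = V :=
  inf_eq_left.2 (fun x _ => Subgroup.mem_centralizer_iff.2 (fun h hh => by
    have : h = 1 := hh
    rw [this, one_mul, mul_one]))

section main

variable [Finite G] {p : ℕ} [Fact p.Prime] {V H : Subgroup G}

theorem noncentral_fix (S : Setup p V H)
    {A B : Subgroup G} (hAH : A ≤ H) (hAc : ∀ a ∈ A, ∀ b ∈ A, a * b = b * a)
    (hAp : IsPGroup p A) (hBA : B ≤ A)
    (hQ : ¬ (Qc p H ⊓ Subgroup.centralizer (B : Set G) ≤ Subgroup.centralizer (A : Set G))) :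
    ¬ (V ⊓ Subgroup.centralizer (B : Set G) ≤ Subgroup.centralizer (A : Set G)) := by
  intro hW
  obtain ⟨QB, hQBdef⟩ : ∃ QB, QB = Qc p H ⊓ Subgroup.centralizer (B : Set G) := ⟨_, rfl⟩
  obtain ⟨W, hWdef⟩ : ∃ W, W = V ⊓ Subgroup.centralizer (B : Set G) := ⟨_, rfl⟩
  rw [← hQBdef] at hQ
  rw [← hWdef] at hW
  have hQBH : QB ≤ H := hQBdef ▸ inf_le_left.trans (Qc_le p H)
  have hQBc : QB ≤ Subgroup.centralizer (B : Set G) := hQBdef ▸ inf_le_right
  have hQBW : QB ≤ Subgroup.normalizer (W : Set G) := by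
    rw [hWdef]
    refine le_trans (le_inf (hQBH.trans S.hHV) ?_) (normalizer_inf_le _ _)
    exact Cfsg.Agent.Helper23.le_normalizer_centralizer
      (hQBc.trans (Subgroup.centralizer_le_normalizer _))
  have h1 : ⁅⁅A, W⁆, QB⁆ = ⊥ := by
    have : ⁅A, W⁆ = ⊥ := by
      rw [Subgroup.commutator_comm, Subgroup.commutator_eq_bot_iff_le_centralizer]
      exact hW
    rw [this, Subgroup.commutator_bot_left]
  have h2 : ⁅⁅W, QB⁆, A⁆ = ⊥ := by
    have hle : ⁅W, QB⁆ ≤ W := Cfsg.Agent.Helper23.commutator_le_of_le_normalizer hQBW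
    rw [eq_bot_iff]
    calc ⁅⁅W, QB⁆, A⁆ ≤ ⁅W, A⁆ := Subgroup.commutator_mono hle le_rfl
      _ = ⊥ := by rw [Subgroup.commutator_eq_bot_iff_le_centralizer]; exact hW
  have h3 : ⁅⁅QB, A⁆, W⁆ = ⊥ := Subgroup.commutator_commutator_eq_bot_of_rotate h1 h2
  have hAcB : A ≤ Subgroup.centralizer (B : Set G) := fun a ha =>
    Subgroup.mem_centralizer_iff.2 (fun b hb => hAc b (hBA hb) a ha)
  have hAQB : A ≤ Subgroup.normalizer (QB : Set G) := by
    rw [hQBdef]
    refine le_trans (le_inf (hAH.trans (Qc_normal p H)) ?_) (normalizer_inf_le _ _)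
    exact Cfsg.Agent.Helper23.le_normalizer_centralizer
      (hAcB.trans (Subgroup.centralizer_le_normalizer _))
  have hQ0le : ⁅QB, A⁆ ≤ QB := Cfsg.Agent.Helper23.commutator_le_of_le_normalizer hAQB
  have hQ0 : ⁅QB, A⁆ ≠ ⊥ := by
    intro h0
    apply hQ
    rwa [Subgroup.commutator_eq_bot_iff_le_centralizer] at h0
  have hQ0W : ⁅QB, A⁆ ≤ Subgroup.centralizer (W : Set G) := by
    rwa [Subgroup.commutator_eq_bot_iff_le_centralizer] at h3
  have hcop : (Nat.card ↥⁅QB, A⁆).Coprime p := by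
    have hd : Nat.card ↥⁅QB, A⁆ ∣ Nat.card (Qc p H) :=
      Subgroup.card_dvd_of_le (hQ0le.trans (hQBdef ▸ inf_le_left))
    exact Nat.Coprime.coprime_dvd_left hd (Qc_coprime p H)
  have h28 := Cfsg.Agent.S0028.result p B ⁅QB, A⁆ V (hAp.to_le hBA) hcop S.pgroupV
    (Subgroup.le_centralizer_iff.1 (hQ0le.trans hQBc)) ((hBA.trans hAH).trans S.hHV)
    ((hQ0le.trans hQBH).trans S.hHV) (hWdef ▸ Subgroup.le_centralizer_iff.1 hQ0W)
  apply hQ0
  rw [eq_bot_iff, ← S.hf]
  exact le_inf (hQ0le.trans hQBH) h28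

theorem good_card (S : Setup p V H)
    {A B : Subgroup G} (hAH : A ≤ H) (hA : Cfsg.IsBestOffenderOn p V A) (hBA : B ≤ A)
    (hidx : B.relIndex A = p)
    (hQ : ¬ (Qc p H ⊓ Subgroup.centralizer (B : Set G) ≤ Subgroup.centralizer (A : Set G))) :
    Nat.card B * Nat.card ↥(V ⊓ Subgroup.centralizer (B : Set G)) =
      Nat.card A * Nat.card ↥(V ⊓ Subgroup.centralizer (A : Set G)) := by
  have hp := (Fact.out : p.Prime)
  have hnc := noncentral_fix S hAH (fun a ha b hb => bo_comm S hAH hA ha hb)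
    (bo_pgroup S hAH hA) hBA hQ
  have hbo := hA.1 B hBA
  obtain ⟨K, hK⟩ : ∃ K, K = V ⊓ Subgroup.centralizer (A : Set G) := ⟨_, rfl⟩
  obtain ⟨L, hL⟩ : ∃ L, L = V ⊓ Subgroup.centralizer (B : Set G) := ⟨_, rfl⟩
  rw [← hK, ← hL] at hbo ⊢
  rw [← hL] at hnc
  have hKL : K ≤ L := by
    rw [hK, hL]
    exact inf_le_inf_left V (Subgroup.centralizer_le hBA)
  have hLK : ¬ L ≤ K := fun h => hnc (h.trans (hK ▸ inf_le_right))
  have e1 : Nat.card K * K.relIndex L = Nat.card L := card_mul_relIndex_eq hKL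
  have e2 : Nat.card B * p = Nat.card A := hidx ▸ card_mul_relIndex_eq hBA
  have hr1 : K.relIndex L ≠ 1 := fun h => hLK (Subgroup.relIndex_eq_one.1 h)
  have hLpos : 0 < Nat.card L := Nat.card_pos
  have hKpos : 0 < Nat.card K := Nat.card_pos
  have hBpos : 0 < Nat.card B := Nat.card_pos
  have hrp : p ∣ K.relIndex L := by
    obtain ⟨n, hn⟩ := (IsPGroup.iff_card.1 (S.pgroupV.to_le (hL ▸ inf_le_left : L ≤ V)))
    have hd : K.relIndex L ∣ p ^ n := hn ▸ Subgroup.relIndex_dvd_card K L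
    obtain ⟨j, hj, hjeq⟩ := (Nat.dvd_prime_pow hp).1 hd
    rcases Nat.eq_zero_or_pos j with rfl | hjpos
    · rw [hjeq, pow_zero] at hr1
      exact absurd rfl hr1
    · rw [hjeq]
      exact dvd_pow_self p hjpos.ne'
  have hrpos : 0 < K.relIndex L := by
    rcases Nat.eq_zero_or_pos (K.relIndex L) with h0 | h0
    · rw [h0, mul_zero] at e1
      omega
    · exact h0
  have hge : p ≤ K.relIndex L := Nat.le_of_dvd hrpos hrp
  rw [← e2, ← e1] at hbo
  rw [← e2, ← e1]
  have hle : K.relIndex L ≤ p := by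
    by_contra hlt
    push Not at hlt
    have h1 : Nat.card B * p * Nat.card K < Nat.card B * (Nat.card K * K.relIndex L) := by
      have : Nat.card B * Nat.card K * p < Nat.card B * Nat.card K * K.relIndex L :=
        Nat.mul_lt_mul_of_pos_left hlt (Nat.mul_pos hBpos hKpos)
      calc Nat.card B * p * Nat.card K = Nat.card B * Nat.card K * p := by ring
        _ < Nat.card B * Nat.card K * K.relIndex L := this
        _ = Nat.card B * (Nat.card K * K.relIndex L) := by ring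
    omega
  have heq : K.relIndex L = p := le_antisymm hle hge
  rw [heq]
  ring

theorem exists_good (S : Setup p V H)
    {A N : Subgroup G} (hAH : A ≤ H) (hA : Cfsg.IsBestOffenderOn p V A) (hNA : N ≤ A)
    (hN1 : N ≠ ⊥) :
    ∃ B : Subgroup G, B ≤ A ∧ B.relIndex A = p ∧
      ¬ (Qc p H ⊓ Subgroup.centralizer (B : Set G) ≤ Subgroup.centralizer (A : Set G)) ∧
      ¬ N ≤ B := by
  by_contra hcon
  push Not at hcon
  have hp := (Fact.out : p.Prime)
  have hAp := bo_pgroup S hAH hA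
  apply not_centralize S (hNA.trans hAH) (hAp.to_le hNA) hN1
  have hgen := Cfsg.Agent.Helper9.hyperplane_generation p A (Qc p H) (bo_elemab S hAH hA)
    (by rw [← Nat.Prime.coprime_iff_not_dvd hp]; exact (Qc_coprime p H).symm)
    (hAH.trans (Qc_normal p H))
  refine le_trans (le_of_eq hgen) ?_
  apply iSup_le
  rintro ⟨B, hBA, hBidx⟩
  by_cases hgood : Qc p H ⊓ Subgroup.centralizer (B : Set G) ≤ Subgroup.centralizer (A : Set G)
  · exact hgood.trans (Subgroup.centralizer_le hNA)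
  · have h1 : B.relIndex A ≠ 1 := by
      intro h
      have hAB : A ≤ B := Subgroup.relIndex_eq_one.1 h
      have : B = A := le_antisymm hBA hAB
      subst this
      exact hgood inf_le_right
    have h2 : B.relIndex A = p := by
      obtain ⟨n, hn⟩ := IsPGroup.iff_card.1 hAp
      have hd : B.relIndex A ∣ p ^ n := hn ▸ Subgroup.relIndex_dvd_card B A
      obtain ⟨j, hj, hjeq⟩ := (Nat.dvd_prime_pow hp).1 hd
      rcases j with _ | _ | j
      · rw [hjeq, pow_zero] at h1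
        exact absurd rfl h1
      · rw [hjeq, zero_add, pow_one]
      · exfalso
        rw [hjeq] at hBidx
        have h3 : p ^ 2 ≤ p ^ (j + 1 + 1) := Nat.pow_le_pow_right hp.pos (by omega)
        have h4 : p < p ^ 2 := by nlinarith [hp.two_le]
        omega
    have hNB := hcon B hBA h2 hgood
    exact inf_le_right.trans (Subgroup.centralizer_le hNB)

/-- (a): a nontrivial best offender has `|A| |C_V(A)| = |V|` -/
theorem card_eq (S : Setup p V H) :
    ∀ (n : ℕ) (A : Subgroup G), Nat.card A = n → A ≤ H → Cfsg.IsBestOffenderOn p V A → A ≠ ⊥ →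
      Nat.card A * Nat.card ↥(V ⊓ Subgroup.centralizer (A : Set G)) = Nat.card V := by
  intro n
  induction n using Nat.strong_induction_on with
  | _ n ih =>
    intro A hn hAH hA hA1
    have hp := (Fact.out : p.Prime)
    obtain ⟨B, hBA, hidx, hgood, hAB⟩ := exists_good S hAH hA le_rfl hA1
    have hcard := good_card S hAH hA hBA hidx hgood
    have hB := bo_of_eq hA hBA hcard
    rw [← hcard]
    by_cases hB1 : B = ⊥
    · subst hB1
      rw [inf_centralizer_bot, Subgroup.card_bot, one_mul]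
    · have hlt : Nat.card B < n := by
        have e2 : Nat.card B * p = Nat.card A := hidx ▸ card_mul_relIndex_eq hBA
        have hBpos : 0 < Nat.card B := Nat.card_pos
        have := hp.two_le
        rw [← hn, ← e2]
        nlinarith
      exact ih _ hlt B rfl (hBA.trans hAH) hB hB1

theorem card_eq' (S : Setup p V H) {A : Subgroup G} (hAH : A ≤ H)
    (hA : Cfsg.IsBestOffenderOn p V A) (hA1 : A ≠ ⊥) :
    Nat.card A * Nat.card ↥(V ⊓ Subgroup.centralizer (A : Set G)) = Nat.card V :=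
  card_eq S _ A rfl hAH hA hA1

end main

end Cfsg.Agent.Helper19.BO
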