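import Mathlib
import Cfsg.Agent.Helper19.BO1

/-!
helper19: best offenders, part 2: offenders of order `p` (transvection groups) and the
decomposition of a best offender into such.
-/

set_option autoImplicit false
open Cfsg

namespace Cfsg.Agent.Helper19.BO

open scoped commutatorElement

variable {G : Type*} [Group G]

theorem centralizer_zpowers (a : G) :
    Subgroup.centralizer (Subgroup.zpowers a : Set G) = Subgroup.centralizer ({a} : Set G) := by
  apply le_antisymm
  · apply Subgroup.centralizer_le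
    intro x hx
    rw [Set.mem_singleton_iff] at hx
    rw [hx]
    exact Subgroup.mem_zpowers a
  · intro g hg
    rw [Subgroup.mem_centralizer_iff] at hg ⊢
    intro h hh
    obtain ⟨k, rfl⟩ := Subgroup.mem_zpowers_iff.1 hh
    have h1 : Commute a g := hg a rfl
    exact (h1.zpow_left k).eq

/-- for abelian `V` normalized by `a`: `|[V, ⟨a⟩]| · |C_V(a)| = |V|` -/
theorem card_comm_zpowers [Finite G] {V : Subgroup G} (hVc : ∀ u ∈ V, ∀ v ∈ V, u * v = v * u)
    {a : G} (ha : a ∈ Subgroup.normalizer (V : Set G)) :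
    Nat.card ↥⁅V, Subgroup.zpowers a⁆ *
      Nat.card ↥(V ⊓ Subgroup.centralizer ({a} : Set G)) = Nat.card V := by
  have hconj : ∀ v ∈ V, a * v * a⁻¹ ∈ V := fun v hv => (Subgroup.mem_normalizer_iff.1 ha v).1 hv
  have hmem : ∀ v ∈ V, ⁅v, a⁆ ∈ V := by
    intro v hv
    have e : ⁅v, a⁆ = v * (a * v⁻¹ * a⁻¹) := by rw [commutatorElement_def]; group
    rw [e]
    exact mul_mem hv (hconj _ (inv_mem hv))
  have hmul : ∀ u ∈ V, ∀ v ∈ V, ⁅u * v, a⁆ = ⁅u, a⁆ * ⁅v, a⁆ := by
    intro u hu v hv
    have hu' := hconj _ (inv_mem hu)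
    have hv' := hconj _ (inv_mem hv)
    have e1 : ⁅u * v, a⁆ = u * (v * ((a * v⁻¹ * a⁻¹) * (a * u⁻¹ * a⁻¹))) := by
      rw [commutatorElement_def]; group
    have e2 : ⁅u, a⁆ * ⁅v, a⁆ = u * ((a * u⁻¹ * a⁻¹) * (v * (a * v⁻¹ * a⁻¹))) := by
      rw [commutatorElement_def, commutatorElement_def]; group
    rw [e1, e2]
    congr 1
    rw [hVc _ hv' _ hu', ← mul_assoc, hVc _ hv _ hu', mul_assoc]
  let κ : V →* V := MonoidHom.mk' (fun v => ⟨⁅(v : G), a⁆, hmem v v.2⟩) (by
    intro u v
    apply Subtype.ext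
    exact hmul u u.2 v v.2)
  have hκ : ∀ v : V, ((κ v : V) : G) = ⁅(v : G), a⁆ := fun v => rfl
  -- kernel
  have hker : Nat.card κ.ker = Nat.card ↥(V ⊓ Subgroup.centralizer ({a} : Set G)) := by
    have e : κ.ker = (V ⊓ Subgroup.centralizer ({a} : Set G)).subgroupOf V := by
      ext v
      rw [MonoidHom.mem_ker, Subgroup.mem_subgroupOf, Subgroup.mem_inf]
      constructor
      · intro hv
        have h1 : ⁅(v : G), a⁆ = 1 := by rw [← hκ, hv]; rfl
        rw [commutatorElement_eq_one_iff_mul_comm] at h1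
        refine ⟨v.2, ?_⟩
        rw [Subgroup.mem_centralizer_iff]
        intro h hh
        rw [Set.mem_singleton_iff] at hh
        rw [hh, h1]
      · rintro ⟨_, hv⟩
        apply Subtype.ext
        rw [hκ]
        show ⁅(v : G), a⁆ = 1
        rw [commutatorElement_eq_one_iff_mul_comm]
        exact (Subgroup.mem_centralizer_iff.1 hv a rfl).symm
    rw [e]
    exact Nat.card_congr (Subgroup.subgroupOfEquivOfLe inf_le_left).toEquiv
  -- range
  have hrange : Nat.card κ.range = Nat.card ↥⁅V, Subgroup.zpowers a⁆ := by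
    have e : κ.range.map V.subtype = ⁅V, Subgroup.zpowers a⁆ := by
      apply le_antisymm
      · rintro _ ⟨_, ⟨v, rfl⟩, rfl⟩
        exact Subgroup.commutator_mem_commutator v.2 (Subgroup.mem_zpowers a)
      · have hR : ∀ v ∈ V, ⁅v, a⁆ ∈ κ.range.map V.subtype := fun v hv =>
          ⟨κ ⟨v, hv⟩, ⟨⟨v, hv⟩, rfl⟩, rfl⟩
        have hRV : κ.range.map V.subtype ≤ V := by
          rintro _ ⟨y, _, rfl⟩
          exact y.2
        -- R is normalized by a
        have hRa : ∀ r ∈ κ.range.map V.subtype, a * r * a⁻¹ ∈ κ.range.map V.subtype := by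
          rintro _ ⟨_, ⟨v, rfl⟩, rfl⟩
          have e : a * ⁅(v : G), a⁆ * a⁻¹ = ⁅a * (v : G) * a⁻¹, a⁆ := by
            rw [commutatorElement_def, commutatorElement_def]; group
          show a * ⁅(v : G), a⁆ * a⁻¹ ∈ _
          rw [e]
          exact hR _ (hconj _ v.2)
        have hRak : ∀ k : ℕ, ∀ r ∈ κ.range.map V.subtype,
            a ^ k * r * (a ^ k)⁻¹ ∈ κ.range.map V.subtype := by
          intro k
          induction k with
          | zero => intro r hr; simpa using hr
          | succ k ih =>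
            intro r hr
            have e : a ^ (k + 1) * r * (a ^ (k + 1))⁻¹ = a * (a ^ k * r * (a ^ k)⁻¹) * a⁻¹ := by
              rw [pow_succ']; group
            rw [e]
            exact hRa _ (ih r hr)
        have hpow : ∀ k : ℕ, ∀ v ∈ V, ⁅v, a ^ k⁆ ∈ κ.range.map V.subtype := by
          intro k
          induction k with
          | zero =>
            intro v _
            rw [pow_zero, commutatorElement_one_right]
            exact one_mem _
          | succ k ih =>
            intro v hv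
            have e : ⁅v, a ^ (k + 1)⁆ = ⁅v, a ^ k⁆ * (a ^ k * ⁅v, a⁆ * (a ^ k)⁻¹) := by
              rw [commutatorElement_def, commutatorElement_def, commutatorElement_def, pow_succ]
              group
            rw [e]
            exact mul_mem (ih v hv) (hRak k _ (hR v hv))
        rw [Subgroup.commutator_le]
        intro v hv g hg
        have hg' : g ∈ Submonoid.powers a := (mem_powers_iff_mem_zpowers).2 hg
        obtain ⟨k, rfl⟩ := (Submonoid.mem_powers_iff _ _).1 hg'
        exact hpow k v hv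
    rw [← e]
    exact Nat.card_congr (κ.range.equivMapOfInjective V.subtype V.subtype_injective).toEquiv
  rw [← hker, ← hrange, ← Subgroup.index_ker, mul_comm]
  exact Subgroup.card_mul_index κ.ker

theorem exists_zpowers_of_card_prime [Finite G] {p : ℕ} [Fact p.Prime] {A : Subgroup G}
    (hcard : Nat.card A = p) : ∃ a ∈ A, a ≠ 1 ∧ A = Subgroup.zpowers a := by
  have hp := (Fact.out : p.Prime)
  have hA1 : A ≠ ⊥ := by
    intro h
    rw [h, Subgroup.card_bot] at hcard
    exact hp.one_lt.ne hcard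
  obtain ⟨a, ha1⟩ := (Subgroup.ne_bot_iff_exists_ne_one).1 hA1
  have ha1' : (a : G) ≠ 1 := fun h => ha1 (Subtype.ext h)
  refine ⟨(a : G), a.2, ha1', ?_⟩
  symm
  apply Subgroup.eq_of_le_of_card_ge
  · rw [Subgroup.zpowers_le]
    exact a.2
  · rw [hcard, Nat.card_zpowers]
    have h1 : orderOf (a : G) ∣ p := by
      have := orderOf_dvd_natCard a
      rwa [← Subgroup.orderOf_coe, hcard] at this
    rcases (Nat.dvd_prime hp).1 h1 with h | h
    · exfalso
      rw [orderOf_eq_one_iff] at h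
      exact ha1' h
    · rw [h]

section main

variable [Finite G] {p : ℕ} [Fact p.Prime] {V H : Subgroup G}

/-- facts about a best offender of order `p` -/
theorem order_p_facts (S : Setup p V H) {A : Subgroup G} (hAH : A ≤ H)
    (hA : Cfsg.IsBestOffenderOn p V A) (hcard : Nat.card A = p) :
    Nat.card ↥⁅V, A⁆ = p ∧ (V ⊓ Subgroup.centralizer (A : Set G)).relIndex V = p ∧
      p * Nat.card ↥(V ⊓ Subgroup.centralizer (A : Set G)) = Nat.card V := by
  have hp := (Fact.out : p.Prime)
  have hA1 : A ≠ ⊥ := by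
    intro h
    rw [h, Subgroup.card_bot] at hcard
    exact hp.one_lt.ne hcard
  have h1 := card_eq' S hAH hA hA1
  rw [hcard] at h1
  have hCpos : 0 < Nat.card ↥(V ⊓ Subgroup.centralizer (A : Set G)) := Nat.card_pos
  have h2 : (V ⊓ Subgroup.centralizer (A : Set G)).relIndex V = p := by
    have := card_mul_relIndex_eq (inf_le_left : V ⊓ Subgroup.centralizer (A : Set G) ≤ V)
    rw [← h1, mul_comm] at this
    exact Nat.eq_of_mul_eq_mul_right hCpos this
  refine ⟨?_, h2, h1⟩
  obtain ⟨a, ha, _, hAa⟩ := exists_zpowers_of_card_prime hcard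
  have h3 := card_comm_zpowers (fun u hu v hv => S.comm hu hv) (S.hHV (hAH ha))
  rw [← centralizer_zpowers, ← hAa, ← h1] at h3
  exact Nat.eq_of_mul_eq_mul_right hCpos h3

/-- (b) -/
theorem min_offender (S : Setup p V H) {A : Subgroup G} (hAH : A ≤ H)
    (hA : Cfsg.IsBestOffenderOn p V A) (hAV : ⁅V, A⁆ ≠ ⊥)
    (hmin : ∀ B : Subgroup G, B ≤ A → Cfsg.IsBestOffenderOn p V B → ⁅V, B⁆ ≠ ⊥ → B = A) :
    Nat.card A = p := by
  have hA1 : A ≠ ⊥ := by
    rintro rfl
    apply hAV
    rw [eq_bot_iff, Subgroup.commutator_le]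
    intro v _ g hg
    have : g = 1 := hg
    rw [this, commutatorElement_one_right]
    exact one_mem _
  obtain ⟨B, hBA, hidx, hgood, hAB⟩ := exists_good S hAH hA le_rfl hA1
  have hcard := good_card S hAH hA hBA hidx hgood
  have hB := bo_of_eq hA hBA hcard
  have hB1 : B = ⊥ := by
    by_contra hB1
    have := hmin B hBA hB (comm_ne_bot S (hBA.trans hAH) hB1)
    exact hAB (this ▸ le_rfl)
  rw [hB1, Subgroup.relIndex_bot_left] at hidx
  exact hidx

theorem mem_sup_of_comm {N K : Subgroup G} (hc : ∀ n ∈ N, ∀ k ∈ K, n * k = k * n) {x : G}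
    (hx : x ∈ N ⊔ K) : ∃ n ∈ N, ∃ k ∈ K, x = n * k := by
  rw [Subgroup.sup_eq_closure] at hx
  induction hx using Subgroup.closure_induction with
  | mem y hy =>
    rcases hy with hy | hy
    · exact ⟨y, hy, 1, one_mem _, by simp⟩
    · exact ⟨1, one_mem _, y, hy, by simp⟩
  | one => exact ⟨1, one_mem _, 1, one_mem _, by simp⟩
  | mul y z _ _ ihy ihz =>
    obtain ⟨n1, hn1, k1, hk1, rfl⟩ := ihy
    obtain ⟨n2, hn2, k2, hk2, rfl⟩ := ihz
    refine ⟨n1 * n2, mul_mem hn1 hn2, k1 * k2, mul_mem hk1 hk2, ?_⟩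
    have := hc n2 hn2 k1 hk1
    calc n1 * k1 * (n2 * k2) = n1 * (k1 * n2) * k2 := by group
      _ = n1 * (n2 * k1) * k2 := by rw [this]
      _ = n1 * n2 * (k1 * k2) := by group
  | inv y _ ih =>
    obtain ⟨n, hn, k, hk, rfl⟩ := ih
    refine ⟨n⁻¹, inv_mem hn, k⁻¹, inv_mem hk, ?_⟩
    rw [mul_inv_rev]
    exact (hc n⁻¹ (inv_mem hn) k⁻¹ (inv_mem hk)).symm

theorem bo_inf {A N D : Subgroup G}
    (hA : Cfsg.IsBestOffenderOn p V A) (hNA : N ≤ A) (hDA : D ≤ A)
    (hN : Nat.card N * Nat.card ↥(V ⊓ Subgroup.centralizer (N : Set G)) =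
      Nat.card A * Nat.card ↥(V ⊓ Subgroup.centralizer (A : Set G)))
    (hD : Nat.card D * Nat.card ↥(V ⊓ Subgroup.centralizer (D : Set G)) =
      Nat.card A * Nat.card ↥(V ⊓ Subgroup.centralizer (A : Set G))) :
    Nat.card ↥(N ⊓ D) * Nat.card ↥(V ⊓ Subgroup.centralizer ((N ⊓ D : Subgroup G) : Set G)) =
      Nat.card A * Nat.card ↥(V ⊓ Subgroup.centralizer (A : Set G)) := by
  obtain ⟨m, hm⟩ : ∃ m, m = Nat.card A * Nat.card ↥(V ⊓ Subgroup.centralizer (A : Set G)) :=
    ⟨_, rfl⟩
  rw [← hm] at hN hD ⊢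
  have hmpos : 0 < m := by
    rw [hm]
    exact Nat.mul_pos Nat.card_pos Nat.card_pos
  have hinf := hA.1 (N ⊓ D) (inf_le_left.trans hNA)
  have hsup := hA.1 (N ⊔ D) (sup_le hNA hDA)
  rw [← hm] at hinf hsup
  have i1 := Cfsg.Agent.Helper23.card_mul_card_le_sup_inf N D
  have i2 := Cfsg.Agent.Helper23.card_mul_card_le_sup_inf
    (V ⊓ Subgroup.centralizer (N : Set G)) (V ⊓ Subgroup.centralizer (D : Set G))
  have i3 : Nat.card ↥((V ⊓ Subgroup.centralizer (N : Set G)) ⊔
      (V ⊓ Subgroup.centralizer (D : Set G))) ≤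
      Nat.card ↥(V ⊓ Subgroup.centralizer ((N ⊓ D : Subgroup G) : Set G)) :=
    Subgroup.card_le_of_le (sup_le (inf_le_inf_left V (Subgroup.centralizer_le inf_le_left))
      (inf_le_inf_left V (Subgroup.centralizer_le inf_le_right)))
  have i4 : Nat.card ↥((V ⊓ Subgroup.centralizer (N : Set G)) ⊓
      (V ⊓ Subgroup.centralizer (D : Set G))) ≤
      Nat.card ↥(V ⊓ Subgroup.centralizer ((N ⊔ D : Subgroup G) : Set G)) := by
    apply Subgroup.card_le_of_le
    refine le_inf (inf_le_left.trans inf_le_left) ?_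
    rw [Subgroup.le_centralizer_iff]
    refine sup_le ?_ ?_
    · rw [Subgroup.le_centralizer_iff]
      exact inf_le_left.trans inf_le_right
    · rw [Subgroup.le_centralizer_iff]
      exact inf_le_right.trans inf_le_right
  apply le_antisymm hinf
  -- m * m ≤ f(N ⊓ D) * m
  have key : m * m ≤ Nat.card ↥(N ⊓ D) *
      Nat.card ↥(V ⊓ Subgroup.centralizer ((N ⊓ D : Subgroup G) : Set G)) * m := by
    calc m * m = (Nat.card N * Nat.card ↥(V ⊓ Subgroup.centralizer (N : Set G))) *
          (Nat.card D * Nat.card ↥(V ⊓ Subgroup.centralizer (D : Set G))) := by rw [hN, hD]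
      _ = (Nat.card N * Nat.card D) * (Nat.card ↥(V ⊓ Subgroup.centralizer (N : Set G)) *
          Nat.card ↥(V ⊓ Subgroup.centralizer (D : Set G))) := by ring
      _ ≤ (Nat.card ↥(N ⊔ D) * Nat.card ↥(N ⊓ D)) *
          (Nat.card ↥((V ⊓ Subgroup.centralizer (N : Set G)) ⊔
            (V ⊓ Subgroup.centralizer (D : Set G))) *
          Nat.card ↥((V ⊓ Subgroup.centralizer (N : Set G)) ⊓
            (V ⊓ Subgroup.centralizer (D : Set G)))) := Nat.mul_le_mul i1 i2
      _ ≤ (Nat.card ↥(N ⊔ D) * Nat.card ↥(N ⊓ D)) *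
          (Nat.card ↥(V ⊓ Subgroup.centralizer ((N ⊓ D : Subgroup G) : Set G)) *
          Nat.card ↥(V ⊓ Subgroup.centralizer ((N ⊔ D : Subgroup G) : Set G))) :=
        Nat.mul_le_mul_left _ (Nat.mul_le_mul i3 i4)
      _ = (Nat.card ↥(N ⊓ D) *
          Nat.card ↥(V ⊓ Subgroup.centralizer ((N ⊓ D : Subgroup G) : Set G))) *
          (Nat.card ↥(N ⊔ D) *
          Nat.card ↥(V ⊓ Subgroup.centralizer ((N ⊔ D : Subgroup G) : Set G))) := by ring
      _ ≤ (Nat.card ↥(N ⊓ D) *
          Nat.card ↥(V ⊓ Subgroup.centralizer ((N ⊓ D : Subgroup G) : Set G))) * m :=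
        Nat.mul_le_mul_left _ hsup
  exact Nat.le_of_mul_le_mul_right key hmpos

/-- a subgroup of order `p` has no proper subgroup acting nontrivially -/
theorem minimal_of_card {N : Subgroup G} (hcard : Nat.card N = p) :
    ∀ C : Subgroup G, C ≤ N → Cfsg.IsBestOffenderOn p V C → ⁅V, C⁆ ≠ ⊥ → C = N := by
  have hp := (Fact.out : p.Prime)
  intro C hCN _ hVC
  have hC1 : C ≠ ⊥ := by
    rintro rfl
    apply hVC
    rw [eq_bot_iff, Subgroup.commutator_le]
    intro v _ g hg
    have : g = 1 := hg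
    rw [this, commutatorElement_one_right]
    exact one_mem _
  apply Subgroup.eq_of_le_of_card_ge hCN
  rw [hcard]
  have hdvd : Nat.card C ∣ p := hcard ▸ Subgroup.card_dvd_of_le hCN
  rcases (Nat.dvd_prime hp).1 hdvd with h | h
  · exfalso
    exact hC1 (Subgroup.card_eq_one.1 h)
  · rw [h]

/-- (c): a best offender is a direct product of best offenders of order `p` -/
theorem decomp (S : Setup p V H) : ∀ (n : ℕ) (A : Subgroup G), Nat.card A = n → A ≤ H →
    Cfsg.IsBestOffenderOn p V A →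
    ∃ (k : ℕ) (B : Fin k → Subgroup G),
      (∀ i, B i ≤ A ∧ Cfsg.IsBestOffenderOn p V (B i) ∧ Nat.card (B i) = p) ∧
      iSupIndep B ∧ ⨆ i, B i = A := by
  have hp := (Fact.out : p.Prime)
  intro n
  induction n using Nat.strong_induction_on with
  | _ n ih =>
  intro A hn hAH hA
  by_cases hA1 : A = ⊥
  · refine ⟨0, Fin.elim0, fun i => i.elim0, ?_, ?_⟩
    · intro i
      exact i.elim0
    · rw [hA1]
      simp
  · have hne : Nonempty {N : Subgroup G // N ≤ A ∧ Cfsg.IsBestOffenderOn p V N ∧ N ≠ ⊥} :=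
      ⟨⟨A, le_rfl, hA, hA1⟩⟩
    obtain ⟨⟨N, hNA, hN, hN1⟩, hNmin⟩ := Finite.exists_min
      (fun N : {N : Subgroup G // N ≤ A ∧ Cfsg.IsBestOffenderOn p V N ∧ N ≠ ⊥} =>
        Nat.card (N : Subgroup G))
    obtain ⟨D, hDA, hidx, hgood, hND⟩ := exists_good S hAH hA hNA hN1
    have hDcard := good_card S hAH hA hDA hidx hgood
    have hD := bo_of_eq hA hDA hDcard
    have hNcard : Nat.card N * Nat.card ↥(V ⊓ Subgroup.centralizer (N : Set G)) =
        Nat.card A * Nat.card ↥(V ⊓ Subgroup.centralizer (A : Set G)) := by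
      rw [card_eq' S (hNA.trans hAH) hN hN1, card_eq' S hAH hA hA1]
    have hNDcard := bo_inf hA hNA hDA hNcard hDcard
    have hNDbo := bo_of_eq hA (inf_le_left.trans hNA) hNDcard
    have hNDbot : N ⊓ D = ⊥ := by
      by_contra h
      have h1 := hNmin ⟨N ⊓ D, inf_le_left.trans hNA, hNDbo, h⟩
      have h2 : N ⊓ D = N := Subgroup.eq_of_le_of_card_ge inf_le_left h1
      exact hND (h2 ▸ inf_le_right)
    have e2 : Nat.card D * p = Nat.card A := hidx ▸ card_mul_relIndex_eq hDA
    have hDpos : 0 < Nat.card D := Nat.card_pos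
    have i1 := Cfsg.Agent.Helper23.card_mul_card_le_sup_inf N D
    rw [hNDbot, Subgroup.card_bot, mul_one] at i1
    have i2 : Nat.card ↥(N ⊔ D) ≤ Nat.card A := Subgroup.card_le_of_le (sup_le hNA hDA)
    have hNle : Nat.card N ≤ p := by
      have : Nat.card N * Nat.card D ≤ p * Nat.card D := by
        rw [mul_comm p, e2]
        exact i1.trans i2
      exact Nat.le_of_mul_le_mul_right this hDpos
    have hNp : Nat.card N = p := by
      apply le_antisymm hNle
      have hNpg := bo_pgroup S (hNA.trans hAH) hN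
      obtain ⟨k, hk⟩ := (IsPGroup.iff_card.1 hNpg)
      rw [hk]
      rcases Nat.eq_zero_or_pos k with h0 | h0
      · exfalso
        rw [h0, pow_zero] at hk
        exact hN1 (Subgroup.card_eq_one.1 hk)
      · exact Nat.le_self_pow h0.ne' p
    have hsup : N ⊔ D = A := by
      apply Subgroup.eq_of_le_of_card_ge (sup_le hNA hDA)
      rw [← e2, mul_comm, ← hNp]
      exact i1
    have hlt : Nat.card D < n := by
      have := hp.two_le
      rw [← hn, ← e2]
      nlinarith
    obtain ⟨k, B, hB, hind, hBsup⟩ := ih _ hlt D rfl (hDA.trans hAH) hD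
    refine ⟨k + 1, Fin.cons N B, ?_, ?_, ?_⟩
    · intro i
      refine Fin.cases ?_ (fun j => ?_) i
      · rw [Fin.cons_zero]
        exact ⟨hNA, hN, hNp⟩
      · rw [Fin.cons_succ]
        exact ⟨(hB j).1.trans hDA, (hB j).2.1, (hB j).2.2⟩
    · rw [iSupIndep_def]
      intro i
      refine Fin.cases ?_ (fun j => ?_) i
      · rw [Fin.cons_zero, disjoint_iff, eq_bot_iff, ← hNDbot]
        refine inf_le_inf_left N ?_
        refine iSup_le fun j => iSup_le fun hj => ?_
        obtain ⟨j', rfl⟩ := Fin.exists_succ_eq_of_ne_zero hj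
        rw [Fin.cons_succ]
        exact (hB j').1
      · rw [Fin.cons_succ, Subgroup.disjoint_def]
        intro x hxB hx
        have hle : (⨆ l, ⨆ (_ : l ≠ Fin.succ j), (Fin.cons N B : Fin (k + 1) → Subgroup G) l) ≤
            N ⊔ ⨆ l, ⨆ (_ : l ≠ j), B l := by
          refine iSup_le fun l => iSup_le fun hl => ?_
          revert hl
          refine Fin.cases ?_ (fun l' => ?_) l
          · intro _
            rw [Fin.cons_zero]
            exact le_sup_left
          · intro hl
            rw [Fin.cons_succ]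
            have hl' : l' ≠ j := fun h => hl (h ▸ rfl)
            exact le_trans (le_iSup₂ (f := fun l (_ : l ≠ j) => B l) l' hl') le_sup_right
        have hKD : (⨆ l, ⨆ (_ : l ≠ j), B l) ≤ D :=
          iSup_le fun l => iSup_le fun _ => (hB l).1
        have hcomm : ∀ n' ∈ N, ∀ k' ∈ (⨆ l, ⨆ (_ : l ≠ j), B l), n' * k' = k' * n' :=
          fun n' hn' k' hk' => bo_comm S hAH hA (hNA hn') (hDA (hKD hk'))
        obtain ⟨n', hn', k', hk', rfl⟩ := mem_sup_of_comm hcomm (hle hx)
        have hn'D : n' ∈ D := by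
          have := mul_mem ((hB j).1 hxB) (inv_mem (hKD hk'))
          rwa [mul_inv_cancel_right] at this
        have hn'1 : n' = 1 := by
          have : n' ∈ N ⊓ D := ⟨hn', hn'D⟩
          rw [hNDbot] at this
          exact this
        rw [hn'1, one_mul] at hxB ⊢
        have := (iSupIndep_def.1 hind) j
        exact (Subgroup.disjoint_def.1 this) hxB hk'
    · rw [← hsup, ← hBsup]
      apply le_antisymm
      · refine iSup_le fun i => ?_
        refine Fin.cases ?_ (fun j => ?_) i
        · rw [Fin.cons_zero]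
          exact le_sup_left
        · rw [Fin.cons_succ]
          exact le_trans (le_iSup B j) le_sup_right
      · refine sup_le ?_ (iSup_le fun j => ?_)
        · exact le_of_eq_of_le (Fin.cons_zero (α := fun _ => Subgroup G) N B).symm
            (le_iSup (Fin.cons N B : Fin (k + 1) → Subgroup G) 0)
        · exact le_of_eq_of_le (Fin.cons_succ (α := fun _ => Subgroup G) N B j).symm
            (le_iSup (Fin.cons N B : Fin (k + 1) → Subgroup G) j.succ)

end main

end Cfsg.Agent.Helper19.BO
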