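import Mathlib
import Cfsg.Agent.Helper19.BO2
import Cfsg.Agent.Helper19.SL2Rec

/-!
helper19: best offenders, part 3: the group generated by a best offender of order `p` and a
conjugate under `O_{p'}(H)` is `SL₂(p)`.
-/

set_option autoImplicit false
open Cfsg

namespace Cfsg.Agent.Helper19.BO

open scoped commutatorElement

variable {G : Type*} [Group G]

theorem mem_sup_of_norm {N A : Subgroup G} (h : ∀ a ∈ A, ∀ n ∈ N, a * n * a⁻¹ ∈ N) {g : G}
    (hg : g ∈ N ⊔ A) : ∃ n ∈ N, ∃ a ∈ A, g = n * a := by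
  let T : Subgroup G :=
    { carrier := {z | ∃ n ∈ N, ∃ a ∈ A, z = n * a}
      one_mem' := ⟨1, N.one_mem, 1, A.one_mem, by simp⟩
      mul_mem' := by
        rintro _ _ ⟨n, hn, a, ha, rfl⟩ ⟨n', hn', a', ha', rfl⟩
        exact ⟨n * (a * n' * a⁻¹), mul_mem hn (h a ha n' hn'), a * a', mul_mem ha ha', by group⟩
      inv_mem' := by
        rintro _ ⟨n, hn, a, ha, rfl⟩
        exact ⟨a⁻¹ * n⁻¹ * a⁻¹⁻¹, h a⁻¹ (inv_mem ha) n⁻¹ (inv_mem hn), a⁻¹, inv_mem ha,
          by group⟩ }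
  have hle : N ⊔ A ≤ T :=
    sup_le (fun n hn => ⟨n, hn, 1, A.one_mem, by simp⟩) (fun a ha => ⟨1, N.one_mem, a, ha, by simp⟩)
  exact hle hg

theorem card_sup_le_of_norm [Finite G] {N A : Subgroup G}
    (h : ∀ a ∈ A, ∀ n ∈ N, a * n * a⁻¹ ∈ N) :
    Nat.card ↥(N ⊔ A) ≤ Nat.card N * Nat.card A := by
  rw [← Nat.card_prod]
  apply Nat.card_le_card_of_surjective (fun x : N × A =>
    (⟨x.1 * x.2, mul_mem (Subgroup.mem_sup_left x.1.2) (Subgroup.mem_sup_right x.2.2)⟩ : ↥(N ⊔ A)))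
  rintro ⟨g, hg⟩
  obtain ⟨n, hn, a, ha, rfl⟩ := mem_sup_of_norm h hg
  exact ⟨(⟨n, hn⟩, ⟨a, ha⟩), rfl⟩

theorem card_psub_le [Finite G] {p : ℕ} [Fact p.Prime] {H A P : Subgroup G} (hAH : A ≤ H)
    (hP : IsPGroup p P) (hPle : P ≤ Qc p H ⊔ A) : Nat.card P ≤ Nat.card A := by
  have h1 := Cfsg.Agent.Helper23.card_mul_card_le_sup_inf P (Qc p H)
  rw [pgroup_inf_Qc hP, Subgroup.card_bot, mul_one] at h1
  have h2 : Nat.card ↥(P ⊔ Qc p H) ≤ Nat.card ↥(Qc p H ⊔ A) :=
    Subgroup.card_le_of_le (sup_le hPle le_sup_left)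
  have h3 := card_sup_le_of_norm (N := Qc p H) (A := A)
    (fun a ha n hn => Qc_conj_mem p H (hAH ha) hn)
  have hpos : 0 < Nat.card (Qc p H) := Nat.card_pos
  have h4 : Nat.card P * Nat.card (Qc p H) ≤ Nat.card A * Nat.card (Qc p H) := by
    rw [mul_comm (Nat.card A)]
    exact h1.trans (h2.trans h3)
  exact Nat.le_of_mul_le_mul_right h4 hpos

theorem inf_eq_bot_of_card_prime [Finite G] {p : ℕ} [Fact p.Prime] {A B : Subgroup G}
    (hA : Nat.card A = p) (hB : Nat.card B = p) (hne : A ≠ B) : A ⊓ B = ⊥ := by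
  have hp := (Fact.out : p.Prime)
  by_contra hne'
  have hdvd : Nat.card ↥(A ⊓ B) ∣ p := hA ▸ Subgroup.card_dvd_of_le inf_le_left
  rcases (Nat.dvd_prime hp).1 hdvd with h | h
  · exact hne' (Subgroup.card_eq_one.1 h)
  · have e1 : A ⊓ B = A := Subgroup.eq_of_le_of_card_ge inf_le_left (by rw [h, hA])
    have e2 : A ⊓ B = B := Subgroup.eq_of_le_of_card_ge inf_le_right (by rw [h, hB])
    exact hne (e1.symm.trans e2)

theorem eq_zpowers_of_card_prime [Finite G] {p : ℕ} [Fact p.Prime] {A : Subgroup G}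
    (hcard : Nat.card A = p) {a : G} (ha : a ∈ A) (ha1 : a ≠ 1) :
    A = Subgroup.zpowers a ∧ orderOf a = p := by
  have hp := (Fact.out : p.Prime)
  have h1 : orderOf a ∣ p := by
    have := orderOf_dvd_natCard (⟨a, ha⟩ : A)
    rwa [Subgroup.orderOf_mk, hcard] at this
  have h2 : orderOf a = p := by
    rcases (Nat.dvd_prime hp).1 h1 with h | h
    · exact absurd (orderOf_eq_one_iff.1 h) ha1
    · exact h
  refine ⟨?_, h2⟩
  symm
  apply Subgroup.eq_of_le_of_card_ge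
  · rw [Subgroup.zpowers_le]
    exact ha
  · rw [hcard, Nat.card_zpowers, h2]

theorem map_conj_eq {V : Subgroup G} {x : G} (hx : x ∈ Subgroup.normalizer (V : Set G)) :
    V.map (MulAut.conj x).toMonoidHom = V := by
  ext y
  rw [Subgroup.mem_map]
  constructor
  · rintro ⟨v, hv, rfl⟩
    exact (Subgroup.mem_normalizer_iff.1 hx v).1 hv
  · intro hy
    refine ⟨x⁻¹ * y * x, ?_, ?_⟩
    · rw [Subgroup.mem_normalizer_iff.1 hx]
      have e : x * (x⁻¹ * y * x) * x⁻¹ = y := by group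
      rw [e]
      exact hy
    · show x * (x⁻¹ * y * x) * x⁻¹ = y
      group

/-- commutators with a join -/
theorem comm_sup_le {V W A A' : Subgroup G} (hWV : W ≤ V) (hA : ⁅V, A⁆ ≤ W)
    (hA' : ⁅V, A'⁆ ≤ W) :
    ⁅V, A ⊔ A'⁆ ≤ W ∧ A ⊔ A' ≤ Subgroup.normalizer (W : Set G) := by
  have hconj : ∀ g : G, (∀ v ∈ V, ⁅v, g⁆ ∈ W) → ∀ w ∈ W, g * w * g⁻¹ ∈ W := by
    intro g hg w hw
    have e : g * w * g⁻¹ = (⁅w, g⁆)⁻¹ * w := by
      rw [commutatorElement_def]
      group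
    rw [e]
    exact mul_mem (inv_mem (hg w (hWV hw))) hw
  let T : Subgroup G :=
    { carrier := {g | (∀ v ∈ V, ⁅v, g⁆ ∈ W) ∧ (∀ v ∈ V, ⁅v, g⁻¹⁆ ∈ W)}
      one_mem' := ⟨fun v _ => by rw [commutatorElement_one_right]; exact one_mem _,
        fun v _ => by rw [inv_one, commutatorElement_one_right]; exact one_mem _⟩
      mul_mem' := by
        rintro g h ⟨hg1, hg2⟩ ⟨hh1, hh2⟩
        refine ⟨fun v hv => ?_, fun v hv => ?_⟩
        · have e : ⁅v, g * h⁆ = ⁅v, g⁆ * (g * ⁅v, h⁆ * g⁻¹) := by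
            simp only [commutatorElement_def]
            group
          rw [e]
          exact mul_mem (hg1 v hv) (hconj g hg1 _ (hh1 v hv))
        · have e : ⁅v, (g * h)⁻¹⁆ = ⁅v, h⁻¹⁆ * (h⁻¹ * ⁅v, g⁻¹⁆ * h⁻¹⁻¹) := by
            simp only [commutatorElement_def]
            group
          rw [e]
          exact mul_mem (hh2 v hv) (hconj h⁻¹ hh2 _ (hg2 v hv))
      inv_mem' := by
        rintro g ⟨hg1, hg2⟩
        exact ⟨hg2, by rwa [inv_inv]⟩ }
  have hle : A ⊔ A' ≤ T := by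
    refine sup_le (fun a ha => ⟨fun v hv => hA (Subgroup.commutator_mem_commutator hv ha),
      fun v hv => hA (Subgroup.commutator_mem_commutator hv (inv_mem ha))⟩)
      (fun a ha => ⟨fun v hv => hA' (Subgroup.commutator_mem_commutator hv ha),
      fun v hv => hA' (Subgroup.commutator_mem_commutator hv (inv_mem ha))⟩)
  refine ⟨?_, ?_⟩
  · rw [Subgroup.commutator_le]
    intro v hv g hg
    exact (hle hg).1 v hv
  · intro g hg
    rw [Subgroup.mem_normalizer_iff]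
    intro w
    constructor
    · intro hw
      exact hconj g (hle hg).1 w hw
    · intro hw
      have h1 := hconj g⁻¹ (hle hg).2 _ hw
      have e : g⁻¹ * (g * w * g⁻¹) * g⁻¹⁻¹ = w := by group
      rwa [e] at h1

theorem comm_of_conj_mem_zpowers [Finite G] {p : ℕ} [Fact p.Prime] {a c : G} (hap : a ^ p = 1)
    (hc : orderOf c = p) (h : a * c * a⁻¹ ∈ Subgroup.zpowers c) : a * c = c * a := by
  have hp := (Fact.out : p.Prime)
  have h' : a * c * a⁻¹ ∈ Submonoid.powers c := (mem_powers_iff_mem_zpowers).2 h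
  obtain ⟨k, hk⟩ := (Submonoid.mem_powers_iff _ _).1 h'
  have key : ∀ n : ℕ, a ^ n * c * (a ^ n)⁻¹ = c ^ (k ^ n) := by
    intro n
    induction n with
    | zero => simp
    | succ n ih =>
      calc a ^ (n + 1) * c * (a ^ (n + 1))⁻¹ = a * (a ^ n * c * (a ^ n)⁻¹) * a⁻¹ := by
            rw [pow_succ']
            group
        _ = a * c ^ (k ^ n) * a⁻¹ := by rw [ih]
        _ = (a * c * a⁻¹) ^ (k ^ n) := by rw [conj_pow]
        _ = c ^ (k ^ (n + 1)) := by rw [← hk, ← pow_mul, pow_succ']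
  have h1 := key p
  rw [hap, one_mul, inv_one, mul_one] at h1
  have h2 : k ^ p ≡ 1 [MOD p] := by
    have h3 : c ^ (k ^ p) = c ^ 1 := by
      rw [pow_one]
      exact h1.symm
    have h4 := pow_eq_pow_iff_modEq.1 h3
    rwa [hc] at h4
  have h3 : ((k : ℕ) : ZMod p) = 1 := by
    have h4 := (ZMod.natCast_eq_natCast_iff _ _ _).2 h2
    rw [Nat.cast_pow, ZMod.pow_card, Nat.cast_one] at h4
    exact h4
  have h4 : k ≡ 1 [MOD p] := by
    apply (ZMod.natCast_eq_natCast_iff _ _ _).1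
    rw [h3, Nat.cast_one]
  have h5 : c ^ k = c ^ 1 := pow_eq_pow_iff_modEq.2 (by rw [hc]; exact h4)
  rw [pow_one] at h5
  rw [h5] at hk
  calc a * c = (a * c * a⁻¹) * a := by group
    _ = c * a := by rw [← hk]

section main

variable [Finite G] {p : ℕ} [Fact p.Prime] {V H : Subgroup G}

theorem stab_chain (S : Setup p V H) {W : Subgroup G} (hWV : W ≤ V) {g : G} (hg : g ∈ H)
    (hgW : ∀ w ∈ W, g * w = w * g) (hgV : ∀ v ∈ V, ⁅v, g⁆ ∈ W) : g ^ p = 1 := by
  apply S.faithful (pow_mem hg p)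
  rw [Subgroup.mem_centralizer_iff]
  intro v hv
  have hw : ⁅v⁻¹, g⁆ ∈ W := hgV _ (inv_mem hv)
  have hwc := hgW _ hw
  obtain ⟨w, hwdef⟩ : ∃ w, w = ⁅v⁻¹, g⁆ := ⟨_, rfl⟩
  rw [← hwdef] at hw hwc
  have e1 : g * v = v * w * g := by
    rw [hwdef, commutatorElement_def]
    group
  have key : ∀ n : ℕ, g ^ n * v = v * w ^ n * g ^ n := by
    intro n
    induction n with
    | zero => simp
    | succ n ih =>
      have e2 : g * w ^ n = w ^ n * g := (Commute.pow_right (hwc : Commute g w) n).eq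
      calc g ^ (n + 1) * v = g * (g ^ n * v) := by rw [pow_succ', mul_assoc]
        _ = g * (v * w ^ n * g ^ n) := by rw [ih]
        _ = (g * v) * w ^ n * g ^ n := by group
        _ = v * w * (g * w ^ n) * g ^ n := by rw [e1]; group
        _ = v * w * (w ^ n * g) * g ^ n := by rw [e2]
        _ = v * (w * w ^ n) * (g * g ^ n) := by group
        _ = v * w ^ (n + 1) * g ^ (n + 1) := by rw [← pow_succ', ← pow_succ']
  have h1 := key p
  rw [S.hV.2 _ (hWV hw), mul_one] at h1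
  exact h1.symm

theorem normal_p_trivial {A A' C : Subgroup G} (hAH : A ≤ H)
    (hcard : Nat.card A = p) (hcard' : Nat.card A' = p) (hne : A ≠ A')
    (hA'le : A' ≤ Qc p H ⊔ A) (hCle : C ≤ A ⊔ A') (hCp : IsPGroup p C)
    (hnA : A ≤ Subgroup.normalizer (C : Set G)) (hnA' : A' ≤ Subgroup.normalizer (C : Set G)) :
    C = ⊥ := by
  have hAp : IsPGroup p A := IsPGroup.of_card (n := 1) (by rw [hcard, pow_one])
  have hA'p : IsPGroup p A' := IsPGroup.of_card (n := 1) (by rw [hcard', pow_one])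
  have hEle : A ⊔ A' ≤ Qc p H ⊔ A := sup_le le_sup_right hA'le
  have h1 : C ≤ A := by
    have hp1 : IsPGroup p ↥(C ⊔ A) := IsPGroup.to_sup_of_normal_left' hCp hAp hnA
    have h2 := card_psub_le hAH hp1 (sup_le (hCle.trans hEle) le_sup_right)
    have h3 : A = C ⊔ A := Subgroup.eq_of_le_of_card_ge le_sup_right h2
    rw [h3]
    exact le_sup_left
  have h2 : C ≤ A' := by
    have hp1 : IsPGroup p ↥(C ⊔ A') := IsPGroup.to_sup_of_normal_left' hCp hA'p hnA'
    have h2 := card_psub_le hAH hp1 (sup_le (hCle.trans hEle) hA'le)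
    rw [hcard, ← hcard'] at h2
    have h3 : A' = C ⊔ A' := Subgroup.eq_of_le_of_card_ge le_sup_right h2
    rw [h3]
    exact le_sup_left
  rw [eq_bot_iff, ← inf_eq_bot_of_card_prime hcard hcard' hne]
  exact le_inf h1 h2

theorem cent_inf_bot (S : Setup p V H) {A A' W : Subgroup G} (hAH : A ≤ H) (hA'H : A' ≤ H)
    (hcard : Nat.card A = p) (hcard' : Nat.card A' = p) (hne : A ≠ A')
    (hA'le : A' ≤ Qc p H ⊔ A) (hWV : W ≤ V) (hA : ⁅V, A⁆ ≤ W) (hA' : ⁅V, A'⁆ ≤ W) :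
    (A ⊔ A') ⊓ Subgroup.centralizer (W : Set G) = ⊥ := by
  obtain ⟨hcomm, hnorm⟩ := comm_sup_le hWV hA hA'
  have hEH : A ⊔ A' ≤ H := sup_le hAH hA'H
  have hnC : A ⊔ A' ≤ Subgroup.normalizer
      (((A ⊔ A') ⊓ Subgroup.centralizer (W : Set G) : Subgroup G) : Set G) := by
    intro g hg
    exact normalizer_inf_le _ _ ⟨Subgroup.le_normalizer hg,
      Cfsg.Agent.Helper23.le_normalizer_centralizer hnorm hg⟩
  apply normal_p_trivial hAH hcard hcard' hne hA'le inf_le_left ?_ (le_sup_left.trans hnC)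
    (le_sup_right.trans hnC)
  intro g
  refine ⟨1, ?_⟩
  rw [pow_one]
  apply Subtype.ext
  have hg := g.2
  exact stab_chain S hWV (hEH hg.1)
    (fun w hw => (Subgroup.mem_centralizer_iff.1 hg.2 w hw).symm)
    (fun v hv => hcomm (Subgroup.commutator_mem_commutator hv hg.1))

/-- The configuration: `A = ⟨a⟩` a best offender of order `p`, `c` a generator of `[V, A]`,
`x ∈ O_{p'}(H)` not centralizing `a`. -/
theorem config (S : Setup p V H) {A : Subgroup G} (hAH : A ≤ H)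
    (hA : Cfsg.IsBestOffenderOn p V A) (hcard : Nat.card A = p) {a : G} (haA : a ∈ A)
    (ha1 : a ≠ 1) {c : G} (hc : c ∈ ⁅V, A⁆) (hc1 : c ≠ 1) {x : G} (hx : x ∈ Qc p H)
    (hxa : x * a ≠ a * x) :
    ∃ i j : ZMod p, i ≠ 0 ∧ j ≠ 0 ∧ SL2Rec.Frame p c (x * c * x⁻¹) ∧
      SL2Rec.ActsAs c (x * c * x⁻¹) a (SL2Rec.U i) ∧
      SL2Rec.ActsAs c (x * c * x⁻¹) (x * a * x⁻¹) (SL2Rec.L j) ∧
      A ⊔ A.map (MulAut.conj x).toMonoidHom = Subgroup.closure {a, x * a * x⁻¹} ∧
      ⁅V, A ⊔ A.map (MulAut.conj x).toMonoidHom⁆ =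
        Subgroup.zpowers c ⊔ Subgroup.zpowers (x * c * x⁻¹) ∧
      Nat.card ↥⁅V, A ⊔ A.map (MulAut.conj x).toMonoidHom⁆ = p ^ 2 ∧
      (A ⊔ A.map (MulAut.conj x).toMonoidHom) ⊓ Subgroup.centralizer
        ((⁅V, A ⊔ A.map (MulAut.conj x).toMonoidHom⁆ : Subgroup G) : Set G) = ⊥ ∧
      (∀ g ∈ A ⊔ A.map (MulAut.conj x).toMonoidHom,
        SL2Rec.ActsAs c (x * c * x⁻¹) g (1 : Matrix (Fin 2) (Fin 2) (ZMod p)) → g = 1) ∧
      A ⊔ A.map (MulAut.conj x).toMonoidHom ≤ Qc p H ⊔ A := by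
  have hp := (Fact.out : p.Prime)
  have hNZ : NeZero p := ⟨hp.ne_zero⟩
  obtain ⟨hAz, hao⟩ := eq_zpowers_of_card_prime hcard haA ha1
  obtain ⟨hVAcard, _, _⟩ := order_p_facts S hAH hA hcard
  obtain ⟨hVAz, hco⟩ := eq_zpowers_of_card_prime hVAcard hc hc1
  have hxH : x ∈ H := Qc_le p H hx
  have hxN := S.hHV hxH
  have haH := hAH haA
  have hVAV : ⁅V, A⁆ ≤ V :=
    Cfsg.Agent.Helper23.commutator_le_of_le_normalizer (hAH.trans S.hHV)
  have hcV : c ∈ V := hVAV hc
  have hAp : IsPGroup p A := IsPGroup.of_card (n := 1) (by rw [hcard, pow_one])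
  have hA'z0 : A.map (MulAut.conj x).toMonoidHom = Subgroup.zpowers (x * a * x⁻¹) := by
    rw [hAz, MonoidHom.map_zpowers]
    rfl
  have hA'card0 : Nat.card ↥(A.map (MulAut.conj x).toMonoidHom) = p :=
    (Subgroup.card_map_of_injective (MulAut.conj x).injective).trans hcard
  have hVmap : V.map (MulAut.conj x).toMonoidHom = V := map_conj_eq hxN
  have hVA'z0 : ⁅V, A.map (MulAut.conj x).toMonoidHom⁆ = Subgroup.zpowers (x * c * x⁻¹) := by
    have h1 := Subgroup.map_commutator V A (MulAut.conj x).toMonoidHom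
    rw [hVmap, hVAz, MonoidHom.map_zpowers] at h1
    rw [← h1]
    rfl
  obtain ⟨A', hA'def⟩ : ∃ A', A' = A.map (MulAut.conj x).toMonoidHom := ⟨_, rfl⟩
  obtain ⟨a', ha'def⟩ : ∃ a', a' = x * a * x⁻¹ := ⟨_, rfl⟩
  obtain ⟨c', hc'def⟩ : ∃ c', c' = x * c * x⁻¹ := ⟨_, rfl⟩
  rw [← hA'def] at hA'z0 hVA'z0 hA'card0 ⊢
  rw [← ha'def] at hA'z0 ⊢
  rw [← hc'def] at hVA'z0 ⊢
  have ha'A' : a' ∈ A' := hA'z0 ▸ Subgroup.mem_zpowers a'
  have hA'H : A' ≤ H := by
    rw [hA'z0, Subgroup.zpowers_le, ha'def]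
    exact mul_mem (mul_mem hxH haH) (inv_mem hxH)
  have hA'le : A' ≤ Qc p H ⊔ A := by
    rw [hA'z0, Subgroup.zpowers_le, ha'def]
    have e : x * a * x⁻¹ = (x * (a * x⁻¹ * a⁻¹)) * a := by group
    rw [e]
    exact mul_mem (Subgroup.mem_sup_left (mul_mem hx (Qc_conj_mem p H haH (inv_mem hx))))
      (Subgroup.mem_sup_right haA)
  have hne : A ≠ A' := by
    intro h
    have h1 : a' * a⁻¹ ∈ A := mul_mem (h ▸ ha'A') (inv_mem haA)
    have h2 : a' * a⁻¹ ∈ Qc p H := by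
      have e : a' * a⁻¹ = x * (a * x⁻¹ * a⁻¹) := by
        rw [ha'def]
        group
      rw [e]
      exact mul_mem hx (Qc_conj_mem p H haH (inv_mem hx))
    have h3 : a' * a⁻¹ ∈ A ⊓ Qc p H := ⟨h1, h2⟩
    rw [pgroup_inf_Qc hAp] at h3
    have h4 : a' * a⁻¹ = 1 := h3
    apply hxa
    rw [ha'def] at h4
    calc x * a = (x * a * x⁻¹ * a⁻¹) * a * x := by group
      _ = a * x := by rw [h4, one_mul]
  have hc'V : c' ∈ V := by
    rw [hc'def]
    exact (Subgroup.mem_normalizer_iff.1 hxN c).1 hcV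
  have hcp : c ^ p = 1 := S.hV.2 c hcV
  have hc'p : c' ^ p = 1 := S.hV.2 c' hc'V
  have hcc' : c * c' = c' * c := S.comm hcV hc'V
  have hac : a * c = c * a := by
    apply comm_of_conj_mem_zpowers (bo_pow S hAH hA haA) hco
    rw [← hVAz]
    have e : a * c * a⁻¹ = (⁅c, a⁆)⁻¹ * c := by
      rw [commutatorElement_def]
      group
    rw [e]
    exact mul_mem (inv_mem (Subgroup.commutator_mem_commutator hcV haA)) hc
  have ha'c' : a' * c' = c' * a' := by
    rw [ha'def, hc'def]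
    calc x * a * x⁻¹ * (x * c * x⁻¹) = x * (a * c) * x⁻¹ := by group
      _ = x * (c * a) * x⁻¹ := by rw [hac]
      _ = x * c * x⁻¹ * (x * a * x⁻¹) := by group
  have hzle : Subgroup.zpowers c ≤ V := by
    rw [Subgroup.zpowers_le]
    exact hcV
  have hz'le : Subgroup.zpowers c' ≤ V := by
    rw [Subgroup.zpowers_le]
    exact hc'V
  have hc'1 : c' ≠ 1 := by
    intro h
    apply hc1
    rw [hc'def] at h
    calc c = x⁻¹ * (x * c * x⁻¹) * x := by group
      _ = 1 := by rw [h]; group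
  have hc'o : orderOf c' = p := by
    rcases (Nat.dvd_prime hp).1 (orderOf_dvd_of_pow_eq_one hc'p) with h | h
    · exact absurd (orderOf_eq_one_iff.1 h) hc'1
    · exact h
  have hcardz : Nat.card (Subgroup.zpowers c) = p := by rw [Nat.card_zpowers, hco]
  have hcardz' : Nat.card (Subgroup.zpowers c') = p := by rw [Nat.card_zpowers, hc'o]
  have hneq : Subgroup.zpowers c ≠ Subgroup.zpowers c' := by
    intro h
    have hX := cent_inf_bot S hAH hA'H hcard hA'card0 hne hA'le hzle (le_of_eq hVAz)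
      (by rw [hVA'z0, h])
    have h1 : a ∈ (A ⊔ A') ⊓
        Subgroup.centralizer ((Subgroup.zpowers c : Subgroup G) : Set G) := by
      refine Subgroup.mem_inf.2 ⟨Subgroup.mem_sup_left haA, ?_⟩
      rw [Subgroup.mem_centralizer_iff]
      intro w hw
      obtain ⟨k, rfl⟩ := Subgroup.mem_zpowers_iff.1 hw
      exact ((Commute.zpow_right (hac : Commute a c) k).eq).symm
    rw [hX] at h1
    exact ha1 h1
  have hinf : Subgroup.zpowers c ⊓ Subgroup.zpowers c' = ⊥ :=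
    inf_eq_bot_of_card_prime hcardz hcardz' hneq
  have hF : SL2Rec.Frame p c c' := by
    refine ⟨hcc', hcp, hc'p, ?_⟩
    intro m n hmn
    have h1 : SL2Rec.zp c m ∈ Subgroup.zpowers c ⊓ Subgroup.zpowers c' := by
      refine Subgroup.mem_inf.2 ⟨SL2Rec.zp_mem (Subgroup.mem_zpowers c) m, ?_⟩
      have h2 : SL2Rec.zp c m = (SL2Rec.zp c' n)⁻¹ := eq_inv_of_mul_eq_one_left hmn
      rw [h2]
      exact inv_mem (SL2Rec.zp_mem (Subgroup.mem_zpowers c') n)
    rw [hinf] at h1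
    have h2 : SL2Rec.zp c m = 1 := h1
    have h3 : SL2Rec.zp c' n = 1 := by
      rw [h2, one_mul] at hmn
      exact hmn
    constructor
    · have h2' : c ^ m.val = 1 := h2
      have h4 := orderOf_dvd_of_pow_eq_one h2'
      rw [hco] at h4
      have h5 := (ZMod.natCast_eq_zero_iff m.val p).2 h4
      rwa [ZMod.natCast_zmod_val] at h5
    · have h3' : c' ^ n.val = 1 := h3
      have h4 := orderOf_dvd_of_pow_eq_one h3'
      rw [hc'o] at h4
      have h5 := (ZMod.natCast_eq_zero_iff n.val p).2 h4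
      rwa [ZMod.natCast_zmod_val] at h5
  have h5 : ⁅a, c'⁆ ∈ Subgroup.zpowers c := by
    rw [← hVAz, ← commutatorElement_inv c' a]
    exact inv_mem (Subgroup.commutator_mem_commutator hc'V haA)
  obtain ⟨k, hk⟩ := (Submonoid.mem_powers_iff _ _).1 ((mem_powers_iff_mem_zpowers).2 h5)
  have h6 : ⁅a', c⁆ ∈ Subgroup.zpowers c' := by
    rw [← hVA'z0, ← commutatorElement_inv c a']
    exact inv_mem (Subgroup.commutator_mem_commutator hcV ha'A')
  obtain ⟨l, hl⟩ := (Submonoid.mem_powers_iff _ _).1 ((mem_powers_iff_mem_zpowers).2 h6)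
  have hActa : SL2Rec.ActsAs c c' a (SL2Rec.U (k : ZMod p)) := by
    apply SL2Rec.actsAs_of_basis hF
    · have e : (fun i => SL2Rec.U (k : ZMod p) i 0) =
          (fun i => if i = 0 then (1 : ZMod p) else 0) := by
        funext i
        fin_cases i <;> simp [SL2Rec.U]
      rw [e, SL2Rec.vec_e0 hF, hac]
      group
    · show a * c' * a⁻¹ = SL2Rec.zp c (SL2Rec.U (k : ZMod p) 0 1) *
        SL2Rec.zp c' (SL2Rec.U (k : ZMod p) 1 1)
      have e0 : SL2Rec.U (k : ZMod p) 0 1 = (k : ZMod p) := by simp [SL2Rec.U]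
      have e1 : SL2Rec.U (k : ZMod p) 1 1 = 1 := by simp [SL2Rec.U]
      rw [e0, e1, SL2Rec.zp_natCast hcp, SL2Rec.zp_one hc'p, hk, commutatorElement_def]
      group
  have hActa' : SL2Rec.ActsAs c c' a' (SL2Rec.L (l : ZMod p)) := by
    apply SL2Rec.actsAs_of_basis hF
    · show a' * c * a'⁻¹ = SL2Rec.zp c (SL2Rec.L (l : ZMod p) 0 0) *
        SL2Rec.zp c' (SL2Rec.L (l : ZMod p) 1 0)
      have e0 : SL2Rec.L (l : ZMod p) 0 0 = 1 := by simp [SL2Rec.L]
      have e1 : SL2Rec.L (l : ZMod p) 1 0 = (l : ZMod p) := by simp [SL2Rec.L]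
      have e2 : a' * c * a'⁻¹ = ⁅a', c⁆ * c := by
        rw [commutatorElement_def]
        group
      rw [e0, e1, SL2Rec.zp_one hcp, SL2Rec.zp_natCast hc'p, e2, ← hl]
      exact ((Commute.pow_right (hcc' : Commute c c') l).eq).symm
    · have e : (fun i => SL2Rec.L (l : ZMod p) i 1) =
          (fun i => if i = 1 then (1 : ZMod p) else 0) := by
        funext i
        fin_cases i <;> simp [SL2Rec.L]
      rw [e, SL2Rec.vec_e1 hF, ha'c']
      group
  obtain ⟨W, hWdef⟩ : ∃ W, W = Subgroup.zpowers c ⊔ Subgroup.zpowers c' := ⟨_, rfl⟩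
  have hWV : W ≤ V := hWdef ▸ sup_le hzle hz'le
  have hAW : ⁅V, A⁆ ≤ W := by
    rw [hVAz, hWdef]
    exact le_sup_left
  have hA'W : ⁅V, A'⁆ ≤ W := by
    rw [hVA'z0, hWdef]
    exact le_sup_right
  obtain ⟨hcomm, hnorm⟩ := comm_sup_le hWV hAW hA'W
  have hVE : ⁅V, A ⊔ A'⁆ = W := by
    apply le_antisymm hcomm
    rw [hWdef]
    refine sup_le ?_ ?_
    · rw [← hVAz]
      exact Subgroup.commutator_mono le_rfl le_sup_left
    · rw [← hVA'z0]
      exact Subgroup.commutator_mono le_rfl le_sup_right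
  have hX := cent_inf_bot S hAH hA'H hcard hA'card0 hne hA'le hWV hAW hA'W
  have hfaith : ∀ g ∈ A ⊔ A',
      SL2Rec.ActsAs c c' g (1 : Matrix (Fin 2) (Fin 2) (ZMod p)) → g = 1 := by
    intro g hg hact
    have h0 := SL2Rec.ActsAs.comm0 hF hact
    have h1 := SL2Rec.ActsAs.comm1 hF hact
    have h2 : g ∈ (A ⊔ A') ⊓ Subgroup.centralizer (W : Set G) := by
      refine Subgroup.mem_inf.2 ⟨hg, ?_⟩
      have hle : W ≤ Subgroup.centralizer ({g} : Set G) := by
        rw [hWdef]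
        refine sup_le ?_ ?_
        · rw [Subgroup.zpowers_le, Subgroup.mem_centralizer_iff]
          intro y hy
          rw [Set.mem_singleton_iff] at hy
          rw [hy]
          exact h0
        · rw [Subgroup.zpowers_le, Subgroup.mem_centralizer_iff]
          intro y hy
          rw [Set.mem_singleton_iff] at hy
          rw [hy]
          exact h1
      rw [Subgroup.mem_centralizer_iff]
      intro w hw
      exact (Subgroup.mem_centralizer_iff.1 (hle hw) g rfl).symm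
    rw [hX] at h2
    exact h2
  have hk0 : (k : ZMod p) ≠ 0 := by
    intro h
    rw [h, SL2Rec.U_zero] at hActa
    exact ha1 (hfaith a (Subgroup.mem_sup_left haA) hActa)
  have hl0 : (l : ZMod p) ≠ 0 := by
    intro h
    rw [h, SL2Rec.L_zero] at hActa'
    have h1 := hfaith a' (Subgroup.mem_sup_right ha'A') hActa'
    apply ha1
    rw [ha'def] at h1
    calc a = x⁻¹ * (x * a * x⁻¹) * x := by group
      _ = 1 := by rw [h1]; group
  have hEcl : A ⊔ A' = Subgroup.closure {a, a'} := by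
    rw [hAz, hA'z0]
    apply le_antisymm
    · refine sup_le ?_ ?_
      · rw [Subgroup.zpowers_le]
        exact Subgroup.subset_closure (by simp)
      · rw [Subgroup.zpowers_le]
        exact Subgroup.subset_closure (by simp)
    · rw [Subgroup.closure_le]
      rintro y (rfl | rfl)
      · exact Subgroup.mem_sup_left (Subgroup.mem_zpowers _)
      · exact Subgroup.mem_sup_right (Subgroup.mem_zpowers _)
  have hWcard : Nat.card W = p ^ 2 := by
    apply le_antisymm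
    · have h1 := card_sup_le_of_norm (N := Subgroup.zpowers c) (A := Subgroup.zpowers c') (by
        intro y hy n hn
        have h2 : y * n * y⁻¹ = n := by
          have h3 := S.comm (hz'le hy) (hzle hn)
          rw [h3]
          group
        rw [h2]
        exact hn)
      rw [hcardz, hcardz'] at h1
      rw [hWdef, pow_two]
      exact h1
    · have h1 := Cfsg.Agent.Helper23.card_mul_card_le_sup_inf (Subgroup.zpowers c)
        (Subgroup.zpowers c')
      rw [hinf, Subgroup.card_bot, mul_one, hcardz, hcardz'] at h1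
      rw [hWdef, pow_two]
      exact h1
  exact ⟨k, l, hk0, hl0, hF, hActa, hActa', hEcl, hVE.trans hWdef, by rw [hVE]; exact hWcard,
    by rw [hVE]; exact hX, hfaith, sup_le le_sup_right hA'le⟩

/-- `p ∈ {2, 3}` from an `SL₂(p)` inside `O_{p'}(H) A`. -/
theorem p_eq_two_or_three (S : Setup p V H) {A : Subgroup G} (hAH : A ≤ H)
    (hA : Cfsg.IsBestOffenderOn p V A) (hcard : Nat.card A = p) {a : G} (haA : a ∈ A)
    (ha1 : a ≠ 1) {c c' : G} {i : ZMod p} (hF : SL2Rec.Frame p c c')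
    (hUa : SL2Rec.ActsAs c c' a (SL2Rec.U i)) {E : Subgroup G} (haE : a ∈ E)
    (hEle : E ≤ Qc p H ⊔ A) (ρ : E ≃* Matrix.SpecialLinearGroup (Fin 2) (ZMod p))
    (hρ : ∀ g : E, SL2Rec.ActsAs c c' (g : G)
      ((ρ g : Matrix.SpecialLinearGroup (Fin 2) (ZMod p)) : Matrix (Fin 2) (Fin 2) (ZMod p))) :
    p = 2 ∨ p = 3 := by
  have hp := (Fact.out : p.Prime)
  by_cases hp2 : p = 2
  · exact Or.inl hp2
  right
  have h2 : (2 : ZMod p) ≠ 0 := by
    intro h
    have h3 : ((2 : ℕ) : ZMod p) = 0 := by exact_mod_cast h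
    rw [ZMod.natCast_eq_zero_iff] at h3
    exact hp2 ((Nat.prime_dvd_prime_iff_eq hp Nat.prime_two).1 h3)
  obtain ⟨h, hh⟩ : ∃ h : E, ((ρ h : Matrix.SpecialLinearGroup (Fin 2) (ZMod p)) :
      Matrix (Fin 2) (Fin 2) (ZMod p)) = !![2, 0; 0, 2⁻¹] := by
    obtain ⟨h, hh⟩ := ρ.surjective ⟨!![2, 0; 0, 2⁻¹], by simp [Matrix.det_fin_two, h2]⟩
    exact ⟨h, by rw [hh]⟩
  have hact := hρ h
  rw [hh] at hact
  have h1 := hact.mul hUa
  have h2' := (hUa.pow 4).mul hact
  have e : (!![2, 0; 0, 2⁻¹] : Matrix (Fin 2) (Fin 2) (ZMod p)) * SL2Rec.U i =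
      SL2Rec.U i ^ 4 * !![2, 0; 0, 2⁻¹] := by
    rw [SL2Rec.U_pow]
    ext k l
    fin_cases k <;> fin_cases l <;> simp [SL2Rec.U, Matrix.mul_apply, Fin.sum_univ_two]
    field_simp
    ring
  rw [e] at h1
  have e1 : ρ (h * ⟨a, haE⟩) = ρ (⟨a, haE⟩ ^ 4 * h) :=
    Subtype.ext ((SL2Rec.ActsAs.unique hF (hρ _) h1).trans
      (SL2Rec.ActsAs.unique hF (hρ _) h2').symm)
  have e2 := ρ.injective e1
  have e3 : (h : G) * a = a ^ 4 * h := congrArg Subtype.val e2
  have e4 : ⁅(h : G), a⁆ = a ^ 3 := by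
    rw [commutatorElement_def, e3]
    group
  obtain ⟨q, hq, a0, ha0, hqa⟩ := mem_sup_of_norm (N := Qc p H) (A := A)
    (fun y hy n hn => Qc_conj_mem p H (hAH hy) hn) (hEle h.2)
  have e5 : ⁅(h : G), a⁆ ∈ Qc p H := by
    rw [hqa]
    have hc := bo_comm S hAH hA ha0 haA
    have e : ⁅q * a0, a⁆ = q * (a * q⁻¹ * a⁻¹) := by
      rw [commutatorElement_def]
      calc q * a0 * a * (q * a0)⁻¹ * a⁻¹ = q * (a0 * a) * a0⁻¹ * q⁻¹ * a⁻¹ := by group
        _ = q * (a * a0) * a0⁻¹ * q⁻¹ * a⁻¹ := by rw [hc]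
        _ = q * (a * q⁻¹ * a⁻¹) := by group
    rw [e]
    exact mul_mem hq (Qc_conj_mem p H (hAH haA) (inv_mem hq))
  have hAp : IsPGroup p A := IsPGroup.of_card (n := 1) (by rw [hcard, pow_one])
  have e6 : a ^ 3 ∈ A ⊓ Qc p H := ⟨pow_mem haA 3, e4 ▸ e5⟩
  rw [pgroup_inf_Qc hAp] at e6
  have e7 : a ^ 3 = 1 := e6
  have hao := (eq_zpowers_of_card_prime hcard haA ha1).2
  have h3 := orderOf_dvd_of_pow_eq_one e7
  rw [hao] at h3
  exact (Nat.prime_dvd_prime_iff_eq hp Nat.prime_three).1 h3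

end main

end Cfsg.Agent.Helper19.BO
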