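import Mathlib
import Cfsg.Agent.Helper19.BO3
import Cfsg.Agent.S0007
import Cfsg.Agent.S0023

/-!
helper19: best offenders, part 4: `[O_{p'}(H), A]` is a `q₀`-group.
-/

set_option autoImplicit false
open Cfsg

namespace Cfsg.Agent.Helper19.BO

open scoped commutatorElement

variable {G : Type*} [Group G]

theorem mat2_pow : ∀ i j : ZMod 2, i ≠ 0 → j ≠ 0 →
    (SL2Rec.L j * SL2Rec.U (-i)) ^ 3 = (1 : Matrix (Fin 2) (Fin 2) (ZMod 2)) := by
  decide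

theorem mat3_pow : ∀ i j : ZMod 3, i ≠ 0 → j ≠ 0 →
    ((SL2Rec.L j * SL2Rec.U (-i)) ^ 8 = (1 : Matrix (Fin 2) (Fin 2) (ZMod 3)) ∨
      ((SL2Rec.L j * SL2Rec.U (-i)) ^ 6 = (1 : Matrix (Fin 2) (Fin 2) (ZMod 3)) ∧
        (SL2Rec.L j * SL2Rec.U (-i)) ^ 2 ≠ (1 : Matrix (Fin 2) (Fin 2) (ZMod 3)))) := by
  decide

theorem mat3_ne : ∀ i j : ZMod 3, i ≠ 0 → j ≠ 0 →
    SL2Rec.L j * SL2Rec.U (-i) * (SL2Rec.L (-j) * SL2Rec.U i) ≠
      SL2Rec.L (-j) * SL2Rec.U i * (SL2Rec.L j * SL2Rec.U (-i)) := by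
  decide

section main

variable [Finite G] {p : ℕ} [Fact p.Prime] {V H : Subgroup G}

/-- the commutators `[y, b]`, `[y, b⁻¹]` as matrices -/
theorem comm_acts (S : Setup p V H) {A : Subgroup G} (hAH : A ≤ H)
    (hA : Cfsg.IsBestOffenderOn p V A) (hcard : Nat.card A = p) {b : G} (hbA : b ∈ A)
    (hb1 : b ≠ 1) {c : G} (hc : c ∈ ⁅V, A⁆) (hc1 : c ≠ 1) {y : G} (hy : y ∈ Qc p H)
    (hyb : y * b ≠ b * y) :
    ∃ i j : ZMod p, i ≠ 0 ∧ j ≠ 0 ∧ SL2Rec.Frame p c (y * c * y⁻¹) ∧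
      SL2Rec.ActsAs c (y * c * y⁻¹) ⁅y, b⁆ (SL2Rec.L j * SL2Rec.U (-i)) ∧
      SL2Rec.ActsAs c (y * c * y⁻¹) ⁅y, b⁻¹⁆ (SL2Rec.L (-j) * SL2Rec.U i) ∧
      (∀ g ∈ A ⊔ A.map (MulAut.conj y).toMonoidHom,
        SL2Rec.ActsAs c (y * c * y⁻¹) g (1 : Matrix (Fin 2) (Fin 2) (ZMod p)) → g = 1) ∧
      ⁅y, b⁆ ∈ A ⊔ A.map (MulAut.conj y).toMonoidHom ∧
      ⁅y, b⁻¹⁆ ∈ A ⊔ A.map (MulAut.conj y).toMonoidHom := by
  obtain ⟨i, j, hi, hj, hF, hUb, hLb, hEcl, hVE, hVEcard, hX, hfaith, hEle⟩ :=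
    config S hAH hA hcard hbA hb1 hc hc1 hy hyb
  have hUb' : SL2Rec.ActsAs c (y * c * y⁻¹) b⁻¹ (SL2Rec.U (-i)) :=
    hUb.inv (by rw [SL2Rec.U_mul, add_neg_cancel, SL2Rec.U_zero])
  have hLb' : SL2Rec.ActsAs c (y * c * y⁻¹) (y * b * y⁻¹)⁻¹ (SL2Rec.L (-j)) :=
    hLb.inv (by rw [SL2Rec.L_mul, add_neg_cancel, SL2Rec.L_zero])
  have e1 : ⁅y, b⁆ = y * b * y⁻¹ * b⁻¹ := commutatorElement_def y b
  have e2 : ⁅y, b⁻¹⁆ = (y * b * y⁻¹)⁻¹ * b := by
    rw [commutatorElement_def]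
    group
  have hm : y * b * y⁻¹ ∈ A.map (MulAut.conj y).toMonoidHom := ⟨b, hbA, rfl⟩
  refine ⟨i, j, hi, hj, hF, ?_, ?_, hfaith, ?_, ?_⟩
  · rw [e1]
    exact hLb.mul hUb'
  · rw [e2]
    exact hLb'.mul hUb
  · rw [e1]
    exact mul_mem (Subgroup.mem_sup_right hm) (Subgroup.mem_sup_left (inv_mem hbA))
  · rw [e2]
    exact mul_mem (Subgroup.mem_sup_right (inv_mem hm)) (Subgroup.mem_sup_left hbA)

theorem comm_pow_eq_one (S : Setup p V H) {A : Subgroup G} (hAH : A ≤ H)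
    (hA : Cfsg.IsBestOffenderOn p V A) (hcard : Nat.card A = p) {b : G} (hbA : b ∈ A)
    {y : G} (hy : y ∈ Qc p H) :
    (p = 2 → ⁅y, b⁆ ^ 3 = 1) ∧ (p = 3 → ⁅y, b⁆ ^ 8 = 1) := by
  by_cases hb1 : b = 1
  · rw [hb1, commutatorElement_one_right]
    simp
  by_cases hyb : y * b = b * y
  · rw [commutatorElement_eq_one_iff_mul_comm.2 hyb]
    simp
  obtain ⟨hVAcard, _, _⟩ := order_p_facts S hAH hA hcard
  obtain ⟨c, hc, hc1, _⟩ := exists_zpowers_of_card_prime hVAcard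
  obtain ⟨i, j, hi, hj, hF, hact, _, hfaith, hmem, _⟩ :=
    comm_acts S hAH hA hcard hbA hb1 hc hc1 hy hyb
  constructor
  · intro hp2
    subst hp2
    have h1 := hact.pow 3
    rw [mat2_pow i j hi hj] at h1
    exact hfaith _ (pow_mem hmem 3) h1
  · intro hp3
    subst hp3
    rcases mat3_pow i j hi hj with h8 | ⟨h6, h2⟩
    · have h1 := hact.pow 8
      rw [h8] at h1
      exact hfaith _ (pow_mem hmem 8) h1
    · exfalso
      have h1 := hact.pow 6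
      rw [h6] at h1
      have h6' : ⁅y, b⁆ ^ 6 = 1 := hfaith _ (pow_mem hmem 6) h1
      have hQ : ⁅y, b⁆ ∈ Qc 3 H := by
        have e : ⁅y, b⁆ = y * (b * y⁻¹ * b⁻¹) := by
          rw [commutatorElement_def]
          group
        rw [e]
        exact mul_mem hy (Qc_conj_mem 3 H (hAH hbA) (inv_mem hy))
      have hd1 : orderOf ⁅y, b⁆ ∣ 2 * 3 := orderOf_dvd_of_pow_eq_one h6'
      have hd2 : orderOf ⁅y, b⁆ ∣ Nat.card (Qc 3 H) := by
        have h3 := orderOf_dvd_natCard (⟨⁅y, b⁆, hQ⟩ : Qc 3 H)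
        rwa [Subgroup.orderOf_mk] at h3
      have hcop : (orderOf ⁅y, b⁆).Coprime 3 :=
        Nat.Coprime.coprime_dvd_left hd2 (Qc_coprime 3 H)
      have hd3 : orderOf ⁅y, b⁆ ∣ 2 := hcop.dvd_of_dvd_mul_right hd1
      have h2' : ⁅y, b⁆ ^ 2 = 1 := orderOf_dvd_iff_pow_eq_one.1 hd3
      have h3 := hact.pow 2
      rw [h2'] at h3
      exact h2 (SL2Rec.ActsAs.unique hF h3 SL2Rec.ActsAs.one)

/-- `[O_{p'}(H), A]` is a `q`-group if all commutators `[y, b]` are `q`-elements. -/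
theorem comm_isPGroup (S : Setup p V H) {A : Subgroup G} (hAH : A ≤ H)
    (hA : Cfsg.IsBestOffenderOn p V A) (hcard : Nat.card A = p) {q N : ℕ} [Fact q.Prime]
    (hN : ∀ y ∈ Qc p H, ∀ b ∈ A, ⁅y, b⁆ ^ (q ^ N) = 1) : IsPGroup q ↥⁅Qc p H, A⁆ := by
  have hAQ : A ≤ Subgroup.normalizer (Qc p H : Set G) := hAH.trans (Qc_normal p H)
  have hcop : (Nat.card A).Coprime (Nat.card (Qc p H)) := by
    rw [hcard]
    exact (Qc_coprime p H).symm
  have hsolv : Group.IsSolvable A :=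
    isSolvable_of_comm (fun a b => Subtype.ext (bo_comm S hAH hA a.2 b.2))
  have hsyl : ∀ r : ℕ, r.Prime → ∃ P : Sylow r (Qc p H), A ≤ Subgroup.normalizer
      (((P : Subgroup (Qc p H)).map (Qc p H).subtype : Subgroup G) : Set G) := by
    intro r hr
    haveI : Fact r.Prime := ⟨hr⟩
    exact Cfsg.Agent.S0023.result A (Qc p H) hAQ hcop (Or.inl hsolv) r
  obtain ⟨T, hT⟩ := hsyl q Fact.out
  obtain ⟨C, hCdef⟩ : ∃ C : Subgroup (Qc p H),
    C = (Subgroup.centralizer (A : Set G)).subgroupOf (Qc p H) := ⟨_, rfl⟩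
  have hcopidx : (T : Subgroup (Qc p H)).index.Coprime C.index := by
    apply Nat.coprime_of_dvd
    intro r hr hrT hrC
    haveI : Fact r.Prime := ⟨hr⟩
    have hrq : r ≠ q := by
      rintro rfl
      exact T.not_dvd_index hrT
    obtain ⟨R, hR⟩ := hsyl r hr
    have hRC : (R : Subgroup (Qc p H)) ≤ C := by
      intro z hz
      rw [hCdef, Subgroup.mem_subgroupOf, Subgroup.mem_centralizer_iff]
      intro b hb
      have hzR' : (z : G) ∈ (R : Subgroup (Qc p H)).map (Qc p H).subtype := ⟨z, hz, rfl⟩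
      have h1 : ⁅(z : G), b⁆ ∈ (R : Subgroup (Qc p H)).map (Qc p H).subtype := by
        have h2 := (Subgroup.mem_normalizer_iff.1 (hR hb) (z : G)⁻¹).1 (inv_mem hzR')
        have e : ⁅(z : G), b⁆ = z * (b * (z : G)⁻¹ * b⁻¹) := by
          rw [commutatorElement_def]
          group
        rw [e]
        exact mul_mem hzR' h2
      obtain ⟨w, hw, hwz⟩ := h1
      obtain ⟨k, hk⟩ := R.isPGroup' ⟨w, hw⟩
      have hk' : ⁅(z : G), b⁆ ^ (r ^ k) = 1 := by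
        rw [← hwz]
        have h3 := congrArg (fun u : (R : Subgroup (Qc p H)) => ((u : Qc p H) : G)) hk
        simpa using h3
      have h2 := hN z z.2 b hb
      have h3 : orderOf ⁅(z : G), b⁆ ∣ r ^ k := orderOf_dvd_of_pow_eq_one hk'
      have h4 : orderOf ⁅(z : G), b⁆ ∣ q ^ N := orderOf_dvd_of_pow_eq_one h2
      have h5 : (r ^ k).Coprime (q ^ N) :=
        Nat.Coprime.pow _ _ ((Nat.coprime_primes hr Fact.out).2 hrq)
      have h6 : orderOf ⁅(z : G), b⁆ = 1 := Nat.eq_one_of_dvd_coprimes h5 h3 h4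
      have h7 := orderOf_eq_one_iff.1 h6
      rw [commutatorElement_eq_one_iff_mul_comm] at h7
      exact h7.symm
    have h8 : C.index ∣ (R : Subgroup (Qc p H)).index := Subgroup.index_dvd_of_le hRC
    exact R.not_dvd_index (dvd_trans hrC h8)
  obtain ⟨_, hprod⟩ := Cfsg.Agent.S0007.result (T : Subgroup (Qc p H)) C hcopidx
  have hle : ⁅Qc p H, A⁆ ≤ (T : Subgroup (Qc p H)).map (Qc p H).subtype := by
    rw [Subgroup.commutator_le]
    intro y hy b hb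
    obtain ⟨t, ht, z, hz, hyz⟩ := hprod ⟨y, hy⟩
    have hy' : y = (t : G) * (z : G) := congrArg Subtype.val hyz
    have hzb : (z : G) * b = b * z := by
      rw [hCdef, Subgroup.mem_subgroupOf] at hz
      exact (Subgroup.mem_centralizer_iff.1 hz b hb).symm
    have htT : (t : G) ∈ (T : Subgroup (Qc p H)).map (Qc p H).subtype := ⟨t, ht, rfl⟩
    have h1 := (Subgroup.mem_normalizer_iff.1 (hT hb) (t : G)⁻¹).1 (inv_mem htT)
    have e : ⁅y, b⁆ = (t : G) * (b * (t : G)⁻¹ * b⁻¹) := by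
      rw [hy', commutatorElement_def]
      calc (t : G) * z * b * ((t : G) * z)⁻¹ * b⁻¹
          = t * (z * b) * (z : G)⁻¹ * (t : G)⁻¹ * b⁻¹ := by group
        _ = t * (b * z) * (z : G)⁻¹ * (t : G)⁻¹ * b⁻¹ := by rw [hzb]
        _ = _ := by group
    rw [e]
    exact mul_mem htT h1
  have hTp : IsPGroup q ((T : Subgroup (Qc p H)).map (Qc p H).subtype) := T.isPGroup'.map _
  exact hTp.to_le hle

end main

end Cfsg.Agent.Helper19.BO
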