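import Mathlib
import Cfsg.Agent.Helper19.BO3
import Cfsg.Agent.Helper14.Subnormal

/-!
helper19: two subnormal subgroups acting irreducibly on their commutator modules
(Kurzweil–Stellmacher 9.3, the lemma behind the product decomposition of best-offender groups).
-/

set_option autoImplicit false
open Cfsg

namespace Cfsg.Agent.Helper19.LemL

open scoped commutatorElement
open Cfsg.Agent.Helper19.BO

variable {G : Type*} [Group G]

/-- conjugate subgroup -/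
def cj (g : G) (K : Subgroup G) : Subgroup G := K.map (MulAut.conj g).toMonoidHom

theorem mem_cj {g : G} {K : Subgroup G} {y : G} : y ∈ cj g K ↔ g⁻¹ * y * g ∈ K := by
  unfold cj
  rw [Subgroup.mem_map]
  constructor
  · rintro ⟨k, hk, rfl⟩
    have e : g⁻¹ * ((MulAut.conj g).toMonoidHom k) * g = k := by
      show g⁻¹ * (g * k * g⁻¹) * g = k
      group
    rw [e]
    exact hk
  · intro h
    refine ⟨g⁻¹ * y * g, h, ?_⟩
    show g * (g⁻¹ * y * g) * g⁻¹ = y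
    group

theorem conj_mem_cj {g k : G} {K : Subgroup G} (hk : k ∈ K) : g * k * g⁻¹ ∈ cj g K :=
  ⟨k, hk, rfl⟩

theorem card_cj (g : G) (K : Subgroup G) : Nat.card (cj g K) = Nat.card K :=
  Subgroup.card_map_of_injective (MulAut.conj g).injective

theorem cj_comm {V : Subgroup G} {g : G} (hg : g ∈ Subgroup.normalizer (V : Set G))
    (K : Subgroup G) : ⁅V, cj g K⁆ = cj g ⁅V, K⁆ := by
  unfold cj
  rw [Subgroup.map_commutator, map_conj_eq hg]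

theorem cj_le {g : G} {K B : Subgroup G} (hK : K ≤ B) (hg : g ∈ B) : cj g K ≤ B := by
  intro y hy
  rw [mem_cj] at hy
  have h1 := mul_mem (mul_mem hg (hK hy)) (inv_mem hg)
  have e : g * (g⁻¹ * y * g) * g⁻¹ = y := by group
  rwa [e] at h1

theorem cj_mono {g : G} {K B : Subgroup G} (hK : K ≤ B) : cj g K ≤ cj g B :=
  Subgroup.map_mono hK

theorem cj_cj (g h : G) (K : Subgroup G) : cj g (cj h K) = cj (g * h) K := by
  ext y
  rw [mem_cj, mem_cj, mem_cj]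
  have e : h⁻¹ * (g⁻¹ * y * g) * h = (g * h)⁻¹ * y * (g * h) := by group
  rw [e]

theorem cj_one (K : Subgroup G) : cj 1 K = K := by
  ext y
  rw [mem_cj]
  simp

theorem cj_inv_cj (g : G) (K : Subgroup G) : cj g⁻¹ (cj g K) = K := by
  rw [cj_cj, inv_mul_cancel, cj_one]

theorem cj_cj_inv (g : G) (K : Subgroup G) : cj g (cj g⁻¹ K) = K := by
  rw [cj_cj, mul_inv_cancel, cj_one]

theorem cj_eq_of_mem_normalizer {g : G} {K : Subgroup G}
    (hg : g ∈ Subgroup.normalizer (K : Set G)) : cj g K = K :=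
  map_conj_eq hg

theorem mem_normalizer_of_cj_eq {g : G} {K : Subgroup G} (h : cj g K = K) :
    g ∈ Subgroup.normalizer (K : Set G) := by
  rw [Subgroup.mem_normalizer_iff]
  intro y
  constructor
  · intro hy
    rw [← h]
    exact conj_mem_cj hy
  · intro hy
    rw [← h, mem_cj] at hy
    have e : g⁻¹ * (g * y * g⁻¹) * g = y := by group
    rwa [e] at hy

theorem cj_normalizer {g : G} {K U : Subgroup G}
    (h : K ≤ Subgroup.normalizer (U : Set G)) :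
    cj g K ≤ Subgroup.normalizer ((cj g U : Subgroup G) : Set G) := by
  intro y hy
  rw [mem_cj] at hy
  apply mem_normalizer_of_cj_eq
  have h1 := cj_eq_of_mem_normalizer (h hy)
  have e : y = g * (g⁻¹ * y * g) * g⁻¹ := by group
  rw [e, ← cj_cj, ← cj_cj, cj_inv_cj, h1]

theorem normalizer_commutator {g : G} {X Y : Subgroup G}
    (hX : g ∈ Subgroup.normalizer (X : Set G)) (hY : g ∈ Subgroup.normalizer (Y : Set G)) :
    g ∈ Subgroup.normalizer ((⁅X, Y⁆ : Subgroup G) : Set G) := by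
  apply mem_normalizer_of_cj_eq
  unfold cj
  rw [Subgroup.map_commutator, map_conj_eq hX, map_conj_eq hY]

theorem le_normalizer_comm {V E : Subgroup G} (h : E ≤ Subgroup.normalizer (V : Set G)) :
    E ≤ Subgroup.normalizer ((⁅V, E⁆ : Subgroup G) : Set G) :=
  fun _ hg => normalizer_commutator (h hg) (Subgroup.le_normalizer hg)

/-- relative subnormality -/
def SubN (A B : Subgroup G) : Prop := A ≤ B ∧ (A.subgroupOf B).IsSubnormal

theorem SubN.mono {A B K : Subgroup G} (h : SubN A B) (hAK : A ≤ K) (hKB : K ≤ B) :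
    SubN A K := by
  refine ⟨hAK, ?_⟩
  have h1 := h.2.comap (Subgroup.inclusion hKB)
  have e : (A.subgroupOf B).comap (Subgroup.inclusion hKB) = A.subgroupOf K := by
    ext x
    rw [Subgroup.mem_comap, Subgroup.mem_subgroupOf, Subgroup.mem_subgroupOf]
    rfl
  rwa [e] at h1

theorem SubN.conj {A B : Subgroup G} (h : SubN A B) {g : G} (hg : g ∈ B) :
    SubN (cj g A) B := by
  refine ⟨cj_le h.1 hg, ?_⟩
  have h1 := h.2.map (f := (MulAut.conj (⟨g, hg⟩ : B)).toMonoidHom)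
    (MulAut.conj (⟨g, hg⟩ : B)).surjective
  have e : (A.subgroupOf B).map (MulAut.conj (⟨g, hg⟩ : B)).toMonoidHom =
      (cj g A).subgroupOf B := by
    ext y
    rw [Subgroup.mem_subgroupOf, mem_cj, Subgroup.mem_map]
    constructor
    · rintro ⟨x, hx, rfl⟩
      rw [Subgroup.mem_subgroupOf] at hx
      show g⁻¹ * (g * (x : G) * g⁻¹) * g ∈ A
      have e : g⁻¹ * (g * (x : G) * g⁻¹) * g = x := by group
      rw [e]
      exact hx
    · intro hy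
      refine ⟨⟨g, hg⟩⁻¹ * y * ⟨g, hg⟩, ?_, ?_⟩
      · rw [Subgroup.mem_subgroupOf]
        exact hy
      · apply Subtype.ext
        show g * (g⁻¹ * (y : G) * g) * g⁻¹ = y
        group
  rwa [e] at h1

theorem SubN.exists_normal {A B : Subgroup G} (h : SubN A B) (hne : A ≠ B) :
    ∃ N : Subgroup G, A ≤ N ∧ N ≤ B ∧ N ≠ B ∧ (∀ b ∈ B, ∀ n ∈ N, b * n * b⁻¹ ∈ N) := by
  have hne' : A.subgroupOf B ≠ ⊤ := by
    intro h1
    rw [Subgroup.subgroupOf_eq_top] at h1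
    exact hne (le_antisymm h.1 h1)
  obtain ⟨K, hKn, hAK, hKlt⟩ := h.2.exists_normal_and_le_and_lt_top_of_ne hne'
  refine ⟨K.map B.subtype, ?_, ?_, ?_, ?_⟩
  · intro a ha
    exact ⟨⟨a, h.1 ha⟩, hAK (Subgroup.mem_subgroupOf.2 ha), rfl⟩
  · rintro _ ⟨k, _, rfl⟩
    exact k.2
  · intro h2
    apply hKlt.ne
    rw [eq_top_iff]
    intro b _
    have h3 : (b : G) ∈ K.map B.subtype := by
      rw [h2]
      exact b.2
    obtain ⟨k, hk, hkb⟩ := h3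
    have h4 : k = b := Subtype.ext hkb
    rw [← h4]
    exact hk
  · rintro b hb _ ⟨k, hk, rfl⟩
    exact ⟨⟨b, hb⟩ * k * ⟨b, hb⟩⁻¹, hKn.conj_mem k hk ⟨b, hb⟩, rfl⟩

/-- no nontrivial normal `p`-subgroup -/
def NoP (p : ℕ) (E : Subgroup G) : Prop :=
  ∀ P : Subgroup G, P ≤ E → IsPGroup p P → E ≤ Subgroup.normalizer (P : Set G) → P = ⊥

/-- irreducible on the commutator -/
def Irr (V E : Subgroup G) : Prop :=
  ∀ U : Subgroup G, U ≤ ⁅V, E⁆ → E ≤ Subgroup.normalizer (U : Set G) → U = ⊥ ∨ U = ⁅V, E⁆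

theorem cj_eq_bot {g : G} {K : Subgroup G} (h : cj g K = ⊥) : K = ⊥ := by
  rw [eq_bot_iff]
  intro k hk
  have h1 : g * k * g⁻¹ ∈ cj g K := conj_mem_cj hk
  rw [h] at h1
  have h2 : g * k * g⁻¹ = 1 := h1
  have e : k = g⁻¹ * (g * k * g⁻¹) * g := by group
  rw [e, h2]
  simp

theorem isPGroup_cj {p : ℕ} {g : G} {K : Subgroup G} (h : IsPGroup p K) : IsPGroup p (cj g K) :=
  h.map _

theorem NoP.conj {p : ℕ} {E : Subgroup G} (h : NoP p E) (g : G) : NoP p (cj g E) := by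
  intro P hPE hP hn
  have h1 := h (cj g⁻¹ P) (by
    have := cj_mono (g := g⁻¹) hPE
    rwa [cj_inv_cj] at this) (isPGroup_cj hP) (by
    have := cj_normalizer (g := g⁻¹) hn
    rwa [cj_inv_cj] at this)
  exact cj_eq_bot h1

theorem Irr.conj {V E : Subgroup G} (h : Irr V E) {g : G}
    (hg : g ∈ Subgroup.normalizer (V : Set G)) : Irr V (cj g E) := by
  intro U hU hn
  rw [cj_comm hg] at hU ⊢
  have h1 := h (cj g⁻¹ U) (by
    have := cj_mono (g := g⁻¹) hU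
    rwa [cj_inv_cj] at this) (by
    have := cj_normalizer (g := g⁻¹) hn
    rwa [cj_inv_cj] at this)
  rcases h1 with h1 | h1
  · left
    exact cj_eq_bot h1
  · right
    rw [← h1, cj_cj_inv]

section main

variable [Finite G] {p : ℕ} [Fact p.Prime] {V : Subgroup G}

theorem elem_comm (hV : Cfsg.IsElementaryAbelian p V) {u v : G} (hu : u ∈ V) (hv : v ∈ V) :
    u * v = v * u :=
  congrArg Subtype.val (hV.1.is_comm.comm (⟨u, hu⟩ : V) ⟨v, hv⟩)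

/-- an element stabilizing a chain `1 ≤ W ≤ V` has `p`-th power centralizing `V` -/
theorem chain_pow (hV : Cfsg.IsElementaryAbelian p V) {W : Subgroup G} (hWV : W ≤ V) {g : G}
    (hgW : ∀ w ∈ W, g * w = w * g) (hgV : ∀ v ∈ V, ⁅v, g⁆ ∈ W) :
    g ^ p ∈ Subgroup.centralizer (V : Set G) := by
  rw [Subgroup.mem_centralizer_iff]
  intro v hv
  have hw : ⁅v⁻¹, g⁆ ∈ W := hgV _ (inv_mem hv)
  have hwc := hgW _ hw
  obtain ⟨w, hwdef⟩ : ∃ w, w = ⁅v⁻¹, g⁆ := ⟨_, rfl⟩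
  rw [← hwdef] at hw hwc
  have e1 : g * v = v * w * g := by
    rw [hwdef, commutatorElement_def]
    group
  have key : ∀ n : ℕ, g ^ n * v = v * w ^ n * g ^ n := by
    intro n
    induction n with
    | zero => simp
    | succ n ih =>
      have e2 : g * w ^ n = w ^ n * g := (Commute.pow_right (hwc : Commute g w) n).eq
      calc g ^ (n + 1) * v = g * (g ^ n * v) := by rw [pow_succ', mul_assoc]
        _ = g * (v * w ^ n * g ^ n) := by rw [ih]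
        _ = (g * v) * w ^ n * g ^ n := by group
        _ = v * w * (g * w ^ n) * g ^ n := by rw [e1]; group
        _ = v * w * (w ^ n * g) * g ^ n := by rw [e2]
        _ = v * (w * w ^ n) * (g * g ^ n) := by group
        _ = v * w ^ (n + 1) * g ^ (n + 1) := by rw [← pow_succ', ← pow_succ']
  have h1 := key p
  rw [hV.2 _ (hWV hw), mul_one] at h1
  exact h1.symm

theorem cent_bot (hV : Cfsg.IsElementaryAbelian p V) {E : Subgroup G}
    (hn : E ≤ Subgroup.normalizer (V : Set G)) (hf : E ⊓ Subgroup.centralizer (V : Set G) = ⊥)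
    (hnp : NoP p E) : E ⊓ Subgroup.centralizer ((⁅V, E⁆ : Subgroup G) : Set G) = ⊥ := by
  apply hnp _ inf_le_left
  · intro g
    refine ⟨1, ?_⟩
    rw [pow_one]
    apply Subtype.ext
    have hg := g.2
    have hg1 : (g : G) ∈ E := (Subgroup.mem_inf.1 hg).1
    have hg2 := (Subgroup.mem_inf.1 hg).2
    have h1 := chain_pow hV (Cfsg.Agent.Helper23.commutator_le_of_le_normalizer hn)
      (fun w hw => (Subgroup.mem_centralizer_iff.1 hg2 w hw).symm)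
      (fun v hv => Subgroup.commutator_mem_commutator hv hg1)
    have h2 : (g : G) ^ p ∈ E ⊓ Subgroup.centralizer (V : Set G) :=
      Subgroup.mem_inf.2 ⟨pow_mem hg1 p, h1⟩
    rw [hf] at h2
    exact h2
  · intro g hg
    exact normalizer_inf_le _ _ ⟨Subgroup.le_normalizer hg,
      Cfsg.Agent.Helper23.le_normalizer_centralizer (le_normalizer_comm hn) hg⟩

theorem comm_comm_eq (hV : Cfsg.IsElementaryAbelian p V) {E : Subgroup G}
    (hn : E ≤ Subgroup.normalizer (V : Set G)) (hf : E ⊓ Subgroup.centralizer (V : Set G) = ⊥)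
    (hnp : NoP p E) (hirr : Irr V E) (hc : 2 < Nat.card E) : ⁅⁅V, E⁆, E⁆ = ⁅V, E⁆ := by
  have h1 : ⁅⁅V, E⁆, E⁆ ≤ ⁅V, E⁆ :=
    Cfsg.Agent.Helper23.commutator_le_of_le_normalizer (le_normalizer_comm hn)
  have h2 : E ≤ Subgroup.normalizer ((⁅⁅V, E⁆, E⁆ : Subgroup G) : Set G) :=
    le_normalizer_comm (le_normalizer_comm hn)
  rcases hirr _ h1 h2 with h | h
  · exfalso
    rw [Subgroup.commutator_eq_bot_iff_le_centralizer] at h
    have h3 : E ≤ Subgroup.centralizer ((⁅V, E⁆ : Subgroup G) : Set G) :=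
      Subgroup.le_centralizer_iff.1 h
    have h4 : E = ⊥ := by
      rw [eq_bot_iff, ← cent_bot hV hn hf hnp]
      exact le_inf le_rfl h3
    rw [h4, Subgroup.card_bot] at hc
    omega
  · exact h

theorem fix_trivial (hV : Cfsg.IsElementaryAbelian p V) {E : Subgroup G}
    (hn : E ≤ Subgroup.normalizer (V : Set G)) (hf : E ⊓ Subgroup.centralizer (V : Set G) = ⊥)
    (hnp : NoP p E) (hirr : Irr V E) (hc : 2 < Nat.card E) (hne : ⁅V, E⁆ ≠ ⊥) {v : G}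
    (hv : v ∈ ⁅V, E⁆) (hfix : ∀ e ∈ E, e * v = v * e) : v = 1 := by
  have h1 : ⁅V, E⁆ ⊓ Subgroup.centralizer (E : Set G) ≤ ⁅V, E⁆ := inf_le_left
  have h2 : E ≤ Subgroup.normalizer
      ((⁅V, E⁆ ⊓ Subgroup.centralizer (E : Set G) : Subgroup G) : Set G) :=
    fun g hg => normalizer_inf_le _ _ ⟨le_normalizer_comm hn hg,
      Cfsg.Agent.Helper23.le_normalizer_centralizer Subgroup.le_normalizer hg⟩
  rcases hirr _ h1 h2 with h | h
  · have h3 : v ∈ ⁅V, E⁆ ⊓ Subgroup.centralizer (E : Set G) :=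
      Subgroup.mem_inf.2 ⟨hv, Subgroup.mem_centralizer_iff.2 hfix⟩
    rw [h] at h3
    exact h3
  · exfalso
    have h3 : ⁅V, E⁆ ≤ Subgroup.centralizer (E : Set G) := inf_eq_left.1 h
    have h4 : ⁅⁅V, E⁆, E⁆ = ⊥ := Subgroup.commutator_eq_bot_iff_le_centralizer.2 h3
    rw [comm_comm_eq hV hn hf hnp hirr hc] at h4
    exact hne h4

/-- the statement proved by induction -/
def KeyStmt (p : ℕ) (V : Subgroup G) (n : ℕ) : Prop :=
  ∀ E₁ E₂ : Subgroup G, Nat.card ↥(E₁ ⊔ E₂) = n →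
    E₁ ⊔ E₂ ≤ Subgroup.normalizer (V : Set G) →
    (E₁ ⊔ E₂) ⊓ Subgroup.centralizer (V : Set G) = ⊥ →
    SubN E₁ (E₁ ⊔ E₂) → SubN E₂ (E₁ ⊔ E₂) → NoP p E₁ → NoP p E₂ → Irr V E₁ → Irr V E₂ →
    ¬ ⁅V, E₁⁆ ≤ ⁅V, E₂⁆ → ¬ ⁅V, E₂⁆ ≤ ⁅V, E₁⁆ → 2 < Nat.card E₁ → 2 < Nat.card E₂ →
    E₂ ≤ Subgroup.normalizer ((⁅V, E₁⁆ : Subgroup G) : Set G)

theorem star (hV : Cfsg.IsElementaryAbelian p V) {n : ℕ} (ih : ∀ m < n, KeyStmt p V m)
    {E₁ E₂ : Subgroup G} (hn : Nat.card ↥(E₁ ⊔ E₂) = n)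
    (hLV : E₁ ⊔ E₂ ≤ Subgroup.normalizer (V : Set G))
    (hLf : (E₁ ⊔ E₂) ⊓ Subgroup.centralizer (V : Set G) = ⊥)
    (hs₁ : SubN E₁ (E₁ ⊔ E₂)) (hnp₁ : NoP p E₁) (hirr₁ : Irr V E₁) (hc₁ : 2 < Nat.card E₁)
    (h21 : ¬ ⁅V, E₂⁆ ≤ ⁅V, E₁⁆) {h : G} (hh : h ∈ E₁ ⊔ E₂)
    (hmove : cj h ⁅V, E₁⁆ ≠ ⁅V, E₁⁆) :
    ⁅V, E₁⁆ ⊓ cj h ⁅V, E₁⁆ = ⊥ ∧ ∀ v ∈ cj h ⁅V, E₁⁆, ∀ e ∈ E₁, e * v = v * e := by
  have hE₁ne : E₁ ≠ E₁ ⊔ E₂ := by
    intro h1
    apply h21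
    have h2 : E₂ ≤ E₁ := by
      rw [h1]
      exact le_sup_right
    exact Subgroup.commutator_mono le_rfl h2
  obtain ⟨N, hE₁N, hNL, hNne, hNnorm⟩ := hs₁.exists_normal hE₁ne
  have hFN : cj h E₁ ≤ N := by
    intro y hy
    rw [mem_cj] at hy
    have h1 := hNnorm h hh _ (hE₁N hy)
    have e : h * (h⁻¹ * y * h) * h⁻¹ = y := by group
    rwa [e] at h1
  have hL'N : E₁ ⊔ cj h E₁ ≤ N := sup_le hE₁N hFN
  have hL'L : E₁ ⊔ cj h E₁ ≤ E₁ ⊔ E₂ := hL'N.trans hNL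
  have hlt : Nat.card ↥(E₁ ⊔ cj h E₁) < n := by
    rw [← hn]
    by_contra hcon
    push Not at hcon
    have h1 : E₁ ⊔ cj h E₁ = E₁ ⊔ E₂ := Subgroup.eq_of_le_of_card_ge hL'L hcon
    exact hNne (le_antisymm hNL (h1 ▸ hL'N))
  have hhV : h ∈ Subgroup.normalizer (V : Set G) := hLV hh
  have hVF : ⁅V, cj h E₁⁆ = cj h ⁅V, E₁⁆ := cj_comm hhV E₁
  have hL'V := hL'L.trans hLV
  have hL'f : (E₁ ⊔ cj h E₁) ⊓ Subgroup.centralizer (V : Set G) = ⊥ := by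
    rw [eq_bot_iff, ← hLf]
    exact inf_le_inf_right _ hL'L
  have hs1' : SubN E₁ (E₁ ⊔ cj h E₁) := hs₁.mono le_sup_left hL'L
  have hs2' : SubN (cj h E₁) (E₁ ⊔ cj h E₁) := (hs₁.conj hh).mono le_sup_right hL'L
  have hnpF := hnp₁.conj h
  have hirrF := hirr₁.conj hhV
  have hcF : 2 < Nat.card (cj h E₁) := by
    rw [card_cj]
    exact hc₁
  have hcardV : Nat.card ↥(cj h ⁅V, E₁⁆) = Nat.card ↥(⁅V, E₁⁆) := card_cj _ _
  have hne1 : ¬ ⁅V, E₁⁆ ≤ ⁅V, cj h E₁⁆ := by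
    rw [hVF]
    intro hle
    exact hmove (Subgroup.eq_of_le_of_card_ge hle (le_of_eq hcardV)).symm
  have hne2 : ¬ ⁅V, cj h E₁⁆ ≤ ⁅V, E₁⁆ := by
    rw [hVF]
    intro hle
    exact hmove (Subgroup.eq_of_le_of_card_ge hle (le_of_eq hcardV.symm))
  have r1 := ih _ hlt E₁ (cj h E₁) rfl hL'V hL'f hs1' hs2' hnp₁ hnpF hirr₁ hirrF hne1 hne2
    hc₁ hcF
  have hlt' : Nat.card ↥(cj h E₁ ⊔ E₁) < n := by
    rw [sup_comm]
    exact hlt
  have r2 := ih _ hlt' (cj h E₁) E₁ rfl (by rw [sup_comm]; exact hL'V)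
    (by rw [sup_comm]; exact hL'f) (by rw [sup_comm]; exact hs2') (by rw [sup_comm]; exact hs1')
    hnpF hnp₁ hirrF hirr₁ hne2 hne1 hcF hc₁
  rw [hVF] at r2
  have hE₁V : E₁ ≤ Subgroup.normalizer (V : Set G) := le_sup_left.trans hLV
  have hinf : ⁅V, E₁⁆ ⊓ cj h ⁅V, E₁⁆ = ⊥ := by
    rcases hirr₁ (⁅V, E₁⁆ ⊓ cj h ⁅V, E₁⁆) inf_le_left
      (fun g hg => normalizer_inf_le _ _ ⟨le_normalizer_comm hE₁V hg, r2 hg⟩) with h1 | h1
    · exact h1
    · exfalso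
      apply hne1
      rw [hVF]
      exact inf_eq_left.1 h1
  refine ⟨hinf, ?_⟩
  intro v hv e he
  have h1 : ⁅v, e⁆ ∈ ⁅V, E₁⁆ ⊓ cj h ⁅V, E₁⁆ := by
    refine Subgroup.mem_inf.2 ⟨?_, ?_⟩
    · have hle : ⁅V, cj h E₁⁆ ≤ V :=
        Cfsg.Agent.Helper23.commutator_le_of_le_normalizer ((cj_le le_sup_left hh).trans hLV)
      rw [hVF] at hle
      exact Subgroup.commutator_mem_commutator (hle hv) he
    · have h2 := (Subgroup.mem_normalizer_iff.1 (r2 he) v⁻¹).1 (inv_mem hv)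
      have e' : ⁅v, e⁆ = v * (e * v⁻¹ * e⁻¹) := by
        rw [commutatorElement_def]
        group
      rw [e']
      exact mul_mem hv h2
  rw [hinf] at h1
  have h2 : ⁅v, e⁆ = 1 := h1
  rw [commutatorElement_eq_one_iff_mul_comm] at h2
  exact h2.symm

theorem key (hV : Cfsg.IsElementaryAbelian p V) : ∀ n : ℕ, KeyStmt p V n := by
  intro n
  induction n using Nat.strong_induction_on with
  | _ n ih =>
  intro E₁ E₂ hn hLV hLf hs₁ hs₂ hnp₁ hnp₂ hirr₁ hirr₂ h12 h21 hc₁ hc₂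
  by_contra hcon
  obtain ⟨g, hgE₂, hgN⟩ := SetLike.not_le_iff_exists.1 hcon
  have hmove : cj g ⁅V, E₁⁆ ≠ ⁅V, E₁⁆ := fun h => hgN (mem_normalizer_of_cj_eq h)
  have hE₁V : E₁ ≤ Subgroup.normalizer (V : Set G) := le_sup_left.trans hLV
  have hE₂V : E₂ ≤ Subgroup.normalizer (V : Set G) := le_sup_right.trans hLV
  have hE₁f : E₁ ⊓ Subgroup.centralizer (V : Set G) = ⊥ := by
    rw [eq_bot_iff, ← hLf]
    exact inf_le_inf_right _ le_sup_left
  have hV₁V : ⁅V, E₁⁆ ≤ V := Cfsg.Agent.Helper23.commutator_le_of_le_normalizer hE₁V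
  have hV₁ne : ⁅V, E₁⁆ ≠ ⊥ := by
    intro h
    apply h12
    rw [h]
    exact bot_le
  have hgL : g ∈ E₁ ⊔ E₂ := Subgroup.mem_sup_right hgE₂
  obtain ⟨hS1a, hS1b⟩ := star hV ih hn hLV hLf hs₁ hnp₁ hirr₁ hc₁ h21 hgL hmove
  have hn' : Nat.card ↥(E₂ ⊔ E₁) = n := by
    rw [sup_comm]
    exact hn
  have star₂ : ∀ {x : G}, x ∈ E₁ → cj x ⁅V, E₂⁆ ≠ ⁅V, E₂⁆ →
      ⁅V, E₂⁆ ⊓ cj x ⁅V, E₂⁆ = ⊥ ∧ ∀ v ∈ cj x ⁅V, E₂⁆, ∀ e ∈ E₂, e * v = v * e := by
    intro x hx hmx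
    exact star hV ih hn' (by rw [sup_comm]; exact hLV) (by rw [sup_comm]; exact hLf)
      (by rw [sup_comm]; exact hs₂) hnp₂ hirr₂ hc₂ h12 (Subgroup.mem_sup_right hx) hmx
  have hbb := comm_comm_eq hV hE₁V hE₁f hnp₁ hirr₁ hc₁
  by_cases hA : E₁ ≤ Subgroup.normalizer ((⁅V, E₂⁆ : Subgroup G) : Set G)
  · -- Case A
    apply h12
    rw [← hbb, Subgroup.commutator_le]
    intro v hv e he
    have hvV : v ∈ V := hV₁V hv
    have hd : ⁅v, g⁆ ∈ ⁅V, E₂⁆ := Subgroup.commutator_mem_commutator hvV hgE₂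
    have hu : g * v⁻¹ * g⁻¹ ∈ cj g ⁅V, E₁⁆ := conj_mem_cj (inv_mem hv)
    have hcu := hS1b _ hu e he
    have h2 := (Subgroup.mem_normalizer_iff.1 (hA he) (⁅v, g⁆)⁻¹).1 (inv_mem hd)
    have h3 : ⁅v, g⁆ * (e * (⁅v, g⁆)⁻¹ * e⁻¹) ∈ ⁅V, E₂⁆ := mul_mem hd h2
    have e1 : ⁅v, g⁆ * (e * (⁅v, g⁆)⁻¹ * e⁻¹) = ⁅v, e⁆ := by
      have e2 : ⁅v, g⁆ = v * (g * v⁻¹ * g⁻¹) := by
        rw [commutatorElement_def]
        group
      rw [e2]
      obtain ⟨u, hudef⟩ : ∃ u, u = g * v⁻¹ * g⁻¹ := ⟨_, rfl⟩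
      rw [← hudef] at hcu ⊢
      rw [commutatorElement_def]
      calc v * u * (e * (v * u)⁻¹ * e⁻¹) = v * (u * e) * u⁻¹ * v⁻¹ * e⁻¹ := by group
        _ = v * (e * u) * u⁻¹ * v⁻¹ * e⁻¹ := by rw [hcu]
        _ = v * e * v⁻¹ * e⁻¹ := by group
    rw [e1] at h3
    exact h3
  · -- Case B
    obtain ⟨x₀, hx₀E, hx₀N⟩ := SetLike.not_le_iff_exists.1 hA
    have hx₀m : cj x₀ ⁅V, E₂⁆ ≠ ⁅V, E₂⁆ := fun h => hx₀N (mem_normalizer_of_cj_eq h)
    have hgV := hE₂V hgE₂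
    have rel : ∀ x ∈ E₁, cj x ⁅V, E₂⁆ ≠ ⁅V, E₂⁆ → ∀ v ∈ ⁅V, E₁⁆,
        g * g * v * (g * g)⁻¹ =
          (g * (x * v * x⁻¹) * g⁻¹) * (x * v * x⁻¹)⁻¹ * (g * v * g⁻¹) := by
      intro x hx hmx v hv
      obtain ⟨_, hS2b⟩ := star₂ hx hmx
      have hvV : v ∈ V := hV₁V hv
      have hxV := hE₁V hx
      have hw : ⁅v, g⁆ ∈ ⁅V, E₂⁆ := Subgroup.commutator_mem_commutator hvV hgE₂
      have hxw : x * ⁅v, g⁆ * x⁻¹ ∈ cj x ⁅V, E₂⁆ := conj_mem_cj hw
      have hgc := hS2b _ hxw g hgE₂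
      have ht : g * v⁻¹ * g⁻¹ ∈ cj g ⁅V, E₁⁆ := conj_mem_cj (inv_mem hv)
      have hxc := hS1b _ ht x hx
      obtain ⟨u, hudef⟩ : ∃ u, u = x * v * x⁻¹ := ⟨_, rfl⟩
      obtain ⟨c, hcdef⟩ : ∃ c, c = g * v * g⁻¹ := ⟨_, rfl⟩
      have huV : u ∈ V := by
        rw [hudef]
        exact (Subgroup.mem_normalizer_iff.1 hxV v).1 hvV
      have hcV : c ∈ V := by
        rw [hcdef]
        exact (Subgroup.mem_normalizer_iff.1 hgV v).1 hvV
      have haV : g * u * g⁻¹ ∈ V := (Subgroup.mem_normalizer_iff.1 hgV u).1 huV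
      have e1 : x * ⁅v, g⁆ * x⁻¹ = u * c⁻¹ := by
        rw [hudef, hcdef, commutatorElement_def]
        calc x * (v * g * v⁻¹ * g⁻¹) * x⁻¹ = x * v * (x⁻¹ * (x * (g * v⁻¹ * g⁻¹))) * x⁻¹ := by
              group
          _ = x * v * (x⁻¹ * ((g * v⁻¹ * g⁻¹) * x)) * x⁻¹ := by rw [hxc]
          _ = x * v * x⁻¹ * (g * v * g⁻¹)⁻¹ := by group
      rw [e1] at hgc
      have e2 : (g * u * g⁻¹) * (g * g * v * (g * g)⁻¹)⁻¹ = u * c⁻¹ := by
        calc (g * u * g⁻¹) * (g * g * v * (g * g)⁻¹)⁻¹ = g * (u * (g * v * g⁻¹)⁻¹) * g⁻¹ := by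
              group
          _ = (g * (u * c⁻¹)) * g⁻¹ := by rw [hcdef]
          _ = (u * c⁻¹ * g) * g⁻¹ := by rw [hgc]
          _ = u * c⁻¹ := by group
      rw [← hudef, ← hcdef]
      have h1 : c * (u⁻¹ * (g * u * g⁻¹)) = (u⁻¹ * (g * u * g⁻¹)) * c :=
        elem_comm hV hcV (mul_mem (inv_mem huV) haV)
      have h2 : u⁻¹ * (g * u * g⁻¹) = (g * u * g⁻¹) * u⁻¹ := elem_comm hV (inv_mem huV) haV
      have e3 : ∀ a b : G, b = (a * b⁻¹)⁻¹ * a := by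
        intro a b
        rw [mul_inv_rev, inv_inv, inv_mul_cancel_right]
      calc g * g * v * (g * g)⁻¹
          = ((g * u * g⁻¹) * (g * g * v * (g * g)⁻¹)⁻¹)⁻¹ * (g * u * g⁻¹) := e3 _ _
        _ = (u * c⁻¹)⁻¹ * (g * u * g⁻¹) := by rw [e2]
        _ = c * (u⁻¹ * (g * u * g⁻¹)) := by group
        _ = (u⁻¹ * (g * u * g⁻¹)) * c := h1
        _ = g * u * g⁻¹ * u⁻¹ * c := by rw [h2]
    have hgg : cj (g * g) ⁅V, E₁⁆ = ⁅V, E₁⁆ := by
      by_contra hmgg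
      obtain ⟨_, hS3b⟩ := star hV ih hn hLV hLf hs₁ hnp₁ hirr₁ hc₁ h21 (mul_mem hgL hgL) hmgg
      apply hV₁ne
      rw [eq_bot_iff]
      intro v hv
      have hu : x₀ * v * x₀⁻¹ ∈ ⁅V, E₁⁆ :=
        (Subgroup.mem_normalizer_iff.1 (le_normalizer_comm hE₁V hx₀E) v).1 hv
      have hr := rel x₀ hx₀E hx₀m v hv
      have hfx : ∀ e ∈ E₁, e * (x₀ * v * x₀⁻¹)⁻¹ = (x₀ * v * x₀⁻¹)⁻¹ * e := by
        intro e he
        have ha : g * (x₀ * v * x₀⁻¹) * g⁻¹ ∈ cj g ⁅V, E₁⁆ := conj_mem_cj hu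
        have hb : g * g * v * (g * g)⁻¹ ∈ cj (g * g) ⁅V, E₁⁆ := conj_mem_cj hv
        have hc : g * v * g⁻¹ ∈ cj g ⁅V, E₁⁆ := conj_mem_cj hv
        have ca : Commute e (g * (x₀ * v * x₀⁻¹) * g⁻¹) := hS1b _ ha e he
        have cb : Commute e (g * g * v * (g * g)⁻¹) := hS3b _ hb e he
        have cc : Commute e (g * v * g⁻¹) := hS1b _ hc e he
        have e1 : (x₀ * v * x₀⁻¹)⁻¹ = (g * (x₀ * v * x₀⁻¹) * g⁻¹)⁻¹ *
            (g * g * v * (g * g)⁻¹) * (g * v * g⁻¹)⁻¹ := by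
          rw [hr]
          group
        rw [e1]
        exact ((ca.inv_right.mul_right cb).mul_right cc.inv_right).eq
      have h1 := fix_trivial hV hE₁V hE₁f hnp₁ hirr₁ hc₁ hV₁ne (inv_mem hu) hfx
      rw [Subgroup.mem_bot]
      have h2 : x₀ * v * x₀⁻¹ = 1 := inv_eq_one.1 h1
      calc v = x₀⁻¹ * (x₀ * v * x₀⁻¹) * x₀ := by group
        _ = 1 := by rw [h2]; group
    have hinv : ∀ x ∈ E₁, cj x ⁅V, E₂⁆ ≠ ⁅V, E₂⁆ → ∀ v ∈ ⁅V, E₁⁆, x * v * x⁻¹ = v⁻¹ := by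
      intro x hx hmx v hv
      have hr := rel x hx hmx v hv
      have hvV : v ∈ V := hV₁V hv
      have hu : x * v * x⁻¹ ∈ ⁅V, E₁⁆ :=
        (Subgroup.mem_normalizer_iff.1 (le_normalizer_comm hE₁V hx) v).1 hv
      have hb : g * g * v * (g * g)⁻¹ ∈ ⁅V, E₁⁆ := by
        have h1 := conj_mem_cj (g := g * g) hv
        rwa [hgg] at h1
      have hcV : g * v * g⁻¹ ∈ V := (Subgroup.mem_normalizer_iff.1 hgV v).1 hvV
      have h1 : g * ((x * v * x⁻¹) * v) * g⁻¹ ∈ ⁅V, E₁⁆ ⊓ cj g ⁅V, E₁⁆ := by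
        refine Subgroup.mem_inf.2 ⟨?_, conj_mem_cj (mul_mem hu hv)⟩
        have e1 : g * ((x * v * x⁻¹) * v) * g⁻¹ =
            (g * g * v * (g * g)⁻¹) * (x * v * x⁻¹) := by
          rw [hr]
          have hcu : (g * v * g⁻¹) * (x * v * x⁻¹) = (x * v * x⁻¹) * (g * v * g⁻¹) :=
            elem_comm hV hcV (hV₁V hu)
          calc g * (x * v * x⁻¹ * v) * g⁻¹
              = g * (x * v * x⁻¹) * g⁻¹ * (x * v * x⁻¹)⁻¹ *
                ((x * v * x⁻¹) * (g * v * g⁻¹)) := by group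
            _ = g * (x * v * x⁻¹) * g⁻¹ * (x * v * x⁻¹)⁻¹ *
                ((g * v * g⁻¹) * (x * v * x⁻¹)) := by rw [hcu]
            _ = _ := by group
        rw [e1]
        exact mul_mem hb hu
      rw [hS1a] at h1
      have h2 : g * ((x * v * x⁻¹) * v) * g⁻¹ = 1 := h1
      have h3 : (x * v * x⁻¹) * v = 1 := by
        calc (x * v * x⁻¹) * v = g⁻¹ * (g * ((x * v * x⁻¹) * v) * g⁻¹) * g := by group
          _ = 1 := by rw [h2]; group
      exact eq_inv_of_mul_eq_one_left h3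
    have hK := cent_bot hV hE₁V hE₁f hnp₁
    have hx₀inv := hinv x₀ hx₀E hx₀m
    have hinv_eq : ∀ y ∈ E₁, (∀ v ∈ ⁅V, E₁⁆, y * v * y⁻¹ = v⁻¹) → y = x₀ := by
      intro y hy hyinv
      have h1 : x₀⁻¹ * y ∈ E₁ ⊓ Subgroup.centralizer ((⁅V, E₁⁆ : Subgroup G) : Set G) := by
        refine Subgroup.mem_inf.2 ⟨mul_mem (inv_mem hx₀E) hy, ?_⟩
        rw [Subgroup.mem_centralizer_iff]
        intro v hv
        have e1 := hyinv v hv
        have e2 := hx₀inv v hv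
        calc v * (x₀⁻¹ * y) = x₀⁻¹ * (x₀ * v * x₀⁻¹) * y := by group
          _ = x₀⁻¹ * (y * v * y⁻¹) * y := by rw [e2, e1]
          _ = x₀⁻¹ * y * v := by group
      rw [hK] at h1
      have h2 : x₀⁻¹ * y = 1 := h1
      calc y = x₀ * (x₀⁻¹ * y) := by group
        _ = x₀ := by rw [h2, mul_one]
    have hall : ∀ e ∈ E₁, e = 1 ∨ e = x₀ := by
      intro e he
      by_cases hme : cj e ⁅V, E₂⁆ = ⁅V, E₂⁆
      · left
        have hmex : cj (e * x₀) ⁅V, E₂⁆ ≠ ⁅V, E₂⁆ := by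
          intro h
          apply hx₀m
          have h' : cj e (cj x₀ ⁅V, E₂⁆) = cj e ⁅V, E₂⁆ := by rw [cj_cj, h, hme]
          have h'' := congrArg (cj e⁻¹) h'
          rwa [cj_inv_cj, cj_inv_cj] at h''
        have h1 := hinv_eq (e * x₀) (mul_mem he hx₀E) (hinv _ (mul_mem he hx₀E) hmex)
        calc e = (e * x₀) * x₀⁻¹ := by group
          _ = 1 := by rw [h1]; group
      · right
        exact hinv_eq e he (hinv e he hme)
    have hcard : Nat.card E₁ ≤ 2 := by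
      have hsub : (E₁ : Set G) ⊆ {1, x₀} := by
        intro e he
        rcases hall e he with h | h
        · left
          exact h
        · right
          exact h
      calc Nat.card E₁ = (E₁ : Set G).ncard := Nat.card_coe_set_eq _
        _ ≤ ({1, x₀} : Set G).ncard := Set.ncard_le_ncard hsub (Set.toFinite _)
        _ ≤ ({x₀} : Set G).ncard + 1 := Set.ncard_insert_le _ _
        _ = 2 := by rw [Set.ncard_singleton]
    omega

/-- The lemma. -/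
theorem lemmaL (hV : Cfsg.IsElementaryAbelian p V) {E E₁ E₂ : Subgroup G}
    (hEV : E ≤ Subgroup.normalizer (V : Set G))
    (hf : E ⊓ Subgroup.centralizer (V : Set G) = ⊥) (hgen : E = E₁ ⊔ E₂)
    (hs₁ : (E₁.subgroupOf E).IsSubnormal) (hs₂ : (E₂.subgroupOf E).IsSubnormal)
    (hOp : Cfsg.pCore p ↥E = ⊥) (hirr₁ : Irr V E₁) (hirr₂ : Irr V E₂)
    (h12 : ¬ ⁅V, E₁⁆ ≤ ⁅V, E₂⁆) (h21 : ¬ ⁅V, E₂⁆ ≤ ⁅V, E₁⁆) (hc₁ : 2 < Nat.card E₁)
    (hc₂ : 2 < Nat.card E₂) :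
    E₂ ≤ Subgroup.normalizer ((⁅V, E₁⁆ : Subgroup G) : Set G) ∧
    E₁ ≤ Subgroup.normalizer ((⁅V, E₂⁆ : Subgroup G) : Set G) ∧
    ⁅E₁, E₂⁆ = ⊥ ∧ E₁ ⊓ E₂ = ⊥ ∧ ⁅V, E₁⁆ ⊓ ⁅V, E₂⁆ = ⊥ ∧ ⁅V, E⁆ = ⁅V, E₁⁆ ⊔ ⁅V, E₂⁆ ∧
    ⁅⁅V, E₁⁆, E₂⁆ = ⊥ ∧ ⁅⁅V, E₂⁆, E₁⁆ = ⊥ := by
  subst hgen
  have hnop : ∀ F : Subgroup G, F ≤ E₁ ⊔ E₂ → (F.subgroupOf (E₁ ⊔ E₂)).IsSubnormal →
      NoP p F := by
    intro F hFL hFs P hPF hP hn
    have h1 : (P.subgroupOf (E₁ ⊔ E₂)).IsSubnormal := by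
      apply Subgroup.IsSubnormal.step _ (F.subgroupOf (E₁ ⊔ E₂)) ?_ hFs ?_
      · exact Subgroup.comap_mono hPF
      · apply Subgroup.normal_subgroupOf_of_le_normalizer
        intro y hy
        rw [Subgroup.mem_subgroupOf] at hy
        have h2 := hn hy
        rw [Subgroup.mem_normalizer_iff] at h2 ⊢
        intro z
        rw [Subgroup.mem_subgroupOf, Subgroup.mem_subgroupOf]
        exact h2 z
    have h2 : IsPGroup p (P.subgroupOf (E₁ ⊔ E₂)) :=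
      hP.comap_of_injective _ (Subgroup.subtype_injective _)
    have h3 := Cfsg.Agent.Helper14.subnormal_pgroup_le_pCore _ h1 h2
    rw [hOp] at h3
    rw [eq_bot_iff]
    intro y hy
    have h4 : (⟨y, hFL (hPF hy)⟩ : ↥(E₁ ⊔ E₂)) ∈ P.subgroupOf (E₁ ⊔ E₂) :=
      Subgroup.mem_subgroupOf.2 hy
    have h5 := h3 h4
    rw [Subgroup.mem_bot] at h5 ⊢
    exact congrArg Subtype.val h5
  have hnp₁ := hnop E₁ le_sup_left hs₁
  have hnp₂ := hnop E₂ le_sup_right hs₂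
  have k1 := key hV _ E₁ E₂ rfl hEV hf ⟨le_sup_left, hs₁⟩ ⟨le_sup_right, hs₂⟩ hnp₁ hnp₂
    hirr₁ hirr₂ h12 h21 hc₁ hc₂
  have k2 := key hV _ E₂ E₁ rfl (by rw [sup_comm]; exact hEV) (by rw [sup_comm]; exact hf)
    ⟨le_sup_left, by rw [sup_comm]; exact hs₂⟩ ⟨le_sup_right, by rw [sup_comm]; exact hs₁⟩
    hnp₂ hnp₁ hirr₂ hirr₁ h21 h12 hc₂ hc₁
  have hE₁V : E₁ ≤ Subgroup.normalizer (V : Set G) := le_sup_left.trans hEV
  have hE₂V : E₂ ≤ Subgroup.normalizer (V : Set G) := le_sup_right.trans hEV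
  have hV₁V : ⁅V, E₁⁆ ≤ V := Cfsg.Agent.Helper23.commutator_le_of_le_normalizer hE₁V
  have hV₂V : ⁅V, E₂⁆ ≤ V := Cfsg.Agent.Helper23.commutator_le_of_le_normalizer hE₂V
  have hinf : ⁅V, E₁⁆ ⊓ ⁅V, E₂⁆ = ⊥ := by
    rcases hirr₁ (⁅V, E₁⁆ ⊓ ⁅V, E₂⁆) inf_le_left
      (fun g hg => normalizer_inf_le _ _ ⟨le_normalizer_comm hE₁V hg, k2 hg⟩) with h | h
    · exact h
    · exact absurd (inf_eq_left.1 h) h12
  have hc12 : ⁅⁅V, E₁⁆, E₂⁆ = ⊥ := by
    rw [eq_bot_iff, ← hinf]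
    exact le_inf (Cfsg.Agent.Helper23.commutator_le_of_le_normalizer k1)
      (Subgroup.commutator_mono hV₁V le_rfl)
  have hc21 : ⁅⁅V, E₂⁆, E₁⁆ = ⊥ := by
    rw [eq_bot_iff, ← hinf]
    exact le_inf (Subgroup.commutator_mono hV₂V le_rfl)
      (Cfsg.Agent.Helper23.commutator_le_of_le_normalizer k2)
  have hEE : ⁅E₁, E₂⁆ = ⊥ := by
    have h1 : ⁅⁅E₁, E₂⁆, V⁆ = ⊥ := by
      apply Subgroup.commutator_commutator_eq_bot_of_rotate
      · rw [Subgroup.commutator_comm E₂ V]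
        exact hc21
      · exact hc12
    rw [Subgroup.commutator_eq_bot_iff_le_centralizer] at h1
    rw [eq_bot_iff, ← hf]
    refine le_inf ?_ h1
    rw [Subgroup.commutator_le]
    intro a ha b hb
    rw [commutatorElement_def]
    exact mul_mem (mul_mem (mul_mem (Subgroup.mem_sup_left ha) (Subgroup.mem_sup_right hb))
      (inv_mem (Subgroup.mem_sup_left ha))) (inv_mem (Subgroup.mem_sup_right hb))
  have hVE : ⁅V, E₁ ⊔ E₂⁆ = ⁅V, E₁⁆ ⊔ ⁅V, E₂⁆ := by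
    apply le_antisymm
    · exact (comm_sup_le (sup_le hV₁V hV₂V) le_sup_left le_sup_right).1
    · exact sup_le (Subgroup.commutator_mono le_rfl le_sup_left)
        (Subgroup.commutator_mono le_rfl le_sup_right)
  have hZ : E₁ ⊓ E₂ = ⊥ := by
    have hZp : IsPGroup p ↥(E₁ ⊓ E₂) := by
      intro z
      refine ⟨1, ?_⟩
      rw [pow_one]
      apply Subtype.ext
      have hz := z.2
      have hz1 := (Subgroup.mem_inf.1 hz).1
      have hz2 := (Subgroup.mem_inf.1 hz).2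
      have hzc : ∀ w ∈ ⁅V, E₁⁆ ⊔ ⁅V, E₂⁆, (z : G) * w = w * z := by
        have h1 : ⁅V, E₁⁆ ≤ Subgroup.centralizer (E₂ : Set G) :=
          Subgroup.commutator_eq_bot_iff_le_centralizer.1 hc12
        have h2 : ⁅V, E₂⁆ ≤ Subgroup.centralizer (E₁ : Set G) :=
          Subgroup.commutator_eq_bot_iff_le_centralizer.1 hc21
        have h3 : ⁅V, E₁⁆ ⊔ ⁅V, E₂⁆ ≤ Subgroup.centralizer ({(z : G)} : Set G) :=
          sup_le (h1.trans (Subgroup.centralizer_le (Set.singleton_subset_iff.2 hz2)))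
            (h2.trans (Subgroup.centralizer_le (Set.singleton_subset_iff.2 hz1)))
        intro w hw
        exact Subgroup.mem_centralizer_iff.1 (h3 hw) z rfl
      have h4 := chain_pow hV (sup_le hV₁V hV₂V) hzc (fun v hv => by
        rw [← hVE]
        exact Subgroup.commutator_mem_commutator hv (Subgroup.mem_sup_left hz1))
      have h5 : (z : G) ^ p ∈ (E₁ ⊔ E₂) ⊓ Subgroup.centralizer (V : Set G) :=
        Subgroup.mem_inf.2 ⟨pow_mem (Subgroup.mem_sup_left hz1) p, h4⟩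
      rw [hf] at h5
      exact h5
    have hZn : ((E₁ ⊓ E₂).subgroupOf (E₁ ⊔ E₂)).Normal := by
      apply Subgroup.normal_subgroupOf_of_le_normalizer
      have hcent : E₁ ⊔ E₂ ≤ Subgroup.centralizer ((E₁ ⊓ E₂ : Subgroup G) : Set G) := by
        refine sup_le ?_ ?_
        · have h1 : E₁ ≤ Subgroup.centralizer (E₂ : Set G) :=
            Subgroup.commutator_eq_bot_iff_le_centralizer.1 hEE
          exact h1.trans (Subgroup.centralizer_le inf_le_right)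
        · have h1 : E₂ ≤ Subgroup.centralizer (E₁ : Set G) :=
            Subgroup.commutator_eq_bot_iff_le_centralizer.1
              (by rw [Subgroup.commutator_comm]; exact hEE)
          exact h1.trans (Subgroup.centralizer_le inf_le_left)
      intro g hg
      have hgc := hcent hg
      rw [Subgroup.mem_centralizer_iff] at hgc
      rw [Subgroup.mem_normalizer_iff]
      intro y
      constructor
      · intro hy
        have h1 := hgc y hy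
        have e : g * y * g⁻¹ = y := by
          rw [← h1]
          group
        rw [e]
        exact hy
      · intro hy
        have h1 := hgc _ hy
        have e : y = g * y * g⁻¹ := by
          calc y = g⁻¹ * ((g * y * g⁻¹) * g) := by group
            _ = g⁻¹ * (g * (g * y * g⁻¹)) := by rw [h1]
            _ = g * y * g⁻¹ := by group
        rw [e]
        exact hy
    have hZle := Cfsg.Agent.Helper14.le_pCore hZn
      (hZp.comap_of_injective _ (Subgroup.subtype_injective _))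
    rw [hOp] at hZle
    rw [eq_bot_iff]
    intro y hy
    have h1 : (⟨y, Subgroup.mem_sup_left (Subgroup.mem_inf.1 hy).1⟩ : ↥(E₁ ⊔ E₂)) ∈
        (E₁ ⊓ E₂).subgroupOf (E₁ ⊔ E₂) := Subgroup.mem_subgroupOf.2 hy
    have h2 := hZle h1
    rw [Subgroup.mem_bot] at h2 ⊢
    exact congrArg Subtype.val h2
  exact ⟨k1, k2, hEE, hZ, hinf, hVE, hc12, hc21⟩

end main

end Cfsg.Agent.Helper19.LemL
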