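import Mathlib
import Cfsg.Agent.Helper19.BO4
import Cfsg.Agent.Helper19.LemL

/-!
helper19: best offenders, part 5: the structure of `E_A = [O_{p'}(H), A] A` for a best offender
`A` of order `p`.
-/

set_option autoImplicit false
open Cfsg

namespace Cfsg.Agent.Helper19.BO

open scoped commutatorElement

variable {G : Type*} [Group G]

/-- "no eigenvector" -/
def NoEig {p : ℕ} [Fact p.Prime] (Y : Matrix (Fin 2) (Fin 2) (ZMod p)) : Prop :=
  ∀ m n : ZMod p, (m ≠ 0 ∨ n ≠ 0) →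
    m * (Y 1 0 * m + Y 1 1 * n) - n * (Y 0 0 * m + Y 0 1 * n) ≠ 0

theorem mat2_noeig : ∀ i j : ZMod 2, i ≠ 0 → j ≠ 0 →
    NoEig (SL2Rec.L j * SL2Rec.U (-i)) ∧
      (SL2Rec.L j * SL2Rec.U (-i)) ^ 2 ≠ (1 : Matrix (Fin 2) (Fin 2) (ZMod 2)) := by
  unfold NoEig
  decide

theorem mat3_noeig : ∀ i j : ZMod 3, i ≠ 0 → j ≠ 0 →
    (SL2Rec.L j * SL2Rec.U (-i)) ^ 8 = (1 : Matrix (Fin 2) (Fin 2) (ZMod 3)) →
    NoEig (SL2Rec.L j * SL2Rec.U (-i)) ∧
      (SL2Rec.L j * SL2Rec.U (-i)) ^ 2 ≠ (1 : Matrix (Fin 2) (Fin 2) (ZMod 3)) := by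
  unfold NoEig
  decide

/-- every subgroup of a finite nilpotent group is subnormal -/
theorem isSubnormal_of_nilpotent {K : Type*} [Group K] [Finite K] [Group.IsNilpotent K] :
    ∀ (n : ℕ) (H : Subgroup K), Nat.card K - Nat.card H = n → H.IsSubnormal := by
  intro n
  induction n using Nat.strong_induction_on with
  | _ n ih =>
  intro H hn
  by_cases hH : H = ⊤
  · rw [hH]
    exact Subgroup.IsSubnormal.top
  · have hlt : H < ⊤ := lt_top_iff_ne_top.2 hH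
    have h1 := Group.normalizerCondition_of_isNilpotent (G := K) H hlt
    have hcard : Nat.card H < Nat.card ↥(Subgroup.normalizer (H : Set K)) := by
      by_contra hcon
      push Not at hcon
      have h2 := Subgroup.eq_of_le_of_card_ge h1.le hcon
      exact h1.ne h2
    have hle : Nat.card ↥(Subgroup.normalizer (H : Set K)) ≤ Nat.card K :=
      Subgroup.card_le_card_group _
    have h3 := ih (Nat.card K - Nat.card ↥(Subgroup.normalizer (H : Set K))) (by omega)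
      (Subgroup.normalizer (H : Set K)) rfl
    exact Subgroup.IsSubnormal.step H _ h1.le h3 Subgroup.normal_in_normalizer

theorem isSubnormal_of_isPGroup {K : Type*} [Group K] [Finite K] {q : ℕ} [Fact q.Prime]
    (hK : IsPGroup q K) (H : Subgroup K) : H.IsSubnormal := by
  haveI := hK.isNilpotent
  exact isSubnormal_of_nilpotent _ H rfl

/-- `O_p` of a `p'`-group is trivial -/
theorem pCore_eq_bot_of_coprime {K : Type*} [Group K] [Finite K] {p : ℕ} [Fact p.Prime]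
    (h : (Nat.card K).Coprime p) : Cfsg.pCore p K = ⊥ := by
  have h1 := Cfsg.Agent.Helper14.pCore_isPGroup p K
  rw [eq_bot_iff]
  intro x hx
  obtain ⟨k, hk⟩ := h1 ⟨x, hx⟩
  have hk' : x ^ p ^ k = 1 := congrArg Subtype.val hk
  have h2 : orderOf x ∣ p ^ k := orderOf_dvd_of_pow_eq_one hk'
  have h3 : orderOf x ∣ Nat.card K := orderOf_dvd_natCard x
  have h4 : orderOf x = 1 := Nat.eq_one_of_dvd_coprimes (Nat.Coprime.pow_right k h) h3 h2
  exact orderOf_eq_one_iff.1 h4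

/-- the subgroup of elements acting trivially on `V / W` -/
def stabSub (V W : Subgroup G) (hWV : W ≤ V) : Subgroup G where
  carrier := {g | (∀ v ∈ V, ⁅v, g⁆ ∈ W) ∧ (∀ v ∈ V, ⁅v, g⁻¹⁆ ∈ W)}
  one_mem' := ⟨fun v _ => by rw [commutatorElement_one_right]; exact one_mem _,
    fun v _ => by rw [inv_one, commutatorElement_one_right]; exact one_mem _⟩
  mul_mem' := by
    have hconj : ∀ g : G, (∀ v ∈ V, ⁅v, g⁆ ∈ W) → ∀ w ∈ W, g * w * g⁻¹ ∈ W := by
      intro g hg w hw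
      have e : g * w * g⁻¹ = (⁅w, g⁆)⁻¹ * w := by
        rw [commutatorElement_def]
        group
      rw [e]
      exact mul_mem (inv_mem (hg w (hWV hw))) hw
    rintro g h ⟨hg1, hg2⟩ ⟨hh1, hh2⟩
    refine ⟨fun v hv => ?_, fun v hv => ?_⟩
    · have e : ⁅v, g * h⁆ = ⁅v, g⁆ * (g * ⁅v, h⁆ * g⁻¹) := by
        simp only [commutatorElement_def]
        group
      rw [e]
      exact mul_mem (hg1 v hv) (hconj g hg1 _ (hh1 v hv))
    · have e : ⁅v, (g * h)⁻¹⁆ = ⁅v, h⁻¹⁆ * (h⁻¹ * ⁅v, g⁻¹⁆ * h⁻¹⁻¹) := by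
        simp only [commutatorElement_def]
        group
      rw [e]
      exact mul_mem (hh2 v hv) (hconj h⁻¹ hh2 _ (hg2 v hv))
  inv_mem' := by
    rintro g ⟨hg1, hg2⟩
    exact ⟨hg2, by rwa [inv_inv]⟩

theorem le_stabSub {V W K : Subgroup G} (hWV : W ≤ V) (h : ⁅V, K⁆ ≤ W) :
    K ≤ stabSub V W hWV :=
  fun _ hk => ⟨fun _ hv => h (Subgroup.commutator_mem_commutator hv hk),
    fun _ hv => h (Subgroup.commutator_mem_commutator hv (inv_mem hk))⟩

theorem comm_le_of_le_stabSub {V W K : Subgroup G} (hWV : W ≤ V) (h : K ≤ stabSub V W hWV) :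
    ⁅V, K⁆ ≤ W := by
  rw [Subgroup.commutator_le]
  intro v hv g hg
  exact (h hg).1 v hv

theorem stabSub_le_normalizer {V W : Subgroup G} (hWV : W ≤ V) :
    stabSub V W hWV ≤ Subgroup.normalizer (W : Set G) := by
  have hconj : ∀ g : G, (∀ v ∈ V, ⁅v, g⁆ ∈ W) → ∀ w ∈ W, g * w * g⁻¹ ∈ W := by
    intro g hg w hw
    have e : g * w * g⁻¹ = (⁅w, g⁆)⁻¹ * w := by
      rw [commutatorElement_def]
      group
    rw [e]
    exact mul_mem (inv_mem (hg w (hWV hw))) hw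
  intro g hg
  rw [Subgroup.mem_normalizer_iff]
  intro w
  constructor
  · intro hw
    exact hconj g hg.1 w hw
  · intro hw
    have h1 := hconj g⁻¹ hg.2 _ hw
    have e : g⁻¹ * (g * w * g⁻¹) * g⁻¹⁻¹ = w := by group
    rwa [e] at h1

/-- `[Q, A]` is normalized by `Q` -/
theorem comm_normal_left (Q A : Subgroup G) :
    Q ≤ Subgroup.normalizer ((⁅Q, A⁆ : Subgroup G) : Set G) := by
  have key : ∀ y ∈ Q, ∀ h ∈ ⁅Q, A⁆, y * h * y⁻¹ ∈ ⁅Q, A⁆ := by
    intro y hy h hh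
    have hle : ⁅Q, A⁆ ≤ (⁅Q, A⁆).comap (MulAut.conj y).toMonoidHom := by
      rw [Subgroup.commutator_le]
      intro q hq a ha
      rw [Subgroup.mem_comap]
      show y * ⁅q, a⁆ * y⁻¹ ∈ ⁅Q, A⁆
      have e : y * ⁅q, a⁆ * y⁻¹ = ⁅y * q, a⁆ * (⁅y, a⁆)⁻¹ := by
        simp only [commutatorElement_def]
        group
      rw [e]
      exact mul_mem (Subgroup.commutator_mem_commutator (mul_mem hy hq) ha)
        (inv_mem (Subgroup.commutator_mem_commutator hy ha))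
    exact hle hh
  intro y hy
  rw [Subgroup.mem_normalizer_iff]
  intro h
  constructor
  · exact key y hy h
  · intro hh
    have h1 := key y⁻¹ (inv_mem hy) _ hh
    have e : y⁻¹ * (y * h * y⁻¹) * y⁻¹⁻¹ = h := by group
    rwa [e] at h1

section frame

variable [Finite G] {p : ℕ} [Fact p.Prime] {c c' : G}

theorem mem_W (F : SL2Rec.Frame p c c') {w : G}
    (hw : w ∈ Subgroup.zpowers c ⊔ Subgroup.zpowers c') :
    ∃ v : Fin 2 → ZMod p, w = SL2Rec.vec c c' v := by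
  have hcomm : ∀ n ∈ Subgroup.zpowers c, ∀ k ∈ Subgroup.zpowers c', n * k = k * n := by
    intro n hn k hk
    obtain ⟨r, rfl⟩ := Subgroup.mem_zpowers_iff.1 hn
    obtain ⟨s, rfl⟩ := Subgroup.mem_zpowers_iff.1 hk
    exact (Commute.zpow_zpow (F.comm : Commute c c') r s).eq
  obtain ⟨n, hn, k, hk, rfl⟩ := mem_sup_of_comm hcomm hw
  obtain ⟨r, hr⟩ := (Submonoid.mem_powers_iff _ _).1 ((mem_powers_iff_mem_zpowers).2 hn)
  obtain ⟨s, hs⟩ := (Submonoid.mem_powers_iff _ _).1 ((mem_powers_iff_mem_zpowers).2 hk)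
  refine ⟨fun i => if i = 0 then (r : ZMod p) else (s : ZMod p), ?_⟩
  unfold SL2Rec.vec
  simp only [if_true, Fin.isValue, one_ne_zero, if_false]
  rw [SL2Rec.zp_natCast F.pow, SL2Rec.zp_natCast F.pow', hr, hs]

theorem vec_mem_W (v : Fin 2 → ZMod p) :
    SL2Rec.vec c c' v ∈ Subgroup.zpowers c ⊔ Subgroup.zpowers c' :=
  SL2Rec.vec_mem (Subgroup.mem_sup_left (Subgroup.mem_zpowers c))
    (Subgroup.mem_sup_right (Subgroup.mem_zpowers c')) v

theorem vec_eq_one (F : SL2Rec.Frame p c c') {v : Fin 2 → ZMod p}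
    (h : SL2Rec.vec c c' v = 1) : v = 0 := by
  apply SL2Rec.vec_inj F
  rw [h, SL2Rec.vec_zero]

/-- an element with no eigenvector fixes no nontrivial element of `W` -/
theorem fix_of_noeig (F : SL2Rec.Frame p c c') {t : G} {Y : Matrix (Fin 2) (Fin 2) (ZMod p)}
    (ht : SL2Rec.ActsAs c c' t Y) (hY : NoEig Y) {w : G}
    (hw : w ∈ Subgroup.zpowers c ⊔ Subgroup.zpowers c') (hfix : t * w = w * t) : w = 1 := by
  obtain ⟨v, rfl⟩ := mem_W F hw
  have h1 := ht v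
  have h2 : t * SL2Rec.vec c c' v * t⁻¹ = SL2Rec.vec c c' v := by
    rw [hfix]
    group
  rw [h2] at h1
  have h3 := SL2Rec.vec_inj F h1
  by_cases hv : v 0 ≠ 0 ∨ v 1 ≠ 0
  · exfalso
    apply hY (v 0) (v 1) hv
    have e0 : (Y.mulVec v) 0 = Y 0 0 * v 0 + Y 0 1 * v 1 := by
      simp [Matrix.mulVec, dotProduct, Fin.sum_univ_two]
    have e1 : (Y.mulVec v) 1 = Y 1 0 * v 0 + Y 1 1 * v 1 := by
      simp [Matrix.mulVec, dotProduct, Fin.sum_univ_two]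
    rw [← e0, ← e1, ← h3]
    ring
  · push Not at hv
    have hv0 : v = 0 := by
      funext i
      fin_cases i
      · exact hv.1
      · exact hv.2
    rw [hv0, SL2Rec.vec_zero]

/-- an element with no eigenvector acts irreducibly on `W` -/
theorem irr_of_noeig (F : SL2Rec.Frame p c c') {t : G} {Y : Matrix (Fin 2) (Fin 2) (ZMod p)}
    (ht : SL2Rec.ActsAs c c' t Y) (hY : NoEig Y) {U : Subgroup G}
    (hUW : U ≤ Subgroup.zpowers c ⊔ Subgroup.zpowers c') (hUn : ∀ u ∈ U, t * u * t⁻¹ ∈ U)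
    (hU1 : U ≠ ⊥) : U = Subgroup.zpowers c ⊔ Subgroup.zpowers c' := by
  apply le_antisymm hUW
  obtain ⟨w, hwU, hw1⟩ : ∃ w ∈ U, w ≠ 1 := by
    by_contra hcon
    push Not at hcon
    exact hU1 ((Subgroup.eq_bot_iff_forall U).2 hcon)
  obtain ⟨v, rfl⟩ := mem_W F (hUW hwU)
  have hv : v 0 ≠ 0 ∨ v 1 ≠ 0 := by
    by_contra hcon
    push Not at hcon
    apply hw1
    have hv0 : v = 0 := by
      funext i
      fin_cases i
      · exact hcon.1
      · exact hcon.2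
    rw [hv0, SL2Rec.vec_zero]
  have hd := hY (v 0) (v 1) hv
  have e0 : (Y.mulVec v) 0 = Y 0 0 * v 0 + Y 0 1 * v 1 := by
    simp [Matrix.mulVec, dotProduct, Fin.sum_univ_two]
  have e1 : (Y.mulVec v) 1 = Y 1 0 * v 0 + Y 1 1 * v 1 := by
    simp [Matrix.mulVec, dotProduct, Fin.sum_univ_two]
  rw [← e0, ← e1] at hd
  have hYv : SL2Rec.vec c c' (Y.mulVec v) ∈ U := by
    rw [← ht v]
    exact hUn _ hwU
  intro u' hu'
  obtain ⟨u, rfl⟩ := mem_W F hu'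
  obtain ⟨d, hddef⟩ : ∃ d, d = v 0 * (Y.mulVec v) 1 - v 1 * (Y.mulVec v) 0 := ⟨_, rfl⟩
  rw [← hddef] at hd
  have e : u = ((u 0 * (Y.mulVec v) 1 - u 1 * (Y.mulVec v) 0) / d) • v +
      ((v 0 * u 1 - v 1 * u 0) / d) • (Y.mulVec v) := by
    funext i
    fin_cases i
    · simp only [Fin.zero_eta, Fin.isValue, Pi.add_apply, Pi.smul_apply, smul_eq_mul]
      field_simp
      rw [hddef]
      ring
    · simp only [Fin.mk_one, Fin.isValue, Pi.add_apply, Pi.smul_apply, smul_eq_mul]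
      field_simp
      rw [hddef]
      ring
  rw [e, SL2Rec.vec_add F, SL2Rec.vec_smul F, SL2Rec.vec_smul F]
  exact mul_mem (SL2Rec.zp_mem hwU _) (SL2Rec.zp_mem hYv _)

/-- lifting an element of order `p` normalizing `W` to the `SL₂(p)`. -/
theorem lift (F : SL2Rec.Frame p c c') {E : Subgroup G}
    (ρ : E ≃* Matrix.SpecialLinearGroup (Fin 2) (ZMod p))
    (hρ : ∀ g : E, SL2Rec.ActsAs c c' (g : G)
      ((ρ g : Matrix.SpecialLinearGroup (Fin 2) (ZMod p)) : Matrix (Fin 2) (Fin 2) (ZMod p)))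
    {g : G} (hgp : g ^ p = 1)
    (hgW : ∀ w ∈ Subgroup.zpowers c ⊔ Subgroup.zpowers c',
      g * w * g⁻¹ ∈ Subgroup.zpowers c ⊔ Subgroup.zpowers c') :
    ∃ g' ∈ E, SL2Rec.ActsAs c c' (g'⁻¹ * g) (1 : Matrix (Fin 2) (Fin 2) (ZMod p)) := by
  obtain ⟨v0, hv0⟩ := mem_W F (hgW c (Subgroup.mem_sup_left (Subgroup.mem_zpowers c)))
  obtain ⟨v1, hv1⟩ := mem_W F (hgW c' (Subgroup.mem_sup_right (Subgroup.mem_zpowers c')))
  obtain ⟨M, hMdef⟩ : ∃ M : Matrix (Fin 2) (Fin 2) (ZMod p),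
      M = Matrix.of (fun i j => if j = 0 then v0 i else v1 i) := ⟨_, rfl⟩
  have hM : SL2Rec.ActsAs c c' g M := by
    apply SL2Rec.actsAs_of_basis F
    · rw [hv0, hMdef]
      rfl
    · rw [hv1, hMdef]
      rfl
  have hMp : M ^ p = 1 := by
    have h1 := hM.pow p
    rw [hgp] at h1
    exact SL2Rec.ActsAs.unique F h1 SL2Rec.ActsAs.one
  have hdet : M.det = 1 := by
    have h1 : M.det ^ p = 1 := by rw [← Matrix.det_pow, hMp, Matrix.det_one]
    rwa [ZMod.pow_card] at h1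
  obtain ⟨N, hN⟩ : ∃ N : Matrix.SpecialLinearGroup (Fin 2) (ZMod p),
      (N : Matrix (Fin 2) (Fin 2) (ZMod p)) = M := ⟨⟨M, hdet⟩, rfl⟩
  obtain ⟨g', hg'⟩ := ρ.surjective N
  have h2 := hρ g'
  rw [hg'] at h2
  refine ⟨g', g'.2, ?_⟩
  have h3 : SL2Rec.ActsAs c c' ((g' : G)⁻¹)
      ((N⁻¹ : Matrix.SpecialLinearGroup (Fin 2) (ZMod p)) :
        Matrix (Fin 2) (Fin 2) (ZMod p)) := by
    apply h2.inv
    rw [← Matrix.SpecialLinearGroup.coe_mul, mul_inv_cancel, Matrix.SpecialLinearGroup.coe_one]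
  rw [← hN] at hM
  have h4 := h3.mul hM
  rw [← Matrix.SpecialLinearGroup.coe_mul, inv_mul_cancel,
    Matrix.SpecialLinearGroup.coe_one] at h4
  exact h4

end frame

section main

variable [Finite G] {p : ℕ} [Fact p.Prime] {V H : Subgroup G}

/-- data attached to a non-centralizing `x ∈ O_{p'}(H)`: the commutator `t = [x, a]` acts
irreducibly on `W_x = [V, ⟨A, A^x⟩]`. -/
theorem tx_facts (S : Setup p V H) {A : Subgroup G} (hAH : A ≤ H)
    (hA : Cfsg.IsBestOffenderOn p V A) (hcard : Nat.card A = p) {a : G} (haA : a ∈ A)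
    (ha1 : a ≠ 1) {c : G} (hc : c ∈ ⁅V, A⁆) (hc1 : c ≠ 1) {x : G} (hx : x ∈ Qc p H)
    (hxa : x * a ≠ a * x) :
    ∃ Y : Matrix (Fin 2) (Fin 2) (ZMod p), (p = 2 ∨ p = 3) ∧
      SL2Rec.Frame p c (x * c * x⁻¹) ∧ SL2Rec.ActsAs c (x * c * x⁻¹) ⁅x, a⁆ Y ∧ NoEig Y ∧
      ⁅V, A ⊔ A.map (MulAut.conj x).toMonoidHom⁆ =
        Subgroup.zpowers c ⊔ Subgroup.zpowers (x * c * x⁻¹) ∧
      ⁅V, Subgroup.zpowers ⁅x, a⁆⁆ = ⁅V, A ⊔ A.map (MulAut.conj x).toMonoidHom⁆ ∧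
      LemL.Irr V (Subgroup.zpowers ⁅x, a⁆) ∧ 2 < Nat.card (Subgroup.zpowers ⁅x, a⁆) ∧
      ⁅x, a⁆ ∈ A ⊔ A.map (MulAut.conj x).toMonoidHom ∧
      Nat.card ↥⁅V, A ⊔ A.map (MulAut.conj x).toMonoidHom⁆ = p ^ 2 := by
  obtain ⟨i, j, hi, hj, hF, hUa, hLa', hEcl, hVE, hVEcard, hX, hfaith, hEle⟩ :=
    config S hAH hA hcard haA ha1 hc hc1 hx hxa
  obtain ⟨ρ, hρ⟩ := SL2Rec.recognition hF hi hj hUa hLa' _ hEcl hfaith
  have hp23 := p_eq_two_or_three S hAH hA hcard haA ha1 hF hUa (Subgroup.mem_sup_left haA)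
    hEle ρ hρ
  have hUa' : SL2Rec.ActsAs c (x * c * x⁻¹) a⁻¹ (SL2Rec.U (-i)) :=
    hUa.inv (by rw [SL2Rec.U_mul, add_neg_cancel, SL2Rec.U_zero])
  have hact : SL2Rec.ActsAs c (x * c * x⁻¹) ⁅x, a⁆ (SL2Rec.L j * SL2Rec.U (-i)) := by
    rw [commutatorElement_def]
    exact hLa'.mul hUa'
  have hm : x * a * x⁻¹ ∈ A.map (MulAut.conj x).toMonoidHom := ⟨a, haA, rfl⟩
  have hmem : ⁅x, a⁆ ∈ A ⊔ A.map (MulAut.conj x).toMonoidHom := by
    rw [commutatorElement_def]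
    exact mul_mem (Subgroup.mem_sup_right hm) (Subgroup.mem_sup_left (inv_mem haA))
  have hYfacts : NoEig (SL2Rec.L j * SL2Rec.U (-i)) ∧
      (SL2Rec.L j * SL2Rec.U (-i)) ^ 2 ≠ 1 := by
    rcases hp23 with hp2 | hp3
    · subst hp2
      exact mat2_noeig i j hi hj
    · have h8 := (comm_pow_eq_one S hAH hA hcard haA hx).2 hp3
      subst hp3
      have h1 := hact.pow 8
      rw [h8] at h1
      exact mat3_noeig i j hi hj (SL2Rec.ActsAs.unique hF h1 SL2Rec.ActsAs.one)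
  obtain ⟨hNE, hY2⟩ := hYfacts
  have ht1 : ⁅x, a⁆ ≠ 1 := by
    intro h
    apply hxa
    rw [commutatorElement_eq_one_iff_mul_comm] at h
    exact h
  obtain ⟨t, htdef⟩ : ∃ t, t = ⁅x, a⁆ := ⟨_, rfl⟩
  rw [← htdef] at hact hmem ht1 ⊢
  obtain ⟨Ex, hExdef⟩ : ∃ Ex, Ex = A ⊔ A.map (MulAut.conj x).toMonoidHom := ⟨_, rfl⟩
  rw [← hExdef] at hVE hX hmem hVEcard hEle ⊢
  obtain ⟨c', hc'def⟩ : ∃ c', c' = x * c * x⁻¹ := ⟨_, rfl⟩
  rw [← hc'def] at hVE hF hact ⊢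
  obtain ⟨W, hWdef⟩ : ∃ W, W = Subgroup.zpowers c ⊔ Subgroup.zpowers c' := ⟨_, rfl⟩
  rw [← hWdef] at hVE ⊢
  rw [hVE] at hX hVEcard ⊢
  have hExH : Ex ≤ H := hEle.trans (sup_le (Qc_le p H) hAH)
  have hExV : Ex ≤ Subgroup.normalizer (V : Set G) := hExH.trans S.hHV
  have hExW : Ex ≤ Subgroup.normalizer (W : Set G) := by
    rw [← hVE]
    exact LemL.le_normalizer_comm hExV
  have hWV : W ≤ V := by
    rw [← hVE]
    exact Cfsg.Agent.Helper23.commutator_le_of_le_normalizer hExV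
  have hzt : Subgroup.zpowers t ≤ Ex := by
    rw [Subgroup.zpowers_le]
    exact hmem
  have hirrW : ∀ U : Subgroup G, U ≤ W →
      Subgroup.zpowers t ≤ Subgroup.normalizer (U : Set G) → U = ⊥ ∨ U = W := by
    intro U hU hn
    by_cases hU1 : U = ⊥
    · exact Or.inl hU1
    · right
      rw [hWdef] at hU ⊢
      exact irr_of_noeig hF hact hNE hU
        (fun u hu => (Subgroup.mem_normalizer_iff.1 (hn (Subgroup.mem_zpowers t)) u).1 hu) hU1
  have hVt : ⁅V, Subgroup.zpowers t⁆ = W := by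
    apply le_antisymm
    · rw [← hVE]
      exact Subgroup.commutator_mono le_rfl hzt
    · have hztW : Subgroup.zpowers t ≤ Subgroup.normalizer (W : Set G) := hzt.trans hExW
      have hU : ⁅W, Subgroup.zpowers t⁆ ≤ W :=
        Cfsg.Agent.Helper23.commutator_le_of_le_normalizer hztW
      rcases hirrW _ hU (LemL.le_normalizer_comm hztW) with h | h
      · exfalso
        rw [Subgroup.commutator_eq_bot_iff_le_centralizer] at h
        have h1 : t ∈ Ex ⊓ Subgroup.centralizer (W : Set G) := by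
          refine Subgroup.mem_inf.2 ⟨hmem, ?_⟩
          rw [Subgroup.mem_centralizer_iff]
          intro w hw
          exact (Subgroup.mem_centralizer_iff.1 (h hw) t (Subgroup.mem_zpowers t)).symm
        rw [hX] at h1
        exact ht1 h1
      · calc W = ⁅W, Subgroup.zpowers t⁆ := h.symm
          _ ≤ ⁅V, Subgroup.zpowers t⁆ := Subgroup.commutator_mono hWV le_rfl
  refine ⟨SL2Rec.L j * SL2Rec.U (-i), hp23, hF, hact, hNE, rfl, hVt, ?_, ?_, hmem, hVEcard⟩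
  · intro U hU hn
    rw [hVt] at hU ⊢
    exact hirrW U hU hn
  · rw [Nat.card_zpowers]
    have h2 : t ^ 2 ≠ 1 := by
      intro h
      have h1 := hact.pow 2
      rw [h] at h1
      exact hY2 (SL2Rec.ActsAs.unique hF h1 SL2Rec.ActsAs.one)
    have hpos : 0 < orderOf t := orderOf_pos t
    by_contra hcon
    push Not at hcon
    interval_cases h : orderOf t
    · exact ht1 (orderOf_eq_one_iff.1 h)
    · exact h2 (by rw [← h]; exact pow_orderOf_eq_one t)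

theorem T_pgroup (S : Setup p V H) {A : Subgroup G} (hAH : A ≤ H)
    (hA : Cfsg.IsBestOffenderOn p V A) (hcard : Nat.card A = p) (hp23 : p = 2 ∨ p = 3) :
    ∃ q : ℕ, q.Prime ∧ IsPGroup q ↥⁅Qc p H, A⁆ := by
  rcases hp23 with hp2 | hp3
  · haveI : Fact (Nat.Prime 3) := ⟨Nat.prime_three⟩
    exact ⟨3, Nat.prime_three, comm_isPGroup S hAH hA hcard (q := 3) (N := 1)
      (fun y hy b hb => by
        rw [pow_one]
        exact (comm_pow_eq_one S hAH hA hcard hb hy).1 hp2)⟩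
  · haveI : Fact (Nat.Prime 2) := ⟨Nat.prime_two⟩
    exact ⟨2, Nat.prime_two, comm_isPGroup S hAH hA hcard (q := 2) (N := 3)
      (fun y hy b hb => (comm_pow_eq_one S hAH hA hcard hb hy).2 hp3)⟩

/-- `W_x` does not depend on `x` -/
theorem W_indep (S : Setup p V H) {A : Subgroup G} (hAH : A ≤ H)
    (hA : Cfsg.IsBestOffenderOn p V A) (hcard : Nat.card A = p) {a : G} (haA : a ∈ A)
    (ha1 : a ≠ 1) {c : G} (hc : c ∈ ⁅V, A⁆) (hc1 : c ≠ 1) {x y : G} (hx : x ∈ Qc p H)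
    (hxa : x * a ≠ a * x) (hy : y ∈ Qc p H) (hya : y * a ≠ a * y) :
    ⁅V, A ⊔ A.map (MulAut.conj x).toMonoidHom⁆ =
      ⁅V, A ⊔ A.map (MulAut.conj y).toMonoidHom⁆ := by
  by_contra hne
  obtain ⟨Yx, hp23, hFx, hactx, hNEx, hVEx, hVtx, hirrx, hcx, hmemx, hcardx⟩ :=
    tx_facts S hAH hA hcard haA ha1 hc hc1 hx hxa
  obtain ⟨Yy, _, hFy, hacty, hNEy, hVEy, hVty, hirry, hcy, hmemy, hcardy⟩ :=
    tx_facts S hAH hA hcard haA ha1 hc hc1 hy hya
  obtain ⟨q, hq, hTq⟩ := T_pgroup S hAH hA hcard hp23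
  haveI : Fact q.Prime := ⟨hq⟩
  have hE₁T : Subgroup.zpowers ⁅x, a⁆ ≤ ⁅Qc p H, A⁆ := by
    rw [Subgroup.zpowers_le]
    exact Subgroup.commutator_mem_commutator hx haA
  have hE₂T : Subgroup.zpowers ⁅y, a⁆ ≤ ⁅Qc p H, A⁆ := by
    rw [Subgroup.zpowers_le]
    exact Subgroup.commutator_mem_commutator hy haA
  have hE'T : Subgroup.zpowers ⁅x, a⁆ ⊔ Subgroup.zpowers ⁅y, a⁆ ≤ ⁅Qc p H, A⁆ :=
    sup_le hE₁T hE₂T
  have hTQ : ⁅Qc p H, A⁆ ≤ Qc p H :=
    Cfsg.Agent.Helper23.commutator_le_of_le_normalizer (hAH.trans (Qc_normal p H))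
  have hE'H : Subgroup.zpowers ⁅x, a⁆ ⊔ Subgroup.zpowers ⁅y, a⁆ ≤ H :=
    (hE'T.trans hTQ).trans (Qc_le p H)
  have hE'p : IsPGroup q ↥(Subgroup.zpowers ⁅x, a⁆ ⊔ Subgroup.zpowers ⁅y, a⁆) :=
    hTq.to_le hE'T
  have hOp : Cfsg.pCore p ↥(Subgroup.zpowers ⁅x, a⁆ ⊔ Subgroup.zpowers ⁅y, a⁆) = ⊥ :=
    pCore_eq_bot_of_coprime (Nat.Coprime.coprime_dvd_left
      (Subgroup.card_dvd_of_le (hE'T.trans hTQ)) (Qc_coprime p H))
  have h12 : ¬ ⁅V, Subgroup.zpowers ⁅x, a⁆⁆ ≤ ⁅V, Subgroup.zpowers ⁅y, a⁆⁆ := by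
    rw [hVtx, hVty]
    intro hle
    exact hne (Subgroup.eq_of_le_of_card_ge hle (by rw [hcardx, hcardy]))
  have h21 : ¬ ⁅V, Subgroup.zpowers ⁅y, a⁆⁆ ≤ ⁅V, Subgroup.zpowers ⁅x, a⁆⁆ := by
    rw [hVtx, hVty]
    intro hle
    exact hne (Subgroup.eq_of_le_of_card_ge hle (by rw [hcardx, hcardy])).symm
  obtain ⟨_, _, _, _, hinf, _, _, _⟩ := LemL.lemmaL S.hV (hE'H.trans S.hHV)
    (by rw [eq_bot_iff, ← S.hf]; exact inf_le_inf_right _ hE'H) rfl
    (isSubnormal_of_isPGroup hE'p _) (isSubnormal_of_isPGroup hE'p _) hOp hirrx hirry h12 h21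
    hcx hcy
  rw [hVtx, hVty] at hinf
  have h1 : c ∈ ⁅V, A ⊔ A.map (MulAut.conj x).toMonoidHom⁆ ⊓
      ⁅V, A ⊔ A.map (MulAut.conj y).toMonoidHom⁆ := by
    refine Subgroup.mem_inf.2 ⟨?_, ?_⟩
    · rw [hVEx]
      exact Subgroup.mem_sup_left (Subgroup.mem_zpowers c)
    · rw [hVEy]
      exact Subgroup.mem_sup_left (Subgroup.mem_zpowers c)
  rw [hinf] at h1
  exact hc1 h1

end main

end Cfsg.Agent.Helper19.BO
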