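import Mathlib
import Cfsg.Agent.Helper19.BO5

/-!
helper19: best offenders, part 6: the structure theorem for `E_A = [O_{p'}(H), A] A`.
-/

set_option autoImplicit false
open Cfsg

namespace Cfsg.Agent.Helper19.BO

open scoped commutatorElement

variable {G : Type*} [Group G]

theorem card_cent_conj [Finite G] {V A : Subgroup G} {x : G}
    (hx : x ∈ Subgroup.normalizer (V : Set G)) :
    Nat.card ↥(V ⊓ Subgroup.centralizer
      ((A.map (MulAut.conj x).toMonoidHom : Subgroup G) : Set G)) =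
      Nat.card ↥(V ⊓ Subgroup.centralizer (A : Set G)) := by
  have e : V ⊓ Subgroup.centralizer ((A.map (MulAut.conj x).toMonoidHom : Subgroup G) : Set G) =
      LemL.cj x (V ⊓ Subgroup.centralizer (A : Set G)) := by
    ext y
    rw [LemL.mem_cj, Subgroup.mem_inf, Subgroup.mem_inf]
    constructor
    · rintro ⟨hyV, hyC⟩
      refine ⟨?_, ?_⟩
      · have h1 := (Subgroup.mem_normalizer_iff.1 (inv_mem hx) y).1 hyV
        rwa [inv_inv] at h1
      · rw [Subgroup.mem_centralizer_iff] at hyC ⊢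
        intro b hb
        have h1 := hyC (x * b * x⁻¹) ⟨b, hb, rfl⟩
        calc b * (x⁻¹ * y * x) = x⁻¹ * ((x * b * x⁻¹) * y) * x := by group
          _ = x⁻¹ * (y * (x * b * x⁻¹)) * x := by rw [h1]
          _ = x⁻¹ * y * x * b := by group
    · rintro ⟨hyV, hyC⟩
      refine ⟨?_, ?_⟩
      · have h1 := (Subgroup.mem_normalizer_iff.1 hx (x⁻¹ * y * x)).1 hyV
        have e : x * (x⁻¹ * y * x) * x⁻¹ = y := by group
        rwa [e] at h1
      · rw [Subgroup.mem_centralizer_iff] at hyC ⊢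
        rintro _ ⟨b, hb, rfl⟩
        have h1 := hyC b hb
        show x * b * x⁻¹ * y = y * (x * b * x⁻¹)
        calc x * b * x⁻¹ * y = x * (b * (x⁻¹ * y * x)) * x⁻¹ := by group
          _ = x * ((x⁻¹ * y * x) * b) * x⁻¹ := by rw [h1]
          _ = y * (x * b * x⁻¹) := by group
  rw [e, LemL.card_cj]

/-- the structure of `E_A = [O_{p'}(H), A] A` -/
structure ST (p : ℕ) [Fact p.Prime] (V H A : Subgroup G) : Prop where
  p23 : p = 2 ∨ p = 3
  iso : Nonempty (↥(⁅Qc p H, A⁆ ⊔ A) ≃* Matrix.SpecialLinearGroup (Fin 2) (ZMod p))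
  cardW : Nat.card ↥⁅V, ⁅Qc p H, A⁆ ⊔ A⁆ = p ^ 2
  faith : (⁅Qc p H, A⁆ ⊔ A) ⊓
    Subgroup.centralizer ((⁅V, ⁅Qc p H, A⁆ ⊔ A⁆ : Subgroup G) : Set G) = ⊥
  infW : ⁅V, ⁅Qc p H, A⁆ ⊔ A⁆ ⊓
    (V ⊓ Subgroup.centralizer ((⁅Qc p H, A⁆ ⊔ A : Subgroup G) : Set G)) = ⊥
  supW : ⁅V, ⁅Qc p H, A⁆ ⊔ A⁆ ⊔
    (V ⊓ Subgroup.centralizer ((⁅Qc p H, A⁆ ⊔ A : Subgroup G) : Set G)) = V
  irrT : LemL.Irr V ⁅Qc p H, A⁆
  commT : ⁅V, ⁅Qc p H, A⁆⁆ = ⁅V, ⁅Qc p H, A⁆ ⊔ A⁆
  cardT : 2 < Nat.card ↥⁅Qc p H, A⁆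
  centT : V ⊓ Subgroup.centralizer ((⁅Qc p H, A⁆ : Subgroup G) : Set G) =
    V ⊓ Subgroup.centralizer ((⁅Qc p H, A⁆ ⊔ A : Subgroup G) : Set G)
  absorb : ∀ h ∈ H, h ^ p = 1 → ⁅V, Subgroup.zpowers h⁆ ≤ ⁅V, ⁅Qc p H, A⁆ ⊔ A⁆ →
    h ∈ ⁅Qc p H, A⁆ ⊔ A

section main

variable [Finite G] {p : ℕ} [Fact p.Prime] {V H : Subgroup G}

theorem st (S : Setup p V H) {A : Subgroup G} (hAH : A ≤ H)
    (hA : Cfsg.IsBestOffenderOn p V A) (hcard : Nat.card A = p) : ST p V H A := by
  have hp := (Fact.out : p.Prime)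
  obtain ⟨hVAcard, _, hCVA⟩ := order_p_facts S hAH hA hcard
  obtain ⟨a, haA, ha1, hAz⟩ := exists_zpowers_of_card_prime hcard
  obtain ⟨c, hc, hc1, _⟩ := exists_zpowers_of_card_prime hVAcard
  have hAp : IsPGroup p A := IsPGroup.of_card (n := 1) (by rw [hcard, pow_one])
  have hA1 : A ≠ ⊥ := by
    intro h
    rw [h] at haA
    exact ha1 (Subgroup.mem_bot.1 haA)
  have hnc := not_centralize S hAH hAp hA1
  have hcomm_of : ∀ y : G, y * a = a * y → ∀ b ∈ A, y * b = b * y := by
    intro y hy b hb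
    rw [hAz] at hb
    obtain ⟨n, rfl⟩ := Subgroup.mem_zpowers_iff.1 hb
    exact (Commute.zpow_right (hy : Commute y a) n).eq
  obtain ⟨x, hx, hxa⟩ : ∃ x ∈ Qc p H, x * a ≠ a * x := by
    by_contra hcon
    push Not at hcon
    apply hnc
    intro x hx
    rw [Subgroup.mem_centralizer_iff]
    intro y hy
    exact (hcomm_of x (hcon x hx) y hy).symm
  obtain ⟨i, j, hi, hj, hF, hUa, hLa', hEcl, hVE, hVEcard, hX, hfaith, hEle⟩ :=
    config S hAH hA hcard haA ha1 hc hc1 hx hxa
  obtain ⟨Y, hp23, _, hactt, hNE, _, hVt, hirrt, hct, hmemt, _⟩ :=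
    tx_facts S hAH hA hcard haA ha1 hc hc1 hx hxa
  have hW_all : ∀ y ∈ Qc p H, y * a ≠ a * y →
      ⁅V, A ⊔ A.map (MulAut.conj y).toMonoidHom⁆ =
        ⁅V, A ⊔ A.map (MulAut.conj x).toMonoidHom⁆ :=
    fun y hy hya => W_indep S hAH hA hcard haA ha1 hc hc1 hy hya hx hxa
  have ha'Ex : x * a * x⁻¹ ∈ A ⊔ A.map (MulAut.conj x).toMonoidHom :=
    Subgroup.mem_sup_right ⟨a, haA, rfl⟩
  have hcardY := card_cent_conj (A := A) (S.hHV (Qc_le p H hx))
  have hAmap : ∀ y : G, ∀ b ∈ A, y * b * y⁻¹ ∈ A.map (MulAut.conj y).toMonoidHom :=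
    fun y b hb => ⟨b, hb, rfl⟩
  have htT : ⁅x, a⁆ ∈ ⁅Qc p H, A⁆ := Subgroup.commutator_mem_commutator hx haA
  obtain ⟨t, htdef⟩ : ∃ t, t = ⁅x, a⁆ := ⟨_, rfl⟩
  rw [← htdef] at hactt hVt hirrt hct hmemt htT
  obtain ⟨A', hA'def⟩ : ∃ A', A' = A.map (MulAut.conj x).toMonoidHom := ⟨_, rfl⟩
  rw [← hA'def] at hcardY
  have hExsup : A ⊔ A.map (MulAut.conj x).toMonoidHom = A ⊔ A' := by rw [hA'def]
  obtain ⟨Ex, hExdef⟩ : ∃ Ex, Ex = A ⊔ A.map (MulAut.conj x).toMonoidHom := ⟨_, rfl⟩
  rw [← hExdef] at hVE hX hVEcard hEle hfaith hEcl hVt hmemt hW_all ha'Ex hExsup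
  obtain ⟨c', hc'def⟩ : ∃ c', c' = x * c * x⁻¹ := ⟨_, rfl⟩
  rw [← hc'def] at hVE hF hUa hLa' hactt hfaith
  obtain ⟨a', ha'def⟩ : ∃ a', a' = x * a * x⁻¹ := ⟨_, rfl⟩
  rw [← ha'def] at hLa' ha'Ex hEcl
  obtain ⟨ρ, hρ⟩ := SL2Rec.recognition hF hi hj hUa hLa' Ex hEcl hfaith
  obtain ⟨W, hWdef⟩ : ∃ W, W = Subgroup.zpowers c ⊔ Subgroup.zpowers c' := ⟨_, rfl⟩
  rw [← hWdef] at hVE
  rw [hVE] at hX hVEcard hVt hW_all
  have hTQ : ⁅Qc p H, A⁆ ≤ Qc p H :=
    Cfsg.Agent.Helper23.commutator_le_of_le_normalizer (hAH.trans (Qc_normal p H))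
  obtain ⟨T, hTdef⟩ : ∃ T, T = ⁅Qc p H, A⁆ := ⟨_, rfl⟩
  rw [← hTdef] at hTQ htT
  have hTH : T ≤ H := hTQ.trans (Qc_le p H)
  obtain ⟨E, hEdef⟩ : ∃ E, E = T ⊔ A := ⟨_, rfl⟩
  have hTE : T ≤ E := hEdef ▸ le_sup_left
  have hAE : A ≤ E := hEdef ▸ le_sup_right
  have hEH : E ≤ H := hEdef ▸ sup_le hTH hAH
  have hEle' : E ≤ Qc p H ⊔ A := hEdef ▸ sup_le (hTQ.trans le_sup_left) le_sup_right
  have hAEx : A ≤ Ex := hExdef ▸ le_sup_left
  have hExH : Ex ≤ H := hEle.trans (sup_le (Qc_le p H) hAH)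
  have hExV : Ex ≤ Subgroup.normalizer (V : Set G) := hExH.trans S.hHV
  have hWV : W ≤ V := by
    rw [← hVE]
    exact Cfsg.Agent.Helper23.commutator_le_of_le_normalizer hExV
  -- `Ex ≤ E`
  have hcomm_mem : ∀ y ∈ Qc p H, ∀ b ∈ A, ⁅y, b⁆ ∈ T := by
    intro y hy b hb
    rw [hTdef]
    exact Subgroup.commutator_mem_commutator hy hb
  have hconjE : ∀ y ∈ Qc p H, ∀ b ∈ A, y * b * y⁻¹ ∈ E := by
    intro y hy b hb
    have e : y * b * y⁻¹ = ⁅y, b⁆ * b := by
      rw [commutatorElement_def]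
      group
    rw [e]
    exact mul_mem (hTE (hcomm_mem y hy b hb)) (hAE hb)
  have hExE : Ex ≤ E := by
    rw [hExsup]
    refine sup_le hAE ?_
    rw [hA'def]
    rintro _ ⟨b, hb, rfl⟩
    exact hconjE x hx b hb
  -- stabilizer
  have hEx_stab : Ex ≤ stabSub V W hWV := le_stabSub hWV (le_of_eq hVE)
  have hT_stab : T ≤ stabSub V W hWV := by
    rw [hTdef, Subgroup.commutator_le]
    intro y hy b hb
    by_cases hya : y * a = a * y
    · rw [commutatorElement_eq_one_iff_mul_comm.2 (hcomm_of y hya b hb)]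
      exact one_mem _
    · have h1 : A ⊔ A.map (MulAut.conj y).toMonoidHom ≤ stabSub V W hWV :=
        le_stabSub hWV (le_of_eq (hW_all y hy hya))
      apply h1
      rw [commutatorElement_def]
      exact mul_mem (Subgroup.mem_sup_right (hAmap y b hb)) (Subgroup.mem_sup_left (inv_mem hb))
  have hE_stab : E ≤ stabSub V W hWV := hEdef ▸ sup_le hT_stab (hAEx.trans hEx_stab)
  have hVEW : ⁅V, E⁆ = W := by
    apply le_antisymm (comm_le_of_le_stabSub hWV hE_stab)
    rw [← hVE]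
    exact Subgroup.commutator_mono le_rfl hExE
  have hEW : E ≤ Subgroup.normalizer (W : Set G) := hE_stab.trans (stabSub_le_normalizer hWV)
  -- general tools
  have hcentW : ∀ g : G, SL2Rec.ActsAs c c' g (1 : Matrix (Fin 2) (Fin 2) (ZMod p)) →
      g ∈ Subgroup.centralizer (W : Set G) := by
    intro g hact
    have h0 := SL2Rec.ActsAs.comm0 hF hact
    have h1 := SL2Rec.ActsAs.comm1 hF hact
    have hle : W ≤ Subgroup.centralizer ({g} : Set G) := by
      rw [hWdef]
      refine sup_le ?_ ?_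
      · rw [Subgroup.zpowers_le, Subgroup.mem_centralizer_iff]
        intro y hy
        rw [Set.mem_singleton_iff] at hy
        rw [hy]
        exact h0
      · rw [Subgroup.zpowers_le, Subgroup.mem_centralizer_iff]
        intro y hy
        rw [Set.mem_singleton_iff] at hy
        rw [hy]
        exact h1
    rw [Subgroup.mem_centralizer_iff]
    intro w hw
    exact (Subgroup.mem_centralizer_iff.1 (hle hw) g rfl).symm
  have habsorb0 : ∀ g : G, g ^ p = 1 → ∀ K : Subgroup G, Ex ≤ K → g ∈ K →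
      K ≤ Subgroup.normalizer (W : Set G) → K ⊓ Subgroup.centralizer (W : Set G) = ⊥ →
      g ∈ Ex := by
    intro g hgp K hExK hgK hKW hKf
    have hgW : ∀ w ∈ Subgroup.zpowers c ⊔ Subgroup.zpowers c',
        g * w * g⁻¹ ∈ Subgroup.zpowers c ⊔ Subgroup.zpowers c' := by
      rw [← hWdef]
      intro w hw
      exact (Subgroup.mem_normalizer_iff.1 (hKW hgK) w).1 hw
    obtain ⟨g', hg', hact⟩ := lift hF ρ hρ hgp hgW
    have h1 : g'⁻¹ * g ∈ K ⊓ Subgroup.centralizer (W : Set G) :=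
      Subgroup.mem_inf.2 ⟨mul_mem (inv_mem (hExK hg')) hgK, hcentW _ hact⟩
    rw [hKf] at h1
    have h2 : g'⁻¹ * g = 1 := h1
    have h3 : g = g' := by
      calc g = g' * (g'⁻¹ * g) := by group
        _ = g' := by rw [h2, mul_one]
    rw [h3]
    exact hg'
  have hchain : ∀ K : Subgroup G, K ≤ H → K ≤ stabSub V W hWV →
      IsPGroup p ↥(K ⊓ Subgroup.centralizer (W : Set G)) := by
    intro K hKH hKs g
    refine ⟨1, ?_⟩
    rw [pow_one]
    apply Subtype.ext
    have hg := g.2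
    exact stab_chain S hWV (hKH (Subgroup.mem_inf.1 hg).1)
      (fun w hw => (Subgroup.mem_centralizer_iff.1 (Subgroup.mem_inf.1 hg).2 w hw).symm)
      (fun v hv => (hKs (Subgroup.mem_inf.1 hg).1).1 v hv)
  -- faithful
  have hEfaith : E ⊓ Subgroup.centralizer (W : Set G) = ⊥ := by
    have hCp := hchain E hEH hE_stab
    have hEnC : E ≤ Subgroup.normalizer
        ((E ⊓ Subgroup.centralizer (W : Set G) : Subgroup G) : Set G) :=
      fun g hg => normalizer_inf_le _ _ ⟨Subgroup.le_normalizer hg,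
        Cfsg.Agent.Helper23.le_normalizer_centralizer hEW hg⟩
    have hCA : E ⊓ Subgroup.centralizer (W : Set G) ≤ A := by
      have hp1 : IsPGroup p ↥((E ⊓ Subgroup.centralizer (W : Set G)) ⊔ A) :=
        IsPGroup.to_sup_of_normal_left' hCp hAp (hAE.trans hEnC)
      have h2 := card_psub_le hAH hp1 (sup_le (inf_le_left.trans hEle') le_sup_right)
      have h3 : A = (E ⊓ Subgroup.centralizer (W : Set G)) ⊔ A :=
        Subgroup.eq_of_le_of_card_ge le_sup_right h2
      exact le_of_le_of_eq le_sup_left h3.symm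
    rw [eq_bot_iff, ← hX]
    exact le_inf (hCA.trans hAEx) inf_le_right
  -- `E ≤ Ex`
  have hEEx : E ≤ Ex := by
    rw [hEdef]
    refine sup_le ?_ hAEx
    rw [hTdef, Subgroup.commutator_le]
    intro y hy b hb
    have e : ⁅y, b⁆ = (y * b * y⁻¹) * b⁻¹ := commutatorElement_def y b
    rw [e]
    refine mul_mem ?_ (hAEx (inv_mem hb))
    apply habsorb0 _ ?_ E hExE (hconjE y hy b hb) hEW hEfaith
    rw [conj_pow, bo_pow S hAH hA hb]
    group
  have hEeq : E = Ex := le_antisymm hEEx hExE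
  have haE : a ∈ E := hAE haA
  have ha'E : a' ∈ E := hExE ha'Ex
  -- `W ∩ C_V(E) = 1`
  have hinfW : W ⊓ (V ⊓ Subgroup.centralizer (E : Set G)) = ⊥ := by
    rw [eq_bot_iff]
    intro w hw
    obtain ⟨hwW, hwC⟩ := Subgroup.mem_inf.1 hw
    have hwC' := (Subgroup.mem_inf.1 hwC).2
    rw [Subgroup.mem_centralizer_iff] at hwC'
    rw [hWdef] at hwW
    obtain ⟨v, rfl⟩ := mem_W hF hwW
    have h1 := hUa v
    have h2 : a * SL2Rec.vec c c' v * a⁻¹ = SL2Rec.vec c c' v := by
      rw [hwC' a haE]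
      group
    rw [h2] at h1
    have h3 := SL2Rec.vec_inj hF h1
    have h1' := hLa' v
    have h2' : a' * SL2Rec.vec c c' v * a'⁻¹ = SL2Rec.vec c c' v := by
      rw [hwC' a' ha'E]
      group
    rw [h2'] at h1'
    have h3' := SL2Rec.vec_inj hF h1'
    have hv1 : v 1 = 0 := by
      have h4 := congrFun h3 0
      simp [SL2Rec.U, Matrix.mulVec, dotProduct, Fin.sum_univ_two] at h4
      rcases h4 with h4 | h4
      · exact absurd h4 hi
      · exact h4
    have hv0 : v 0 = 0 := by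
      have h4 := congrFun h3' 1
      simp [SL2Rec.L, Matrix.mulVec, dotProduct, Fin.sum_univ_two] at h4
      rcases h4 with h4 | h4
      · exact absurd h4 hj
      · exact h4
    have hv : v = 0 := by
      funext k
      fin_cases k
      · exact hv0
      · exact hv1
    rw [hv, SL2Rec.vec_zero]
    exact one_mem _
  -- `W C_V(E) = V`
  have hsupW : W ⊔ (V ⊓ Subgroup.centralizer (E : Set G)) = V := by
    apply Subgroup.eq_of_le_of_card_ge (sup_le hWV inf_le_left)
    have hXY : (V ⊓ Subgroup.centralizer (A : Set G)) ⊓ (V ⊓ Subgroup.centralizer (A' : Set G)) ≤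
        V ⊓ Subgroup.centralizer (E : Set G) := by
      intro y hy
      obtain ⟨hy1, hy2⟩ := Subgroup.mem_inf.1 hy
      refine Subgroup.mem_inf.2 ⟨(Subgroup.mem_inf.1 hy1).1, ?_⟩
      have hle : E ≤ Subgroup.centralizer ({y} : Set G) := by
        rw [hEeq, hExsup]
        refine sup_le ?_ ?_
        · intro b hb
          rw [Subgroup.mem_centralizer_iff]
          intro z hz
          rw [Set.mem_singleton_iff] at hz
          rw [hz]
          exact (Subgroup.mem_centralizer_iff.1 (Subgroup.mem_inf.1 hy1).2 b hb).symm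
        · intro b hb
          rw [Subgroup.mem_centralizer_iff]
          intro z hz
          rw [Set.mem_singleton_iff] at hz
          rw [hz]
          exact (Subgroup.mem_centralizer_iff.1 (Subgroup.mem_inf.1 hy2).2 b hb).symm
      rw [Subgroup.mem_centralizer_iff]
      intro e he
      exact (Subgroup.mem_centralizer_iff.1 (hle he) y rfl).symm
    have i1 := Cfsg.Agent.Helper23.card_mul_card_le_sup_inf
      (V ⊓ Subgroup.centralizer (A : Set G)) (V ⊓ Subgroup.centralizer (A' : Set G))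
    have i2 : Nat.card ↥((V ⊓ Subgroup.centralizer (A : Set G)) ⊔
        (V ⊓ Subgroup.centralizer (A' : Set G))) ≤ Nat.card V :=
      Subgroup.card_le_of_le (sup_le inf_le_left inf_le_left)
    have i3 := Subgroup.card_le_of_le hXY
    have i4 := Cfsg.Agent.Helper23.card_mul_card_le_sup_inf W
      (V ⊓ Subgroup.centralizer (E : Set G))
    rw [hinfW, Subgroup.card_bot, mul_one, hVEcard] at i4
    rw [hcardY] at i1
    obtain ⟨m, hm⟩ : ∃ m, m = Nat.card ↥(V ⊓ Subgroup.centralizer (A : Set G)) := ⟨_, rfl⟩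
    obtain ⟨k, hk⟩ : ∃ k, k = Nat.card ↥(V ⊓ Subgroup.centralizer (E : Set G)) := ⟨_, rfl⟩
    rw [← hm] at i1 hCVA
    rw [← hk] at i3 i4
    have hmpos : 0 < m := by
      rw [hm]
      exact Nat.card_pos
    have i5 : m * m ≤ Nat.card V * k := i1.trans (Nat.mul_le_mul i2 i3)
    rw [← hCVA] at i5
    have i6 : m ≤ p * k := by
      have h7 : m * m ≤ (p * k) * m := by
        calc m * m ≤ p * m * k := i5
          _ = (p * k) * m := by ring
      exact Nat.le_of_mul_le_mul_right h7 hmpos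
    calc Nat.card V = p * m := hCVA.symm
      _ ≤ p * (p * k) := Nat.mul_le_mul_left p i6
      _ = p ^ 2 * k := by ring
      _ ≤ _ := i4
  -- facts on `T`
  have hztT : Subgroup.zpowers t ≤ T := by
    rw [Subgroup.zpowers_le]
    exact htT
  have hcommT : ⁅V, T⁆ = W := by
    apply le_antisymm
    · rw [← hVEW]
      exact Subgroup.commutator_mono le_rfl hTE
    · rw [← hVt]
      exact Subgroup.commutator_mono le_rfl hztT
  have hcentT : V ⊓ Subgroup.centralizer (T : Set G) = V ⊓ Subgroup.centralizer (E : Set G) := by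
    apply le_antisymm
    · intro v hv
      obtain ⟨hvV, hvC⟩ := Subgroup.mem_inf.1 hv
      have hv' : v ∈ W ⊔ (V ⊓ Subgroup.centralizer (E : Set G)) := by
        rw [hsupW]
        exact hvV
      have hcomm : ∀ n ∈ W, ∀ k ∈ V ⊓ Subgroup.centralizer (E : Set G), n * k = k * n :=
        fun n hn k hk => S.comm (hWV hn) (Subgroup.mem_inf.1 hk).1
      obtain ⟨w, hw, u, hu, rfl⟩ := mem_sup_of_comm hcomm hv'
      have h1 : t * (w * u) = (w * u) * t :=
        (Subgroup.mem_centralizer_iff.1 hvC t htT)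
      have h2 : t * u = u * t :=
        (Subgroup.mem_centralizer_iff.1 (Subgroup.mem_inf.1 hu).2 t (hTE htT))
      have h3 : t * w = w * t := by
        calc t * w = (t * (w * u)) * u⁻¹ := by group
          _ = (w * u * t) * u⁻¹ := by rw [h1]
          _ = w * (u * t) * u⁻¹ := by group
          _ = w * (t * u) * u⁻¹ := by rw [h2]
          _ = w * t := by group
      rw [hWdef] at hw
      have h4 := fix_of_noeig hF hactt hNE hw h3
      rw [h4, one_mul]
      exact hu
    · exact inf_le_inf_left V (Subgroup.centralizer_le hTE)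
  -- absorption
  have habsorb : ∀ h ∈ H, h ^ p = 1 → ⁅V, Subgroup.zpowers h⁆ ≤ W → h ∈ E := by
    intro h hhH hhp hhW
    obtain ⟨K, hKdef⟩ : ∃ K, K = E ⊔ Subgroup.zpowers h := ⟨_, rfl⟩
    have hEK : E ≤ K := hKdef ▸ le_sup_left
    have hhK : h ∈ K := hKdef ▸ Subgroup.mem_sup_right (Subgroup.mem_zpowers h)
    have hKH : K ≤ H := by
      rw [hKdef]
      refine sup_le hEH ?_
      rw [Subgroup.zpowers_le]
      exact hhH
    have hK_stab : K ≤ stabSub V W hWV := hKdef ▸ sup_le hE_stab (le_stabSub hWV hhW)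
    have hKW : K ≤ Subgroup.normalizer (W : Set G) := hK_stab.trans (stabSub_le_normalizer hWV)
    have hDp := hchain K hKH hK_stab
    have hKnD : K ≤ Subgroup.normalizer
        ((K ⊓ Subgroup.centralizer (W : Set G) : Subgroup G) : Set G) :=
      fun g hg => normalizer_inf_le _ _ ⟨Subgroup.le_normalizer hg,
        Cfsg.Agent.Helper23.le_normalizer_centralizer hKW hg⟩
    have hD : K ⊓ Subgroup.centralizer (W : Set G) = ⊥ := by
      rw [eq_bot_iff]
      intro d hd
      obtain ⟨hdK, hdC⟩ := Subgroup.mem_inf.1 hd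
      have hdH : d ∈ H := hKH hdK
      have hdT : ∀ t' ∈ T, d * t' = t' * d := by
        intro t' ht'
        have h1 : ⁅d, t'⁆ ∈ K ⊓ Subgroup.centralizer (W : Set G) := by
          have hn := hKnD (hEK (hTE ht'))
          have h2 := (Subgroup.mem_normalizer_iff.1 hn d⁻¹).1 (inv_mem hd)
          have e : ⁅d, t'⁆ = d * (t' * d⁻¹ * t'⁻¹) := by
            rw [commutatorElement_def]
            group
          rw [e]
          exact mul_mem hd h2
        have h2 : ⁅d, t'⁆ ∈ Qc p H := by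
          rw [commutatorElement_def]
          exact mul_mem (Qc_conj_mem p H hdH (hTQ ht')) (inv_mem (hTQ ht'))
        have h3 : ⁅d, t'⁆ ∈ (K ⊓ Subgroup.centralizer (W : Set G)) ⊓ Qc p H :=
          Subgroup.mem_inf.2 ⟨h1, h2⟩
        rw [pgroup_inf_Qc hDp] at h3
        exact commutatorElement_eq_one_iff_mul_comm.1 h3
      have hdU : ∀ u ∈ V ⊓ Subgroup.centralizer (E : Set G), d * u = u * d := by
        intro u hu
        have hu' : u⁻¹ ∈ V ⊓ Subgroup.centralizer (T : Set G) := by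
          rw [hcentT]
          exact inv_mem hu
        have h1 : d * u⁻¹ * d⁻¹ ∈ V ⊓ Subgroup.centralizer (T : Set G) := by
          refine Subgroup.mem_inf.2
            ⟨(Subgroup.mem_normalizer_iff.1 (S.hHV hdH) _).1 (Subgroup.mem_inf.1 hu').1, ?_⟩
          rw [Subgroup.mem_centralizer_iff]
          intro t' ht'
          have h2 := Subgroup.mem_centralizer_iff.1 (Subgroup.mem_inf.1 hu').2 t' ht'
          have h3 := hdT t' ht'
          calc t' * (d * u⁻¹ * d⁻¹) = (t' * d) * u⁻¹ * d⁻¹ := by group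
            _ = (d * t') * u⁻¹ * d⁻¹ := by rw [h3]
            _ = d * (t' * u⁻¹) * d⁻¹ := by group
            _ = d * (u⁻¹ * t') * d⁻¹ := by rw [h2]
            _ = d * u⁻¹ * (d⁻¹ * (d * t')) * d⁻¹ := by group
            _ = d * u⁻¹ * (d⁻¹ * (t' * d)) * d⁻¹ := by rw [h3]
            _ = d * u⁻¹ * d⁻¹ * t' := by group
        rw [hcentT] at h1
        have h4 : ⁅u, d⁆ ∈ W ⊓ (V ⊓ Subgroup.centralizer (E : Set G)) := by
          refine Subgroup.mem_inf.2 ⟨(hK_stab hdK).1 u (Subgroup.mem_inf.1 hu).1, ?_⟩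
          have e : ⁅u, d⁆ = u * (d * u⁻¹ * d⁻¹) := by
            rw [commutatorElement_def]
            group
          rw [e]
          exact mul_mem hu h1
        rw [hinfW] at h4
        exact (commutatorElement_eq_one_iff_mul_comm.1 h4).symm
      have h5 : d ∈ H ⊓ Subgroup.centralizer (V : Set G) := by
        refine Subgroup.mem_inf.2 ⟨hdH, ?_⟩
        have hle : W ⊔ (V ⊓ Subgroup.centralizer (E : Set G)) ≤
            Subgroup.centralizer ({d} : Set G) := by
          refine sup_le ?_ ?_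
          · intro w hw
            rw [Subgroup.mem_centralizer_iff]
            intro y hy
            rw [Set.mem_singleton_iff] at hy
            rw [hy]
            exact (Subgroup.mem_centralizer_iff.1 hdC w hw).symm
          · intro u hu
            rw [Subgroup.mem_centralizer_iff]
            intro y hy
            rw [Set.mem_singleton_iff] at hy
            rw [hy]
            exact hdU u hu
        rw [hsupW] at hle
        rw [Subgroup.mem_centralizer_iff]
        intro v hv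
        exact (Subgroup.mem_centralizer_iff.1 (hle hv) d rfl).symm
      rw [S.hf] at h5
      exact h5
    exact hEEx.trans hExE (hEeq ▸ habsorb0 h hhp K (hEeq ▸ hEK) hhK hKW hD)
  -- assemble
  subst hEdef
  subst hTdef
  exact {
    p23 := hp23
    iso := by
      rw [hEeq]
      exact ⟨ρ⟩
    cardW := by
      rw [hVEW]
      exact hVEcard
    faith := by
      rw [hVEW]
      exact hEfaith
    infW := by
      rw [hVEW]
      exact hinfW
    supW := by
      rw [hVEW]
      exact hsupW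
    irrT := by
      intro U hU hn
      rw [hcommT] at hU ⊢
      have h1 := hirrt U (by rw [hVt]; exact hU) (hztT.trans hn)
      rw [hVt] at h1
      exact h1
    commT := by
      rw [hcommT, hVEW]
    cardT := lt_of_lt_of_le hct (Subgroup.card_le_of_le hztT)
    centT := hcentT
    absorb := by
      intro h hhH hhp hhW
      rw [hVEW] at hhW
      exact habsorb h hhH hhp hhW }

end main

end Cfsg.Agent.Helper19.BO
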