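import Mathlib
import Cfsg.Agent.Helper19.BO6

/-!
helper19: best offenders, part 7: pairs of components `E_A`, the direct factor statement and the
structure theorem for failure of factorization.
-/

set_option autoImplicit false
open Cfsg

namespace Cfsg.Agent.Helper19.BO

open scoped commutatorElement

variable {G : Type*} [Group G] [Finite G] {p : ℕ} [Fact p.Prime] {V H : Subgroup G}

theorem T_le_Qc {A : Subgroup G} (hAH : A ≤ H) : ⁅Qc p H, A⁆ ≤ Qc p H :=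
  Cfsg.Agent.Helper23.commutator_le_of_le_normalizer (hAH.trans (Qc_normal p H))

theorem E_le {A : Subgroup G} (hAH : A ≤ H) : ⁅Qc p H, A⁆ ⊔ A ≤ H :=
  sup_le ((T_le_Qc hAH).trans (Qc_le p H)) hAH

theorem pair (S : Setup p V H) {A B : Subgroup G} (hAH : A ≤ H) (hBH : B ≤ H)
    (hA : Cfsg.IsBestOffenderOn p V A) (hB : Cfsg.IsBestOffenderOn p V B)
    (hcA : Nat.card A = p) (hcB : Nat.card B = p) :
    B ≤ ⁅Qc p H, A⁆ ⊔ A ∨
    (⁅Qc p H, B⁆ ⊔ B ≤ Subgroup.centralizer ((⁅V, ⁅Qc p H, A⁆ ⊔ A⁆ : Subgroup G) : Set G) ∧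
     ⁅Qc p H, A⁆ ⊔ A ≤ Subgroup.centralizer ((⁅V, ⁅Qc p H, B⁆ ⊔ B⁆ : Subgroup G) : Set G) ∧
     ⁅⁅Qc p H, A⁆ ⊔ A, ⁅Qc p H, B⁆ ⊔ B⁆ = ⊥) := by
  have STA := st S hAH hA hcA
  have STB := st S hBH hB hcB
  by_cases h : ⁅V, B⁆ ≤ ⁅V, ⁅Qc p H, A⁆ ⊔ A⁆
  · left
    obtain ⟨b, hbB, _, hBz⟩ := exists_zpowers_of_card_prime hcB
    have h' : ⁅V, Subgroup.zpowers b⁆ ≤ ⁅V, ⁅Qc p H, A⁆ ⊔ A⁆ := by
      rw [← hBz]
      exact h
    have h1 := STA.absorb b (hBH hbB) (bo_pow S hBH hB hbB) h'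
    rw [hBz, Subgroup.zpowers_le]
    exact h1
  · right
    have hTAQ : ⁅Qc p H, A⁆ ≤ Qc p H := T_le_Qc hAH
    have hTBQ : ⁅Qc p H, B⁆ ≤ Qc p H := T_le_Qc hBH
    have hEAH : ⁅Qc p H, A⁆ ⊔ A ≤ H := E_le hAH
    have hEBH : ⁅Qc p H, B⁆ ⊔ B ≤ H := E_le hBH
    have hnA : Qc p H ≤ Subgroup.normalizer ((⁅Qc p H, A⁆ : Subgroup G) : Set G) :=
      comm_normal_left _ _
    have hnB : Qc p H ≤ Subgroup.normalizer ((⁅Qc p H, B⁆ : Subgroup G) : Set G) :=
      comm_normal_left _ _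
    have hcommA := STA.commT
    have hcommB := STB.commT
    have hcentA := STA.centT
    have hcentB := STB.centT
    have hirrA := STA.irrT
    have hirrB := STB.irrT
    have hcTA := STA.cardT
    have hcTB := STB.cardT
    have hcWA := STA.cardW
    have hcWB := STB.cardW
    have hBEB : B ≤ ⁅Qc p H, B⁆ ⊔ B := le_sup_right
    have hVBle : ⁅V, B⁆ ≤ ⁅V, ⁅Qc p H, B⁆ ⊔ B⁆ := Subgroup.commutator_mono le_rfl hBEB
    have h21 : ¬ ⁅V, ⁅Qc p H, B⁆⁆ ≤ ⁅V, ⁅Qc p H, A⁆⁆ := by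
      rw [hcommA, hcommB]
      exact fun h' => h (hVBle.trans h')
    have h12 : ¬ ⁅V, ⁅Qc p H, A⁆⁆ ≤ ⁅V, ⁅Qc p H, B⁆⁆ := by
      rw [hcommA, hcommB]
      intro h'
      have heq : ⁅V, ⁅Qc p H, A⁆ ⊔ A⁆ = ⁅V, ⁅Qc p H, B⁆ ⊔ B⁆ :=
        Subgroup.eq_of_le_of_card_ge h' (by rw [hcWA, hcWB])
      exact h (hVBle.trans heq.ge)
    have hsupQ : ⁅Qc p H, A⁆ ⊔ ⁅Qc p H, B⁆ ≤ Qc p H := sup_le hTAQ hTBQ
    have hsupH : ⁅Qc p H, A⁆ ⊔ ⁅Qc p H, B⁆ ≤ H := hsupQ.trans (Qc_le p H)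
    have hs₁ : ((⁅Qc p H, A⁆).subgroupOf (⁅Qc p H, A⁆ ⊔ ⁅Qc p H, B⁆)).IsSubnormal :=
      (Subgroup.normal_subgroupOf_of_le_normalizer (hsupQ.trans hnA)).isSubnormal
    have hs₂ : ((⁅Qc p H, B⁆).subgroupOf (⁅Qc p H, A⁆ ⊔ ⁅Qc p H, B⁆)).IsSubnormal :=
      (Subgroup.normal_subgroupOf_of_le_normalizer (hsupQ.trans hnB)).isSubnormal
    have hOp : Cfsg.pCore p ↥(⁅Qc p H, A⁆ ⊔ ⁅Qc p H, B⁆) = ⊥ := by
      apply pCore_eq_bot_of_coprime
      exact Nat.Coprime.coprime_dvd_left (Subgroup.card_dvd_of_le hsupQ) (Qc_coprime p H)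
    obtain ⟨-, -, -, -, -, -, hc12, hc21⟩ := LemL.lemmaL S.hV (hsupH.trans S.hHV)
      (by rw [eq_bot_iff, ← S.hf]; exact inf_le_inf_right _ hsupH) rfl hs₁ hs₂ hOp hirrA hirrB
      h12 h21 hcTA hcTB
    have hWAV : ⁅V, ⁅Qc p H, A⁆⁆ ≤ V :=
      Cfsg.Agent.Helper23.commutator_le_of_le_normalizer ((le_sup_left.trans hsupH).trans S.hHV)
    have hWBV : ⁅V, ⁅Qc p H, B⁆⁆ ≤ V :=
      Cfsg.Agent.Helper23.commutator_le_of_le_normalizer ((le_sup_right.trans hsupH).trans S.hHV)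
    have h1 : ⁅V, ⁅Qc p H, A⁆ ⊔ A⁆ ≤
        Subgroup.centralizer ((⁅Qc p H, B⁆ ⊔ B : Subgroup G) : Set G) := by
      have h2 : ⁅V, ⁅Qc p H, A⁆⁆ ≤ V ⊓ Subgroup.centralizer ((⁅Qc p H, B⁆ : Subgroup G) : Set G) :=
        le_inf hWAV (Subgroup.commutator_eq_bot_iff_le_centralizer.1 hc12)
      rw [hcommA, hcentB] at h2
      exact h2.trans inf_le_right
    have h2 : ⁅V, ⁅Qc p H, B⁆ ⊔ B⁆ ≤
        Subgroup.centralizer ((⁅Qc p H, A⁆ ⊔ A : Subgroup G) : Set G) := by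
      have h3 : ⁅V, ⁅Qc p H, B⁆⁆ ≤ V ⊓ Subgroup.centralizer ((⁅Qc p H, A⁆ : Subgroup G) : Set G) :=
        le_inf hWBV (Subgroup.commutator_eq_bot_iff_le_centralizer.1 hc21)
      rw [hcommB, hcentA] at h3
      exact h3.trans inf_le_right
    refine ⟨Subgroup.le_centralizer_iff.1 h1, Subgroup.le_centralizer_iff.1 h2, ?_⟩
    have h3 : ⁅⁅⁅Qc p H, A⁆ ⊔ A, ⁅Qc p H, B⁆ ⊔ B⁆, V⁆ = ⊥ := by
      apply Subgroup.commutator_commutator_eq_bot_of_rotate
      · rw [Subgroup.commutator_comm (⁅Qc p H, B⁆ ⊔ B) V]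
        exact Subgroup.commutator_eq_bot_iff_le_centralizer.2 h2
      · exact Subgroup.commutator_eq_bot_iff_le_centralizer.2 h1
    rw [Subgroup.commutator_eq_bot_iff_le_centralizer] at h3
    rw [eq_bot_iff, ← S.hf]
    refine le_inf ?_ h3
    rw [Subgroup.commutator_le]
    intro a ha b hb
    rw [commutatorElement_def]
    exact mul_mem (mul_mem (mul_mem (hEAH ha) (hEBH hb)) (inv_mem (hEAH ha))) (inv_mem (hEBH hb))

theorem H_le_of_bo (S : Setup p V H)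
    (hS3 : H = ⨆ A : {A : Subgroup G // A ≤ H ∧ Cfsg.IsBestOffenderOn p V A}, (A : Subgroup G))
    {K : Subgroup G}
    (hK : ∀ B : Subgroup G, B ≤ H → Cfsg.IsBestOffenderOn p V B → Nat.card B = p → B ≤ K) :
    H ≤ K := by
  refine hS3.le.trans (iSup_le ?_)
  rintro ⟨A, hAH, hA⟩
  obtain ⟨k, B, hB, -, hsup⟩ := decomp S _ A rfl hAH hA
  show A ≤ K
  rw [← hsup]
  exact iSup_le fun i => hK (B i) ((hB i).1.trans hAH) (hB i).2.1 (hB i).2.2

theorem direct (S : Setup p V H)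
    (hS3 : H = ⨆ A : {A : Subgroup G // A ≤ H ∧ Cfsg.IsBestOffenderOn p V A}, (A : Subgroup G))
    {A : Subgroup G} (hAH : A ≤ H) (hA : Cfsg.IsBestOffenderOn p V A) (hcard : Nat.card A = p) :
    H ≤ Subgroup.normalizer ((⁅Qc p H, A⁆ ⊔ A : Subgroup G) : Set G) ∧
    ⁅⁅Qc p H, A⁆ ⊔ A,
      H ⊓ Subgroup.centralizer ((⁅V, ⁅Qc p H, A⁆ ⊔ A⁆ : Subgroup G) : Set G)⁆ = ⊥ ∧
    (⁅Qc p H, A⁆ ⊔ A) ⊓
      (H ⊓ Subgroup.centralizer ((⁅V, ⁅Qc p H, A⁆ ⊔ A⁆ : Subgroup G) : Set G)) = ⊥ ∧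
    (⁅Qc p H, A⁆ ⊔ A) ⊔
      (H ⊓ Subgroup.centralizer ((⁅V, ⁅Qc p H, A⁆ ⊔ A⁆ : Subgroup G) : Set G)) = H ∧
    ⁅V, H ⊓ Subgroup.centralizer ((⁅V, ⁅Qc p H, A⁆ ⊔ A⁆ : Subgroup G) : Set G)⁆ ≤
      V ⊓ Subgroup.centralizer ((⁅Qc p H, A⁆ ⊔ A : Subgroup G) : Set G) := by
  have STA := st S hAH hA hcard
  have hfaith := STA.faith
  have hsupW := STA.supW
  have hEH : ⁅Qc p H, A⁆ ⊔ A ≤ H := E_le hAH
  have hpair : ∀ B : Subgroup G, B ≤ H → Cfsg.IsBestOffenderOn p V B → Nat.card B = p →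
      B ≤ ⁅Qc p H, A⁆ ⊔ A ∨
        (B ≤ Subgroup.centralizer ((⁅V, ⁅Qc p H, A⁆ ⊔ A⁆ : Subgroup G) : Set G) ∧
        B ≤ Subgroup.centralizer ((⁅Qc p H, A⁆ ⊔ A : Subgroup G) : Set G)) := by
    intro B hBH hB hcB
    rcases pair S hAH hBH hA hB hcard hcB with h | ⟨h1, -, h3⟩
    · exact Or.inl h
    · refine Or.inr ⟨le_sup_right.trans h1, ?_⟩
      have h4 := Subgroup.commutator_eq_bot_iff_le_centralizer.1 h3
      exact le_sup_right.trans (Subgroup.le_centralizer_iff.1 h4)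
  obtain ⟨E, hE⟩ : ∃ E, E = ⁅Qc p H, A⁆ ⊔ A := ⟨_, rfl⟩
  rw [← hE] at hfaith hsupW hEH hpair
  rw [← hE]
  have hN : H ≤ Subgroup.normalizer (E : Set G) := by
    apply H_le_of_bo S hS3
    intro B hBH hB hcB
    rcases hpair B hBH hB hcB with h | ⟨-, h⟩
    · exact h.trans Subgroup.le_normalizer
    · exact h.trans (Subgroup.centralizer_le_normalizer _)
  have hsup : E ⊔ (H ⊓ Subgroup.centralizer ((⁅V, E⁆ : Subgroup G) : Set G)) = H := by
    apply le_antisymm (sup_le hEH inf_le_left)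
    apply H_le_of_bo S hS3
    intro B hBH hB hcB
    rcases hpair B hBH hB hcB with h | ⟨h, -⟩
    · exact h.trans le_sup_left
    · exact (le_inf hBH h).trans le_sup_right
  have hinf : E ⊓ (H ⊓ Subgroup.centralizer ((⁅V, E⁆ : Subgroup G) : Set G)) = ⊥ := by
    rw [eq_bot_iff, ← hfaith]
    exact le_inf inf_le_left (inf_le_right.trans inf_le_right)
  have hEV : E ≤ Subgroup.normalizer (V : Set G) := hEH.trans S.hHV
  have hWV : ⁅V, E⁆ ≤ V := Cfsg.Agent.Helper23.commutator_le_of_le_normalizer hEV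
  have hENC : E ≤ Subgroup.normalizer
      ((Subgroup.centralizer ((⁅V, E⁆ : Subgroup G) : Set G) : Subgroup G) : Set G) :=
    Cfsg.Agent.Helper23.le_normalizer_centralizer (LemL.le_normalizer_comm hEV)
  have hcomm : ⁅E, H ⊓ Subgroup.centralizer ((⁅V, E⁆ : Subgroup G) : Set G)⁆ = ⊥ := by
    rw [eq_bot_iff, ← hfaith]
    refine le_inf ?_ ?_
    · rw [Subgroup.commutator_le]
      intro e he f hf
      obtain ⟨hfH, hfC⟩ := Subgroup.mem_inf.1 hf
      have h1 := (Subgroup.mem_normalizer_iff.1 (hN hfH) e⁻¹).1 (inv_mem he)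
      have e1 : ⁅e, f⁆ = e * (f * e⁻¹ * f⁻¹) := by rw [commutatorElement_def]; group
      rw [e1]
      exact mul_mem he h1
    · rw [Subgroup.commutator_le]
      intro e he f hf
      obtain ⟨hfH, hfC⟩ := Subgroup.mem_inf.1 hf
      have h1 := (Subgroup.mem_normalizer_iff.1 (hENC he) f).1 hfC
      have e1 : ⁅e, f⁆ = (e * f * e⁻¹) * f⁻¹ := by rw [commutatorElement_def]
      rw [e1]
      exact mul_mem h1 (inv_mem hfC)
  refine ⟨hN, hcomm, hinf, hsup, le_inf ?_ ?_⟩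
  · exact Cfsg.Agent.Helper23.commutator_le_of_le_normalizer (inf_le_left.trans S.hHV)
  · have hFC : H ⊓ Subgroup.centralizer ((⁅V, E⁆ : Subgroup G) : Set G) ≤
        Subgroup.centralizer (E : Set G) :=
      Subgroup.le_centralizer_iff.1 (Subgroup.commutator_eq_bot_iff_le_centralizer.1 hcomm)
    rw [Subgroup.commutator_le]
    intro v hv f hf
    obtain ⟨hfH, hfC⟩ := Subgroup.mem_inf.1 hf
    have hv' : v ∈ ⁅V, E⁆ ⊔ (V ⊓ Subgroup.centralizer (E : Set G)) := by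
      rw [hsupW]
      exact hv
    obtain ⟨w, hw, u, hu, rfl⟩ :=
      mem_sup_of_comm (fun n hn k hk => S.comm (hWV hn) (Subgroup.mem_inf.1 hk).1) hv'
    obtain ⟨huV, huC⟩ := Subgroup.mem_inf.1 hu
    have hwf : w * f = f * w := Subgroup.mem_centralizer_iff.1 hfC w hw
    have hufV : ⁅u, f⁆ ∈ V := by
      have h1 := (Subgroup.mem_normalizer_iff.1 (S.hHV hfH) u⁻¹).1 (inv_mem huV)
      have e1 : ⁅u, f⁆ = u * (f * u⁻¹ * f⁻¹) := by rw [commutatorElement_def]; group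
      rw [e1]
      exact mul_mem huV h1
    have hufC : ⁅u, f⁆ ∈ Subgroup.centralizer (E : Set G) := by
      rw [commutatorElement_def]
      exact mul_mem (mul_mem (mul_mem huC (hFC hf)) (inv_mem huC)) (inv_mem (hFC hf))
    have e2 : f * w⁻¹ * f⁻¹ = w⁻¹ := by
      calc f * w⁻¹ * f⁻¹ = w⁻¹ * (w * f) * w⁻¹ * f⁻¹ := by group
        _ = w⁻¹ * (f * w) * w⁻¹ * f⁻¹ := by rw [hwf]
        _ = w⁻¹ := by group
    have e3 : ⁅w * u, f⁆ = w * ⁅u, f⁆ * (f * w⁻¹ * f⁻¹) := by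
      simp only [commutatorElement_def]; group
    have e4 : ⁅w * u, f⁆ = ⁅u, f⁆ := by
      rw [e3, e2, S.comm (hWV hw) hufV, mul_inv_cancel_right]
    rw [e4]
    exact hufC

theorem structure_aux (S : Setup p V H)
    (hS3 : H = ⨆ A : {A : Subgroup G // A ≤ H ∧ Cfsg.IsBestOffenderOn p V A}, (A : Subgroup G))
    (hH1 : H ≠ ⊥) {ι : Type*} (E : ι → Subgroup G) (hinj : Function.Injective E)
    (hE : ∀ i, ∃ A : Subgroup G, A ≤ H ∧ Cfsg.IsBestOffenderOn p V A ∧ Nat.card A = p ∧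
      E i = ⁅Qc p H, A⁆ ⊔ A)
    (hall : ∀ A : Subgroup G, A ≤ H → Cfsg.IsBestOffenderOn p V A → Nat.card A = p →
      ∃ i, E i = ⁅Qc p H, A⁆ ⊔ A) :
    (p = 2 ∨ p = 3) ∧
    (∀ i, H ≤ Subgroup.normalizer ((E i : Subgroup G) : Set G) ∧
      Nonempty (↥(E i) ≃* Matrix.SpecialLinearGroup (Fin 2) (ZMod p)) ∧
      Nat.card ↥(⁅V, E i⁆) = p ^ 2) ∧
    iSupIndep E ∧ (⨆ i, E i) = H ∧
    iSupIndep (fun o : Option ι => o.elim (V ⊓ Subgroup.centralizer (H : Set G))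
      (fun i => ⁅V, E i⁆)) ∧
    (V ⊓ Subgroup.centralizer (H : Set G)) ⊔ (⨆ i, ⁅V, E i⁆) = V := by
  classical
  haveI : Finite ι := Finite.of_injective E hinj
  haveI := Fintype.ofFinite ι
  choose A hAH hA hcA hEA using hE
  have hST : ∀ i, ST p V H (A i) := fun i => st S (hAH i) (hA i) (hcA i)
  have hEH : ∀ i, E i ≤ H := fun i => by rw [hEA i]; exact E_le (hAH i)
  have hfaith : ∀ i, E i ⊓ Subgroup.centralizer ((⁅V, E i⁆ : Subgroup G) : Set G) = ⊥ :=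
    fun i => by rw [hEA i]; exact (hST i).faith
  have hinfW : ∀ i, ⁅V, E i⁆ ⊓ (V ⊓ Subgroup.centralizer ((E i : Subgroup G) : Set G)) = ⊥ :=
    fun i => by rw [hEA i]; exact (hST i).infW
  have hsupW : ∀ i, ⁅V, E i⁆ ⊔ (V ⊓ Subgroup.centralizer ((E i : Subgroup G) : Set G)) = V :=
    fun i => by rw [hEA i]; exact (hST i).supW
  have hiso : ∀ i, Nonempty (↥(E i) ≃* Matrix.SpecialLinearGroup (Fin 2) (ZMod p)) :=
    fun i => by rw [hEA i]; exact (hST i).iso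
  have hcardW : ∀ i, Nat.card ↥(⁅V, E i⁆) = p ^ 2 :=
    fun i => by rw [hEA i]; exact (hST i).cardW
  have hN : ∀ i, H ≤ Subgroup.normalizer ((E i : Subgroup G) : Set G) :=
    fun i => by rw [hEA i]; exact (direct S hS3 (hAH i) (hA i) (hcA i)).1
  have hWV : ∀ i, ⁅V, E i⁆ ≤ V := fun i =>
    Cfsg.Agent.Helper23.commutator_le_of_le_normalizer ((hEH i).trans S.hHV)
  -- existence of an offender of order `p`
  have hex : ∃ B : Subgroup G, B ≤ H ∧ Cfsg.IsBestOffenderOn p V B ∧ Nat.card B = p := by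
    by_contra hcon
    push Not at hcon
    exact hH1 (eq_bot_iff.2 (H_le_of_bo S hS3 (fun B hBH hB hc => absurd hc (hcon B hBH hB))))
  obtain ⟨B₀, hB₀H, hB₀, hcB₀⟩ := hex
  have hp23 := (st S hB₀H hB₀ hcB₀).p23
  -- distinct components
  have hpw : ∀ i j, i ≠ j → E j ≤ Subgroup.centralizer ((⁅V, E i⁆ : Subgroup G) : Set G) := by
    intro i j hij
    rcases pair S (hAH i) (hAH j) (hA i) (hA j) (hcA i) (hcA j) with h | ⟨h1, -, -⟩
    · exfalso
      apply hij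
      apply hinj
      have hAjE : A j ≤ E i := by rw [hEA i]; exact h
      have hle : E j ≤ E i := by
        rw [hEA j]
        refine sup_le ?_ hAjE
        rw [Subgroup.commutator_le]
        intro q hq b hb
        have hbE : b ∈ E i := hAjE hb
        have h1 := (Subgroup.mem_normalizer_iff.1 (hN i (Qc_le p H hq)) b).1 hbE
        have e1 : ⁅q, b⁆ = (q * b * q⁻¹) * b⁻¹ := by rw [commutatorElement_def]
        rw [e1]
        exact mul_mem h1 (inv_mem hbE)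
      obtain ⟨φi⟩ := hiso i
      obtain ⟨φj⟩ := hiso j
      have hc : Nat.card (E i) = Nat.card (E j) := Nat.card_congr (φi.trans φj.symm).toEquiv
      exact (Subgroup.eq_of_le_of_card_ge hle hc.le).symm
    · rw [hEA i, hEA j]
      exact h1
  have hWC : ∀ i j, i ≠ j →
      ⁅V, E j⁆ ≤ V ⊓ Subgroup.centralizer ((E i : Subgroup G) : Set G) :=
    fun i j hij => le_inf (hWV j) (Subgroup.le_centralizer_iff.1 (hpw j i hij.symm))
  -- independence of the components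
  have hind : iSupIndep E := by
    intro i
    rw [disjoint_iff_inf_le]
    exact le_trans (inf_le_inf_left _ (iSup₂_le fun j hji => hpw i j (Ne.symm hji)))
      (hfaith i).le
  -- generation
  have hgen : (⨆ i, E i) = H := by
    apply le_antisymm (iSup_le hEH)
    apply H_le_of_bo S hS3
    intro B hBH hB hc
    obtain ⟨i, hi⟩ := hall B hBH hB hc
    exact (le_sup_right.trans hi.ge).trans (le_iSup E i)
  -- decomposition of `V`
  have hdec : ∀ s : Finset ι, ∀ v ∈ V, ∃ w ∈ ⨆ i ∈ s, ⁅V, E i⁆, ∃ u ∈ V,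
      (∀ i ∈ s, u ∈ Subgroup.centralizer ((E i : Subgroup G) : Set G)) ∧ v = w * u := by
    intro s
    induction s using Finset.induction_on with
    | empty =>
      intro v hv
      exact ⟨1, one_mem _, v, hv, fun i hi => by simp at hi, (one_mul v).symm⟩
    | insert a s has ih =>
      intro v hv
      obtain ⟨w, hw, u, hu, huC, rfl⟩ := ih v hv
      have hu2 : u ∈ ⁅V, E a⁆ ⊔ (V ⊓ Subgroup.centralizer ((E a : Subgroup G) : Set G)) := by
        rw [hsupW a]; exact hu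
      obtain ⟨w', hw', u', hu', rfl⟩ :=
        mem_sup_of_comm (fun n hn k hk => S.comm (hWV a hn) (Subgroup.mem_inf.1 hk).1) hu2
      obtain ⟨hu'V, hu'C⟩ := Subgroup.mem_inf.1 hu'
      refine ⟨w * w', mul_mem ?_ ?_, u', hu'V, ?_, (mul_assoc w w' u').symm⟩
      · have hle : (⨆ i ∈ s, ⁅V, E i⁆) ≤ ⨆ i ∈ insert a s, ⁅V, E i⁆ :=
          biSup_mono (fun i hi => Finset.mem_insert_of_mem hi)
        exact hle hw
      · exact (le_iSup₂ (f := fun i (_ : i ∈ insert a s) => ⁅V, E i⁆) a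
          (Finset.mem_insert_self a s)) hw'
      · intro i hi
        rcases Finset.mem_insert.1 hi with hia | his
        · rw [hia]
          exact hu'C
        · have hia : i ≠ a := fun h => has (by rw [← h]; exact his)
          have h1 : w' ∈ Subgroup.centralizer ((E i : Subgroup G) : Set G) :=
            (Subgroup.mem_inf.1 (hWC i a hia hw')).2
          have h2 := huC i his
          have e1 : u' = w'⁻¹ * (w' * u') := by group
          rw [e1]
          exact mul_mem (inv_mem h1) h2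
  have hcentH : ∀ u : G, (∀ i, u ∈ Subgroup.centralizer ((E i : Subgroup G) : Set G)) →
      u ∈ Subgroup.centralizer (H : Set G) := by
    intro u hu
    have h1 : (⨆ i, E i) ≤ Subgroup.centralizer ((Subgroup.zpowers u : Subgroup G) : Set G) :=
      iSup_le fun i => Subgroup.le_centralizer_iff.1 ((Subgroup.zpowers_le).2 (hu i))
    rw [hgen] at h1
    exact Subgroup.le_centralizer_iff.1 h1 (Subgroup.mem_zpowers u)
  have hsupV : (V ⊓ Subgroup.centralizer (H : Set G)) ⊔ (⨆ i, ⁅V, E i⁆) = V := by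
    apply le_antisymm (sup_le inf_le_left (iSup_le hWV))
    intro v hv
    obtain ⟨w, hw, u, hu, huC, rfl⟩ := hdec Finset.univ v hv
    have hw' : w ∈ ⨆ i, ⁅V, E i⁆ :=
      (iSup₂_le (fun i _ => le_iSup (fun i => ⁅V, E i⁆) i)) hw
    have hu' : u ∈ V ⊓ Subgroup.centralizer (H : Set G) :=
      Subgroup.mem_inf.2 ⟨hu, hcentH u (fun i => huC i (Finset.mem_univ i))⟩
    exact mul_mem (Subgroup.mem_sup_right hw') (Subgroup.mem_sup_left hu')
  have hindep_aux : ∀ s : Finset ι, ∀ x ∈ ⨆ i ∈ s, ⁅V, E i⁆,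
      (∀ i ∈ s, x ∈ Subgroup.centralizer ((E i : Subgroup G) : Set G)) → x = 1 := by
    intro s
    induction s using Finset.induction_on with
    | empty =>
      intro x hx _
      simpa using hx
    | insert a s has ih =>
      intro x hx hxC
      rw [Finset.iSup_insert] at hx
      have hsV : (⨆ i ∈ s, ⁅V, E i⁆) ≤ V := iSup₂_le fun i _ => hWV i
      obtain ⟨w, hw, y, hy, rfl⟩ :=
        mem_sup_of_comm (fun n hn k hk => S.comm (hWV a hn) (hsV hk)) hx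
      have hyC : y ∈ Subgroup.centralizer ((E a : Subgroup G) : Set G) := by
        have hle : (⨆ i ∈ s, ⁅V, E i⁆) ≤ Subgroup.centralizer ((E a : Subgroup G) : Set G) :=
          iSup₂_le fun i hi =>
            (hWC a i (fun h => has (by rw [h]; exact hi))).trans inf_le_right
        exact hle hy
      have hwC : w ∈ Subgroup.centralizer ((E a : Subgroup G) : Set G) := by
        have h1 := hxC a (Finset.mem_insert_self a s)
        have e1 : w = (w * y) * y⁻¹ := by group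
        rw [e1]
        exact mul_mem h1 (inv_mem hyC)
      have hw1 : w = 1 := by
        have hmem : w ∈ ⁅V, E a⁆ ⊓ (V ⊓ Subgroup.centralizer ((E a : Subgroup G) : Set G)) :=
          Subgroup.mem_inf.2 ⟨hw, Subgroup.mem_inf.2 ⟨hWV a hw, hwC⟩⟩
        rw [hinfW a] at hmem
        exact Subgroup.mem_bot.1 hmem
      rw [hw1, one_mul]
      apply ih y hy
      intro i hi
      have h1 := hxC i (Finset.mem_insert_of_mem hi)
      rwa [hw1, one_mul] at h1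
  have hindV : iSupIndep (fun o : Option ι => o.elim (V ⊓ Subgroup.centralizer (H : Set G))
      (fun i => ⁅V, E i⁆)) := by
    intro o
    rcases o with _ | i
    · rw [disjoint_iff_inf_le]
      intro x hx
      obtain ⟨hx1, hx2⟩ := Subgroup.mem_inf.1 hx
      have hle : (⨆ (j : Option ι) (_ : j ≠ none),
          Option.elim j (V ⊓ Subgroup.centralizer (H : Set G)) (fun i => ⁅V, E i⁆)) ≤
          ⨆ i ∈ (Finset.univ : Finset ι), ⁅V, E i⁆ := by
        refine iSup₂_le ?_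
        rintro (_ | j) hj
        · exact absurd rfl hj
        · exact le_iSup₂ (f := fun i (_ : i ∈ (Finset.univ : Finset ι)) => ⁅V, E i⁆) j
            (Finset.mem_univ j)
      have hx3 : x ∈ ⨆ i ∈ (Finset.univ : Finset ι), ⁅V, E i⁆ := hle hx2
      have hx1' : x ∈ V ⊓ Subgroup.centralizer (H : Set G) := hx1
      have h1 := hindep_aux Finset.univ x hx3
        (fun i _ => Subgroup.centralizer_le (hEH i) (Subgroup.mem_inf.1 hx1').2)
      rw [Subgroup.mem_bot]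
      exact h1
    · rw [disjoint_iff_inf_le]
      have hle : (⨆ (j : Option ι) (_ : j ≠ some i),
          Option.elim j (V ⊓ Subgroup.centralizer (H : Set G)) (fun i => ⁅V, E i⁆)) ≤
          V ⊓ Subgroup.centralizer ((E i : Subgroup G) : Set G) := by
        refine iSup₂_le ?_
        rintro (_ | j) hj
        · exact inf_le_inf_left _ (Subgroup.centralizer_le (hEH i))
        · exact hWC i j (fun h => hj (by rw [h]))
      exact (inf_le_inf_left _ hle).trans (hinfW i).le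
  exact ⟨hp23, fun i => ⟨hN i, hiso i, hcardW i⟩, hind, hgen, hindV, hsupV⟩

end Cfsg.Agent.Helper19.BO
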