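import Mathlib
import Cfsg.Agent.Helper19.BO7
import Cfsg.Agent.Helper3.ElemAb
import Cfsg.Agent.Helper23.PSolv
import Cfsg.Agent.S0629

/-!
helper19: best offenders, part 8: the dual Hall–Higman lemma and the transfer of best offenders on a
normal elementary abelian subgroup `V` of `G` to the semidirect product `V ⋊ (G / C_G(V))`, where
the action is faithful.
-/

set_option autoImplicit false
open Cfsg

namespace Cfsg.Agent.Helper19.SD

open scoped commutatorElement

section dualHH

variable {G : Type*} [Group G]

/-- dual Hall–Higman lemma: in a `p`-solvable group with trivial `p`-core, the centralizer of the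
`p'`-core is contained in the `p'`-core. -/
theorem hall_higman_dual {p : ℕ} [Fact p.Prime] [Finite G] (hsol : IsPSolvable p G)
    (h : pCore p G = ⊥) :
    Subgroup.centralizer (pPrimeCore p G : Set G) ≤ pPrimeCore p G := by
  obtain ⟨n, H, h0, hlast, hmono, hnorm, hfac⟩ := hsol
  set V := pPrimeCore p G with hV
  set C := Subgroup.centralizer (V : Set G) with hC
  have hVn : V.Normal := Cfsg.Agent.Helper23.pPrimeCore_normal_fin p
  have hVp : (Nat.card V).Coprime p := Cfsg.Agent.Helper23.pPrimeCore_coprime p
  have hCn : C.Normal := inferInstance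
  have key : ∀ i : Fin (n + 1), C ⊓ H i ≤ V := by
    intro i
    induction i using Fin.induction with
    | zero => rw [h0]; simp
    | succ i ih =>
      set A := H i.castSucc with hA
      set B := H i.succ with hB
      have hAB : A ≤ B := hmono (Fin.castSucc_lt_succ (i := i)).le
      have hAn : A.Normal := hnorm _
      have hBn : B.Normal := hnorm _
      set M := C ⊓ B with hM
      have hMn : M.Normal := inferInstance
      set N := M ⊓ A with hN
      have hNn : N.Normal := inferInstance
      have hNV : N ≤ V := by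
        refine le_trans ?_ ih
        intro x hx
        exact ⟨hx.1.1, hx.2⟩
      have hNcop : (Nat.card N).Coprime p :=
        Nat.Coprime.coprime_dvd_left (Subgroup.card_dvd_of_le hNV) hVp
      have hNM : N ≤ M := inf_le_left
      have hrel : N.relIndex M ∣ A.relIndex B := by
        have e1 : N.relIndex M = A.relIndex M := by
          rw [hN, inf_comm, Subgroup.inf_relIndex_right]
        rw [e1, ← Subgroup.relIndex_sup_right M A]
        have := Subgroup.relIndex_mul_relIndex A (M ⊔ A) B le_sup_right
          (sup_le inf_le_right hAB)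
        exact Dvd.intro _ this
      have hcardM : Nat.card M = Nat.card N * N.relIndex M :=
        Cfsg.Agent.Helper23.card_eq_card_mul_relIndex hNM
      rcases hfac i with ⟨m, hm⟩ | hc
      · -- p-power factor: Schur–Zassenhaus
        rw [hm] at hrel
        obtain ⟨j, _, hj⟩ := (Nat.dvd_prime_pow (Fact.out : p.Prime)).mp hrel
        have hN'n : (N.subgroupOf M).Normal := inferInstance
        have hcardN' : Nat.card (N.subgroupOf M) = Nat.card N :=
          Nat.card_congr (Subgroup.subgroupOfEquivOfLe hNM).toEquiv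
        have hidx : (N.subgroupOf M).index = p ^ j := hj
        have hcop : Nat.Coprime (Nat.card (N.subgroupOf M)) (N.subgroupOf M).index := by
          rw [hcardN', hidx]
          exact Nat.Coprime.pow_right j hNcop
        obtain ⟨L', hL'⟩ := Subgroup.exists_right_complement'_of_coprime hcop
        set k := Nat.card L' with hk
        have hkidx : k = N.relIndex M := by
          have := hL'.symm.index_eq_card
          exact this.symm
        have hkp : k = p ^ j := by rw [hkidx, hj]
        set L := L'.map M.subtype with hL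
        have hcardL : Nat.card L = k :=
          Nat.card_congr (Subgroup.equivMapOfInjective L' M.subtype
            (Subgroup.subtype_injective M)).toEquiv.symm
        have hLM : L ≤ M := Subgroup.map_subtype_le L'
        have hpowL : ∀ l ∈ L, l ^ k = 1 := by
          intro l hl
          have : (⟨l, hl⟩ : L) ^ Nat.card L = 1 := pow_card_eq_one'
          rw [hcardL] at this
          exact congrArg Subtype.val this
        have hdecomp : ∀ y ∈ M, ∃ u ∈ N, ∃ l ∈ L, y = u * l := by
          intro y hy
          obtain ⟨⟨⟨u, hu⟩, ⟨l, hl⟩⟩, hul⟩ := hL'.2 ⟨y, hy⟩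
          refine ⟨u.1, hu, l.1, ⟨l, hl, rfl⟩, ?_⟩
          have := congrArg Subtype.val hul
          simpa using this.symm
        have hmemL : ∀ y ∈ M, y ^ k = 1 → y ∈ L := by
          intro y hy hyk
          obtain ⟨u, hu, l, hl, rfl⟩ := hdecomp y hy
          have hcomm : Commute u l := by
            have hlC : l ∈ C := (hLM hl).1
            have := (Subgroup.mem_centralizer_iff.mp hlC) u (hNV hu)
            exact this
          rw [hcomm.mul_pow, hpowL l hl, mul_one] at hyk
          have hdvd : orderOf u ∣ k := orderOf_dvd_of_pow_eq_one hyk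
          have hdvd2 : orderOf u ∣ Nat.card N := by
            have := orderOf_dvd_natCard (⟨u, hu⟩ : N)
            rwa [Subgroup.orderOf_mk] at this
          have h1 : orderOf u = 1 := by
            have hcop2 : (Nat.card N).Coprime k := by
              rw [hkp]
              exact Nat.Coprime.pow_right j hNcop
            exact Nat.eq_one_of_dvd_coprimes hcop2 hdvd2 hdvd
          rw [orderOf_eq_one_iff] at h1
          rw [h1, one_mul]; exact hl
        have hLn : L.Normal := by
          constructor
          intro x hx g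
          apply hmemL
          · exact hMn.conj_mem x (hLM hx) g
          · rw [conj_pow, hpowL x hx]; simp
        have hLbot : L = ⊥ := by
          have hLp : IsPGroup p L := IsPGroup.of_card (n := j) (by rw [hcardL, hkp])
          have : L ≤ pCore p G := Cfsg.Agent.Helper23.le_pCore hLn hLp
          rw [h] at this
          exact le_bot_iff.mp this
        intro y hy
        obtain ⟨u, hu, l, hl, rfl⟩ := hdecomp y hy
        rw [hLbot, Subgroup.mem_bot] at hl
        rw [hl, mul_one]; exact hNV hu
      · -- p'-factor: M is a normal p'-subgroup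
        have hc' : (N.relIndex M).Coprime p := Nat.Coprime.coprime_dvd_left hrel hc
        have hMc : (Nat.card M).Coprime p := by
          rw [hcardM]
          exact Nat.Coprime.mul_left hNcop hc'
        exact Cfsg.Agent.Helper23.le_pPrimeCore hMn hMc
  have := key (Fin.last n)
  rw [hlast, inf_top_eq] at this
  exact this

theorem card_eq_card_map_mul {X : Type*} [Group X] [Finite G] (f : G →* X) (B : Subgroup G) :
    Nat.card B = Nat.card (B.map f) * Nat.card ↥(B ⊓ f.ker) := by
  have h1 := Subgroup.card_mul_index (f.comp B.subtype).ker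
  rw [Subgroup.index_ker] at h1
  have e1 : (f.comp B.subtype).range = B.map f := by
    ext x
    constructor
    · rintro ⟨b, rfl⟩
      exact ⟨b.1, b.2, rfl⟩
    · rintro ⟨b, hb, rfl⟩
      exact ⟨⟨b, hb⟩, rfl⟩
  have e2 : Nat.card (f.comp B.subtype).ker = Nat.card ↥(B ⊓ f.ker) := by
    have e3 : (f.comp B.subtype).ker = (B ⊓ f.ker).subgroupOf B := by
      ext x
      rw [MonoidHom.mem_ker, Subgroup.mem_subgroupOf, Subgroup.mem_inf, MonoidHom.mem_ker]
      exact ⟨fun h => ⟨x.2, h⟩, fun h => h.2⟩
    rw [e3]
    exact Nat.card_congr (Subgroup.subgroupOfEquivOfLe inf_le_left).toEquiv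
  rw [e1, e2] at h1
  rw [← h1, mul_comm]

end dualHH

section SD

variable {G : Type*} [Group G] (V : Subgroup G) [V.Normal]

theorem conjNormal_eq_one {x : G} (hx : x ∈ Subgroup.centralizer (V : Set G)) :
    (MulAut.conjNormal x : MulAut V) = 1 := by
  apply MulEquiv.ext
  intro v
  apply Subtype.ext
  rw [MulAut.conjNormal_apply, MulAut.one_apply]
  have h := Subgroup.mem_centralizer_iff.1 hx (v : G) v.2
  rw [← h, mul_inv_cancel_right]

/-- the action of `G / C_G(V)` on `V` -/
noncomputable def act : (G ⧸ Subgroup.centralizer (V : Set G)) →* MulAut V :=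
  QuotientGroup.lift _ (MulAut.conjNormal : G →* MulAut V)
    (fun _ hx => MonoidHom.mem_ker.2 (conjNormal_eq_one V hx))

/-- the semidirect product `V ⋊ G / C_G(V)` -/
abbrev X : Type _ := ↥V ⋊[act V] (G ⧸ Subgroup.centralizer (V : Set G))

theorem finite_X [Finite G] : Finite (X V) :=
  Finite.of_equiv _ SemidirectProduct.equivProd.symm

/-- the map `G → V ⋊ G / C_G(V)` -/
noncomputable def psi : G →* X V :=
  (SemidirectProduct.inr : (G ⧸ Subgroup.centralizer (V : Set G)) →* X V).comp
    (QuotientGroup.mk' (Subgroup.centralizer (V : Set G)))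

/-- the copy of `V` -/
noncomputable def V' : Subgroup (X V) := (SemidirectProduct.inl : V →* X V).range

/-- the copy of `G / C_G(V)` -/
noncomputable def H' : Subgroup (X V) := (psi V).range

theorem psi_conj (g : G) (v : V) :
    psi V g * SemidirectProduct.inl v * (psi V g)⁻¹ =
      SemidirectProduct.inl ((MulAut.conjNormal g : MulAut V) v) := by
  show SemidirectProduct.inr (QuotientGroup.mk g) * SemidirectProduct.inl v *
      (SemidirectProduct.inr (QuotientGroup.mk g))⁻¹ = _
  rw [← map_inv, ← SemidirectProduct.inl_aut]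
  rfl

theorem psi_ker : (psi V).ker = Subgroup.centralizer (V : Set G) := by
  ext g
  rw [MonoidHom.mem_ker]
  constructor
  · intro h
    have h1 : (QuotientGroup.mk g : G ⧸ Subgroup.centralizer (V : Set G)) = 1 := by
      apply SemidirectProduct.inr_injective (φ := act V)
      rw [map_one]
      exact h
    exact (QuotientGroup.eq_one_iff g).1 h1
  · intro h
    show SemidirectProduct.inr (QuotientGroup.mk g) = 1
    rw [(QuotientGroup.eq_one_iff g).2 h, map_one]

theorem V'_normal : (V' V).Normal := by
  unfold V'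
  rw [SemidirectProduct.range_inl_eq_ker_rightHom]
  infer_instance

theorem V'_elemab {p : ℕ} (hV : IsElementaryAbelian p V) : IsElementaryAbelian p (V' V) := by
  rw [Cfsg.Agent.Helper3.isElementaryAbelian_iff] at hV ⊢
  refine ⟨?_, ?_⟩
  · rintro _ ⟨a, rfl⟩ _ ⟨b, rfl⟩
    rw [← map_mul, ← map_mul]
    congr 1
    exact Subtype.ext (hV.1 a a.2 b b.2)
  · rintro _ ⟨a, rfl⟩
    rw [← map_pow]
    have h1 : a ^ p = 1 := Subtype.ext (by simpa using hV.2 a a.2)
    rw [h1, map_one]

theorem faithful' : H' V ⊓ Subgroup.centralizer (V' V : Set (X V)) = ⊥ := by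
  rw [eq_bot_iff]
  intro x hx
  obtain ⟨⟨g, rfl⟩, hc⟩ := Subgroup.mem_inf.1 hx
  rw [Subgroup.mem_bot, ← MonoidHom.mem_ker, psi_ker, Subgroup.mem_centralizer_iff]
  intro v hv
  have h1 := Subgroup.mem_centralizer_iff.1 hc (SemidirectProduct.inl ⟨v, hv⟩) ⟨⟨v, hv⟩, rfl⟩
  have h2 := psi_conj V g ⟨v, hv⟩
  rw [← h1, mul_inv_cancel_right] at h2
  have h3 := congrArg Subtype.val (SemidirectProduct.inl_injective h2)
  rw [MulAut.conjNormal_apply] at h3
  have h4 : v = g * v * g⁻¹ := h3
  calc v * g = (g * v * g⁻¹) * g := by rw [← h4]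
    _ = g * v := by group

theorem cent_map_eq (B : Subgroup G) :
    V' V ⊓ Subgroup.centralizer ((B.map (psi V) : Subgroup (X V)) : Set (X V)) =
      ((V ⊓ Subgroup.centralizer (B : Set G)).subgroupOf V).map SemidirectProduct.inl := by
  ext x
  rw [Subgroup.mem_inf, Subgroup.mem_map]
  constructor
  · rintro ⟨⟨v, rfl⟩, hc⟩
    refine ⟨v, ?_, rfl⟩
    rw [Subgroup.mem_subgroupOf, Subgroup.mem_inf]
    refine ⟨v.2, ?_⟩
    rw [Subgroup.mem_centralizer_iff]
    intro b hb
    have h1 := Subgroup.mem_centralizer_iff.1 hc (psi V b) ⟨b, hb, rfl⟩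
    have h2 := psi_conj V b v
    rw [h1, mul_inv_cancel_right] at h2
    have h3 := congrArg Subtype.val (SemidirectProduct.inl_injective h2)
    rw [MulAut.conjNormal_apply] at h3
    calc b * (v : G) = b * v * b⁻¹ * b := by group
      _ = v * b := by rw [← h3]
  · rintro ⟨v, hv, rfl⟩
    rw [Subgroup.mem_subgroupOf, Subgroup.mem_inf] at hv
    refine ⟨⟨v, rfl⟩, ?_⟩
    rw [Subgroup.mem_centralizer_iff]
    rintro _ ⟨b, hb, rfl⟩
    have h1 := Subgroup.mem_centralizer_iff.1 hv.2 b hb
    have h2 := psi_conj V b v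
    have e : (MulAut.conjNormal b : MulAut V) v = v := by
      apply Subtype.ext
      rw [MulAut.conjNormal_apply, h1, mul_inv_cancel_right]
    rw [e] at h2
    calc psi V b * SemidirectProduct.inl v
        = psi V b * SemidirectProduct.inl v * (psi V b)⁻¹ * psi V b := by group
      _ = SemidirectProduct.inl v * psi V b := by rw [h2]

theorem card_cent_map [Finite G] (B : Subgroup G) :
    Nat.card ↥(V' V ⊓ Subgroup.centralizer ((B.map (psi V) : Subgroup (X V)) : Set (X V))) =
      Nat.card ↥(V ⊓ Subgroup.centralizer (B : Set G)) := by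
  rw [cent_map_eq, Subgroup.card_map_of_injective SemidirectProduct.inl_injective]
  exact Nat.card_congr (Subgroup.subgroupOfEquivOfLe inf_le_left).toEquiv

theorem card_V' : Nat.card (V' V) = Nat.card V :=
  (Nat.card_congr
    (MonoidHom.ofInjective (SemidirectProduct.inl_injective (φ := act V))).toEquiv).symm

theorem map_le_H' (A : Subgroup G) : A.map (psi V) ≤ H' V := by
  rintro _ ⟨a, _, rfl⟩
  exact ⟨a, rfl⟩

theorem bo_transfer [Finite G] {p : ℕ} {A : Subgroup G} (hA : IsBestOffenderOn p V A) :
    IsBestOffenderOn p (V' V) (A.map (psi V)) := by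
  obtain ⟨h1, h2, h3⟩ := hA
  refine ⟨?_, ?_, ?_⟩
  · intro B' hB'
    have hBmap : (A ⊓ B'.comap (psi V)).map (psi V) = B' := by
      apply le_antisymm
      · rintro _ ⟨b, hb, rfl⟩
        exact (Subgroup.mem_inf.1 hb).2
      · intro x hx
        obtain ⟨a, ha, rfl⟩ := hB' hx
        exact ⟨a, Subgroup.mem_inf.2 ⟨ha, hx⟩, rfl⟩
    have hker : (A ⊓ B'.comap (psi V)) ⊓ (psi V).ker = A ⊓ (psi V).ker := by
      apply le_antisymm
      · exact inf_le_inf_right _ inf_le_left
      · intro x hx
        obtain ⟨hxA, hxk⟩ := Subgroup.mem_inf.1 hx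
        refine Subgroup.mem_inf.2 ⟨Subgroup.mem_inf.2 ⟨hxA, ?_⟩, hxk⟩
        rw [Subgroup.mem_comap, MonoidHom.mem_ker.1 hxk]
        exact one_mem _
    have c1 := card_eq_card_map_mul (psi V) (A ⊓ B'.comap (psi V))
    have c2 := card_eq_card_map_mul (psi V) A
    rw [hBmap, hker] at c1
    have c3 := card_cent_map V (A ⊓ B'.comap (psi V))
    rw [hBmap] at c3
    have c4 := card_cent_map V A
    have c5 := h1 (A ⊓ B'.comap (psi V)) inf_le_left
    rw [c3, c4]
    have hk : 0 < Nat.card ↥(A ⊓ (psi V).ker) := Nat.card_pos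
    have key : Nat.card B' *
        Nat.card ↥(V ⊓ Subgroup.centralizer ((A ⊓ B'.comap (psi V) : Subgroup G) : Set G)) *
        Nat.card ↥(A ⊓ (psi V).ker) ≤
        Nat.card (A.map (psi V)) * Nat.card ↥(V ⊓ Subgroup.centralizer (A : Set G)) *
        Nat.card ↥(A ⊓ (psi V).ker) := by
      calc Nat.card B' *
            Nat.card ↥(V ⊓ Subgroup.centralizer ((A ⊓ B'.comap (psi V) : Subgroup G) : Set G)) *
            Nat.card ↥(A ⊓ (psi V).ker)
          = (Nat.card B' * Nat.card ↥(A ⊓ (psi V).ker)) *
            Nat.card ↥(V ⊓ Subgroup.centralizer ((A ⊓ B'.comap (psi V) : Subgroup G) : Set G)) := by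
            ring
        _ = Nat.card ↥(A ⊓ B'.comap (psi V)) *
            Nat.card ↥(V ⊓ Subgroup.centralizer ((A ⊓ B'.comap (psi V) : Subgroup G) : Set G)) := by
            rw [← c1]
        _ ≤ Nat.card A * Nat.card ↥(V ⊓ Subgroup.centralizer (A : Set G)) := c5
        _ = (Nat.card (A.map (psi V)) * Nat.card ↥(A ⊓ (psi V).ker)) *
            Nat.card ↥(V ⊓ Subgroup.centralizer (A : Set G)) := by rw [← c2]
        _ = Nat.card (A.map (psi V)) * Nat.card ↥(V ⊓ Subgroup.centralizer (A : Set G)) *
            Nat.card ↥(A ⊓ (psi V).ker) := by ring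
    exact Nat.le_of_mul_le_mul_right key hk
  · rw [← Subgroup.map_commutator]
    rintro _ ⟨x, hx, rfl⟩
    have hx1 : psi V x = 1 := MonoidHom.mem_ker.1 (by rw [psi_ker]; exact h2 hx)
    rw [hx1]
    exact one_mem _
  · rintro _ ⟨a, ha, rfl⟩
    rw [← map_pow]
    have hx1 : psi V (a ^ p) = 1 := MonoidHom.mem_ker.1 (by rw [psi_ker]; exact h3 a ha)
    rw [hx1]
    exact one_mem _

theorem setup' [Finite G] {p : ℕ} [Fact p.Prime] (hV : IsElementaryAbelian p V)
    (hsep : IsPSolvable p G)
    (hO : pCore p (G ⧸ Subgroup.centralizer (V : Set G)) = ⊥) :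
    BO.Setup p (V' V) (H' V) := by
  haveI : Finite (X V) := finite_X V
  refine ⟨V'_elemab V hV, ?_, faithful' V, ?_⟩
  · intro x _
    haveI := V'_normal V
    rw [Subgroup.normalizer_eq_top]
    trivial
  · have hfs : Function.Surjective (psi V).rangeRestrict := (psi V).rangeRestrict_surjective
    have hsolH : IsPSolvable p ↥(H' V) :=
      Cfsg.Agent.S0629.isPSolvable_of_surjective (psi V).rangeRestrict hfs hsep
    have hmem : ∀ q : G ⧸ Subgroup.centralizer (V : Set G),
        (SemidirectProduct.inr q : X V) ∈ H' V := by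
      intro q
      obtain ⟨g, rfl⟩ := QuotientGroup.mk_surjective q
      exact ⟨g, rfl⟩
    obtain ⟨θ, hθ⟩ : ∃ θ : (G ⧸ Subgroup.centralizer (V : Set G)) →* ↥(H' V),
        ∀ q, ((θ q : ↥(H' V)) : X V) = SemidirectProduct.inr q :=
      ⟨(SemidirectProduct.inr : (G ⧸ Subgroup.centralizer (V : Set G)) →* X V).codRestrict
        (H' V) hmem, fun q => rfl⟩
    have hθinj : Function.Injective θ := by
      intro a b hab
      apply SemidirectProduct.inr_injective (φ := act V)
      rw [← hθ a, ← hθ b, hab]
    have hθsurj : Function.Surjective θ := by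
      rintro ⟨_, g, rfl⟩
      refine ⟨QuotientGroup.mk g, Subtype.ext ?_⟩
      rw [hθ]
      rfl
    have hPbot : pCore p ↥(H' V) = ⊥ := by
      have hPn : (pCore p ↥(H' V)).Normal := Cfsg.Agent.Helper23.pCore_normal_fin p
      have hPp : IsPGroup p (pCore p ↥(H' V)) := Cfsg.Agent.Helper23.pCore_isPGroup p
      have h1 : (pCore p ↥(H' V)).comap θ ≤ pCore p (G ⧸ Subgroup.centralizer (V : Set G)) :=
        Cfsg.Agent.Helper23.le_pCore (hPn.comap θ) (hPp.comap_of_injective θ hθinj)
      rw [hO] at h1
      rw [eq_bot_iff]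
      intro x hx
      obtain ⟨q, rfl⟩ := hθsurj x
      have h2 : q ∈ (pCore p ↥(H' V)).comap θ := hx
      have h3 := h1 h2
      rw [Subgroup.mem_bot] at h3 ⊢
      rw [h3, map_one]
    exact hall_higman_dual hsolH hPbot

end SD

end Cfsg.Agent.Helper19.SD
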