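import Mathlib
import Cfsg.Agent.Helper19.BO8
import Cfsg.Agent.S0602
import Cfsg.Agent.S0606

/-!
helper19: best offenders, part 9: applications to the Thompson subgroup of `p`-solvable groups
(KS 9.3.9, 9.3.10).
-/

set_option autoImplicit false
open Cfsg

namespace Cfsg.Agent.Helper19.BO

open scoped commutatorElement

variable {G : Type*} [Group G] [Finite G] {p : ℕ} [Fact p.Prime] {V H : Subgroup G}

/-- every best offender normalizes each component `E_B` -/
theorem bo_le_normalizer (S : Setup p V H) {A B : Subgroup G} (hAH : A ≤ H)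
    (hA : Cfsg.IsBestOffenderOn p V A) (hBH : B ≤ H) (hB : Cfsg.IsBestOffenderOn p V B)
    (hcB : Nat.card B = p) :
    A ≤ Subgroup.normalizer ((⁅Qc p H, B⁆ ⊔ B : Subgroup G) : Set G) := by
  obtain ⟨k, D, hD, -, hsup⟩ := decomp S _ A rfl hAH hA
  rw [← hsup]
  refine iSup_le fun i => ?_
  rcases pair S hBH ((hD i).1.trans hAH) hB (hD i).2.1 hcB (hD i).2.2 with h | ⟨-, -, h3⟩
  · exact h.trans Subgroup.le_normalizer
  · have h4 := Subgroup.commutator_eq_bot_iff_le_centralizer.1 h3
    exact (le_sup_right.trans (Subgroup.le_centralizer_iff.1 h4)).trans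
      (Subgroup.centralizer_le_normalizer _)

end Cfsg.Agent.Helper19.BO

namespace Cfsg.Agent.Helper19.SD

open scoped commutatorElement

variable {G : Type*} [Group G] [Finite G] {p : ℕ} [Fact p.Prime]

/-- for `A ∈ 𝒜(G)`, also `V C_A(V) ∈ 𝒜(G)` -/
theorem star_mem_max (hsep : IsPSolvable p G)
    (V : Subgroup G) [V.Normal] (hV : IsElementaryAbelian p V)
    (hO : pCore p (G ⧸ Subgroup.centralizer (V : Set G)) = ⊥) {A : Subgroup G}
    (hA : A ∈ maxElementaryAbelianSubgroups p G) :
    V ⊔ (A ⊓ Subgroup.centralizer (V : Set G)) ∈ maxElementaryAbelianSubgroups p G := by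
  haveI : Finite (X V) := finite_X V
  have hAab := (Cfsg.Agent.Helper3.isElementaryAbelian_iff.1 hA.1).1
  have hel : IsElementaryAbelian p (V ⊔ (A ⊓ Subgroup.centralizer (V : Set G))) :=
    Cfsg.Agent.Helper3.elemAb_sup hV (Cfsg.Agent.Helper3.elemAb_mono hA.1 inf_le_left)
      (fun v hv c hc => Subgroup.mem_centralizer_iff.1 (Subgroup.mem_inf.1 hc).2 v hv)
  refine ⟨hel, fun B hB => (hA.2 B hB).trans ?_⟩
  have hBO := Cfsg.Agent.S0606.result V hV A hA
  have hBO' := bo_transfer V hBO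
  have S' := setup' V hV hsep hO
  by_cases hA1 : A.map (psi V) = ⊥
  · have hAC : A ≤ Subgroup.centralizer (V : Set G) := by
      rw [← psi_ker]
      exact (Subgroup.map_eq_bot_iff _).1 hA1
    exact Subgroup.card_le_of_le (le_sup_of_le_right (le_inf le_rfl hAC))
  · have c0 := BO.card_eq' S' (map_le_H' V A) hBO' hA1
    rw [card_cent_map, card_V'] at c0
    have c2 := card_eq_card_map_mul (psi V) A
    rw [psi_ker] at c2
    have hn : A ⊓ Subgroup.centralizer (V : Set G) ≤ Subgroup.normalizer (V : Set G) := by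
      rw [Subgroup.normalizer_eq_top]
      exact le_top
    have c3 := Cfsg.Agent.Helper3.card_mul_card_eq_of_le_normalizer
      (A ⊓ Subgroup.centralizer (V : Set G)) V hn
    have c4 : Nat.card ↥((A ⊓ Subgroup.centralizer (V : Set G)) ⊓ V) ≤
        Nat.card ↥(V ⊓ Subgroup.centralizer (A : Set G)) := by
      apply Subgroup.card_le_of_le
      intro x hx
      obtain ⟨hx1, hxV⟩ := Subgroup.mem_inf.1 hx
      obtain ⟨hxA, _⟩ := Subgroup.mem_inf.1 hx1
      refine Subgroup.mem_inf.2 ⟨hxV, ?_⟩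
      rw [Subgroup.mem_centralizer_iff]
      intro a ha
      exact hAab a ha x hxA
    have hm : 0 < Nat.card ↥((A ⊓ Subgroup.centralizer (V : Set G)) ⊓ V) := Nat.card_pos
    rw [sup_comm] at c3
    apply Nat.le_of_mul_le_mul_right _ hm
    calc Nat.card A * Nat.card ↥((A ⊓ Subgroup.centralizer (V : Set G)) ⊓ V)
        = Nat.card (A.map (psi V)) * Nat.card ↥(A ⊓ Subgroup.centralizer (V : Set G)) *
          Nat.card ↥((A ⊓ Subgroup.centralizer (V : Set G)) ⊓ V) := by rw [← c2]
      _ ≤ Nat.card (A.map (psi V)) * Nat.card ↥(A ⊓ Subgroup.centralizer (V : Set G)) *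
          Nat.card ↥(V ⊓ Subgroup.centralizer (A : Set G)) := Nat.mul_le_mul_left _ c4
      _ = Nat.card ↥(A ⊓ Subgroup.centralizer (V : Set G)) *
          (Nat.card (A.map (psi V)) * Nat.card ↥(V ⊓ Subgroup.centralizer (A : Set G))) := by ring
      _ = Nat.card ↥(A ⊓ Subgroup.centralizer (V : Set G)) * Nat.card V := by rw [c0]
      _ = Nat.card ↥(V ⊔ (A ⊓ Subgroup.centralizer (V : Set G))) *
          Nat.card ↥((A ⊓ Subgroup.centralizer (V : Set G)) ⊓ V) := c3

/-- KS 9.3.10 -/
theorem omega_comm_le (hsep : IsPSolvable p G)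
    (V : Subgroup G) [V.Normal] (hV : IsElementaryAbelian p V)
    (hO : pCore p (G ⧸ Subgroup.centralizer (V : Set G)) = ⊥) :
    ⁅omegaOne p (centerThompsonOf p (Subgroup.centralizer (V : Set G))),
      thompsonSubgroup p G⁆ ≤ V := by
  have hVab := (Cfsg.Agent.Helper3.isElementaryAbelian_iff.1 hV).1
  have hVC : V ≤ Subgroup.centralizer (V : Set G) := by
    intro v hv
    rw [Subgroup.mem_centralizer_iff]
    intro w hw
    exact hVab w hw v hv
  have key : ∀ x : G, x ∈ centerThompsonOf p (Subgroup.centralizer (V : Set G)) → x ^ p = 1 →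
      ∀ A ∈ maxElementaryAbelianSubgroups p G, ∀ a ∈ A, ⁅x, a⁆ ∈ V := by
    intro x hx hxp A hA a ha
    have hAab := (Cfsg.Agent.Helper3.isElementaryAbelian_iff.1 hA.1).1
    have hstar := star_mem_max hsep V hV hO hA
    obtain ⟨Y, hY⟩ : ∃ Y, Y = V ⊔ (A ⊓ Subgroup.centralizer (V : Set G)) := ⟨_, rfl⟩
    rw [← hY] at hstar
    have hleC : Y ≤ Subgroup.centralizer (V : Set G) := by
      rw [hY]
      exact sup_le hVC inf_le_right
    have hJ : Y ≤ thompsonSubgroupOf p (Subgroup.centralizer (V : Set G)) := by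
      have hmem := Cfsg.Agent.Helper3.subgroupOf_mem_max hstar hleC
      calc Y = (Y.subgroupOf (Subgroup.centralizer (V : Set G))).map
            (Subgroup.centralizer (V : Set G)).subtype :=
            (Subgroup.map_subgroupOf_eq_of_le hleC).symm
        _ ≤ thompsonSubgroupOf p (Subgroup.centralizer (V : Set G)) :=
            Subgroup.map_mono (le_sSup hmem)
    have hxc : ∀ y ∈ Y, y * x = x * y := by
      intro y hy
      have hx2 : x ∈ Subgroup.centralizer
          (thompsonSubgroupOf p (Subgroup.centralizer (V : Set G)) : Set G) :=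
        (Subgroup.mem_inf.1 hx).2
      exact Subgroup.mem_centralizer_iff.1 hx2 y (hJ hy)
    have hxY : x ∈ Y := by
      have hel := Cfsg.Agent.Helper3.elemAb_sup (Cfsg.Agent.Helper3.elemAb_zpowers hxp) hstar.1
        (by
          intro z hz b hb
          obtain ⟨n, rfl⟩ := Subgroup.mem_zpowers_iff.1 hz
          exact ((show Commute x b from (hxc b hb).symm).zpow_left n).eq)
      have hle := hstar.2 _ hel
      have heq : Y = Subgroup.zpowers x ⊔ Y := Subgroup.eq_of_le_of_card_ge le_sup_right hle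
      rw [heq]
      exact Subgroup.mem_sup_left (Subgroup.mem_zpowers x)
    rw [hY] at hxY
    obtain ⟨v, hv, c, hc, rfl⟩ := BO.mem_sup_of_comm
      (fun n hn k hk => Subgroup.mem_centralizer_iff.1 (Subgroup.mem_inf.1 hk).2 n hn) hxY
    have hca : c * a = a * c := hAab c (Subgroup.mem_inf.1 hc).1 a ha
    have e : ⁅v * c, a⁆ = v * (a * v⁻¹ * a⁻¹) := by
      rw [commutatorElement_def]
      calc v * c * a * (v * c)⁻¹ * a⁻¹ = v * (c * a) * c⁻¹ * v⁻¹ * a⁻¹ := by group
        _ = v * (a * c) * c⁻¹ * v⁻¹ * a⁻¹ := by rw [hca]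
        _ = v * (a * v⁻¹ * a⁻¹) := by group
    rw [e]
    exact mul_mem hv ((inferInstance : V.Normal).conj_mem _ (inv_mem hv) a)
  obtain ⟨π, hπ⟩ : ∃ π : G →* G ⧸ V, π = QuotientGroup.mk' V := ⟨_, rfl⟩
  have hker : ∀ g : G, π g = 1 ↔ g ∈ V := by
    intro g
    rw [hπ]
    exact QuotientGroup.eq_one_iff g
  have hcomm : ∀ x ∈ {x : G | x ∈ centerThompsonOf p (Subgroup.centralizer (V : Set G)) ∧
      x ^ p = 1}, ∀ A ∈ maxElementaryAbelianSubgroups p G, ∀ a ∈ A, π x * π a = π a * π x := by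
    intro x hx A hA a ha
    have h1 := key x hx.1 hx.2 A hA a ha
    rw [← hker, commutatorElement_def, map_mul, map_mul, map_mul, map_inv, map_inv] at h1
    calc π x * π a = (π x * π a * (π x)⁻¹ * (π a)⁻¹) * π a * π x := by group
      _ = π a * π x := by rw [h1, one_mul]
  have hJ : thompsonSubgroup p G ≤ (Subgroup.centralizer (π '' {x : G |
      x ∈ centerThompsonOf p (Subgroup.centralizer (V : Set G)) ∧ x ^ p = 1})).comap π := by
    apply sSup_le
    intro A hA a ha
    rw [Subgroup.mem_comap, Subgroup.mem_centralizer_iff]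
    rintro _ ⟨x, hx, rfl⟩
    exact hcomm x hx A hA a ha
  have hZ : omegaOne p (centerThompsonOf p (Subgroup.centralizer (V : Set G))) ≤
      (Subgroup.centralizer ((thompsonSubgroup p G).map π : Set (G ⧸ V))).comap π := by
    unfold omegaOne
    rw [Subgroup.closure_le]
    intro x hx
    rw [SetLike.mem_coe, Subgroup.mem_comap, Subgroup.mem_centralizer_iff]
    rintro _ ⟨j, hj, rfl⟩
    have h1 := hJ hj
    rw [Subgroup.mem_comap, Subgroup.mem_centralizer_iff] at h1
    exact (h1 (π x) ⟨x, hx, rfl⟩).symm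
  rw [Subgroup.commutator_le]
  intro z hz j hj
  have h1 := hZ hz
  rw [Subgroup.mem_comap, Subgroup.mem_centralizer_iff] at h1
  have h2 := h1 (π j) ⟨j, hj, rfl⟩
  rw [← hker, commutatorElement_def, map_mul, map_mul, map_mul, map_inv, map_inv, ← h2]
  group

/-- KS 9.3.9 in abstract form -/
theorem sl2_section (hsep : IsPSolvable p G)
    (V : Subgroup G) [V.Normal] (hV : IsElementaryAbelian p V)
    (hO : pCore p (G ⧸ Subgroup.centralizer (V : Set G)) = ⊥)
    (hJ : ¬ thompsonSubgroup p G ≤ Subgroup.centralizer (V : Set G)) :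
    (p = 2 ∨ p = 3) ∧ ∃ E : Subgroup G, Subgroup.centralizer (V : Set G) ≤ E ∧
      E ≤ thompsonSubgroup p G ⊔ Subgroup.centralizer (V : Set G) ∧
      thompsonSubgroup p G ⊔ Subgroup.centralizer (V : Set G) ≤ Subgroup.normalizer (E : Set G) ∧
      ∃ hn : ((Subgroup.centralizer (V : Set G)).subgroupOf E).Normal,
        Nonempty ((↥E ⧸ (Subgroup.centralizer (V : Set G)).subgroupOf E) ≃*
          Matrix.SpecialLinearGroup (Fin 2) (ZMod p)) := by
  haveI : Finite (X V) := finite_X V
  have S' := setup' V hV hsep hO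
  obtain ⟨A₀, hA₀, hA₀C⟩ : ∃ A₀ ∈ maxElementaryAbelianSubgroups p G,
      ¬ A₀ ≤ Subgroup.centralizer (V : Set G) := by
    by_contra hcon
    push Not at hcon
    exact hJ (sSup_le hcon)
  have hBO₀ := bo_transfer V (Cfsg.Agent.S0606.result V hV A₀ hA₀)
  have hA₀1 : A₀.map (psi V) ≠ ⊥ := by
    intro h
    apply hA₀C
    rw [← psi_ker]
    exact (Subgroup.map_eq_bot_iff _).1 h
  obtain ⟨k, D, hD, -, hsup⟩ := BO.decomp S' _ (A₀.map (psi V)) rfl (map_le_H' V A₀) hBO₀
  obtain ⟨i⟩ : Nonempty (Fin k) := by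
    by_contra hemp
    rw [not_nonempty_iff] at hemp
    apply hA₀1
    rw [← hsup, iSup_of_empty]
  obtain ⟨hB'A, hB', hcB'⟩ := hD i
  have hB'H : D i ≤ H' V := hB'A.trans (map_le_H' V A₀)
  have ST := BO.st S' hB'H hB' hcB'
  obtain ⟨φ⟩ := ST.iso
  obtain ⟨E', hE'⟩ : ∃ E', E' = ⁅BO.Qc p (H' V), D i⁆ ⊔ D i := ⟨_, rfl⟩
  have hJn : ∀ g : G, ∀ j ∈ thompsonSubgroup p G, g * j * g⁻¹ ∈ thompsonSubgroup p G := by
    intro g j hj
    haveI : (thompsonSubgroup p G).Characteristic := (Cfsg.Agent.S0602.result (G := G) (p := p)).1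
    exact (inferInstance : (thompsonSubgroup p G).Normal).conj_mem j hj g
  have hB'J : D i ≤ (thompsonSubgroup p G).map (psi V) :=
    hB'A.trans (Subgroup.map_mono (le_sSup hA₀))
  have hE'J : E' ≤ (thompsonSubgroup p G).map (psi V) := by
    rw [hE']
    refine sup_le ?_ hB'J
    rw [Subgroup.commutator_le]
    intro q hq b hb
    obtain ⟨g, rfl⟩ : q ∈ (psi V).range := BO.Qc_le p (H' V) hq
    obtain ⟨j, hj, rfl⟩ := hB'J hb
    refine ⟨g * j * g⁻¹ * j⁻¹, mul_mem (hJn g j hj) (inv_mem hj), ?_⟩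
    rw [commutatorElement_def, map_mul, map_mul, map_mul, map_inv, map_inv]
  have hJN : (thompsonSubgroup p G).map (psi V) ≤ Subgroup.normalizer (E' : Set (X V)) := by
    rw [Subgroup.map_le_iff_le_comap]
    apply sSup_le
    intro A hA
    rw [← Subgroup.map_le_iff_le_comap, hE']
    exact BO.bo_le_normalizer S' (map_le_H' V A)
      (bo_transfer V (Cfsg.Agent.S0606.result V hV A hA)) hB'H hB' hcB'
  have hker1 : ∀ c ∈ Subgroup.centralizer (V : Set G), psi V c = 1 := by
    intro c hc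
    exact MonoidHom.mem_ker.1 (by rw [psi_ker]; exact hc)
  refine ⟨ST.p23, E'.comap (psi V), ?_, ?_, ?_, ?_⟩
  · intro c hc
    rw [Subgroup.mem_comap, hker1 c hc]
    exact one_mem _
  · intro e he
    obtain ⟨j, hj, hje⟩ := hE'J (Subgroup.mem_comap.1 he)
    have hk : j⁻¹ * e ∈ Subgroup.centralizer (V : Set G) := by
      rw [← psi_ker, MonoidHom.mem_ker, map_mul, map_inv, hje, inv_mul_cancel]
    have e1 : e = j * (j⁻¹ * e) := by group
    rw [e1]
    exact mul_mem (Subgroup.mem_sup_left hj) (Subgroup.mem_sup_right hk)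
  · have hle : thompsonSubgroup p G ⊔ Subgroup.centralizer (V : Set G) ≤
        (Subgroup.normalizer (E' : Set (X V))).comap (psi V) := by
      refine sup_le (Subgroup.map_le_iff_le_comap.1 hJN) ?_
      intro c hc
      rw [Subgroup.mem_comap, hker1 c hc]
      exact one_mem _
    intro g hg
    have h1 := hle hg
    rw [Subgroup.mem_comap, Subgroup.mem_normalizer_iff] at h1
    rw [Subgroup.mem_normalizer_iff]
    intro x
    rw [Subgroup.mem_comap, Subgroup.mem_comap, map_mul, map_mul, map_inv]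
    exact h1 (psi V x)
  · refine ⟨inferInstance, ?_⟩
    obtain ⟨f, hf⟩ : ∃ f : ↥(E'.comap (psi V)) →* ↥E', ∀ x, ((f x : ↥E') : X V) = psi V x :=
      ⟨(psi V).subgroupComap E', fun x => rfl⟩
    have hfs : Function.Surjective f := by
      rintro ⟨x, hx⟩
      obtain ⟨j, hj, rfl⟩ := hE'J hx
      exact ⟨⟨j, hx⟩, Subtype.ext (hf _)⟩
    have hfk : ((Subgroup.centralizer (V : Set G)).subgroupOf (E'.comap (psi V))) = f.ker := by
      ext x
      rw [Subgroup.mem_subgroupOf, MonoidHom.mem_ker]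
      constructor
      · intro h
        apply Subtype.ext
        rw [hf]
        exact hker1 _ h
      · intro h
        have h1 : psi V (x : G) = 1 := by
          rw [← hf, h]
          rfl
        have h2 : (x : G) ∈ (psi V).ker := MonoidHom.mem_ker.2 h1
        rw [psi_ker] at h2
        exact h2
    have e1 := QuotientGroup.quotientKerEquivOfSurjective f hfs
    have e2 := QuotientGroup.quotientMulEquivOfEq hfk
    have e3 : ↥E' ≃* ↥(⁅BO.Qc p (H' V), D i⁆ ⊔ D i) := MulEquiv.subgroupCongr hE'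
    exact ⟨(e2.trans e1).trans (e3.trans φ)⟩

/-- `O_p(G / C) = 1` from the subgroup form -/
theorem pCore_quot_eq_bot (C : Subgroup G) [C.Normal]
    (h : ∀ D : Subgroup G, D.Normal → C ≤ D → (∃ k : ℕ, C.relIndex D = p ^ k) → D = C) :
    pCore p (G ⧸ C) = ⊥ := by
  have hPn : (pCore p (G ⧸ C)).Normal := Cfsg.Agent.Helper23.pCore_normal_fin p
  have hPp : IsPGroup p (pCore p (G ⧸ C)) := Cfsg.Agent.Helper23.pCore_isPGroup p
  obtain ⟨k, hk⟩ := IsPGroup.iff_card.1 hPp
  have hmap : ((pCore p (G ⧸ C)).comap (QuotientGroup.mk' C)).map (QuotientGroup.mk' C) =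
      pCore p (G ⧸ C) :=
    Subgroup.map_comap_eq_self_of_surjective (QuotientGroup.mk'_surjective C) _
  have hCle : C ≤ (pCore p (G ⧸ C)).comap (QuotientGroup.mk' C) := by
    intro c hc
    rw [Subgroup.mem_comap]
    have : QuotientGroup.mk' C c = 1 := (QuotientGroup.eq_one_iff c).2 hc
    rw [this]
    exact one_mem _
  have hrel : C.relIndex ((pCore p (G ⧸ C)).comap (QuotientGroup.mk' C)) = p ^ k := by
    have h1 := Subgroup.relIndex_comap (⊥ : Subgroup (G ⧸ C)) (QuotientGroup.mk' C)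
      ((pCore p (G ⧸ C)).comap (QuotientGroup.mk' C))
    rw [hmap, Subgroup.relIndex_bot_left, MonoidHom.comap_bot, QuotientGroup.ker_mk'] at h1
    rw [h1, hk]
  have hD := h _ (hPn.comap _) hCle ⟨k, hrel⟩
  rw [← hmap, hD]
  rw [Subgroup.map_eq_bot_iff, QuotientGroup.ker_mk']

end Cfsg.Agent.Helper19.SD
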