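import Mathlib
import Cfsg.Agent.Helper19.BO9

/-!
helper19: best offenders, part 10: operator groups.  Generic lemmas (diagonal homomorphism along an
orbit of pairwise commuting conjugates, fixed points in cosets under `q`-groups, trivial action on
small groups) and the behaviour of the components `E_B` under conjugation.
-/

set_option autoImplicit false
open Cfsg

namespace Cfsg.Agent.Helper19.OP

open scoped commutatorElement

theorem multiset_noncommProd_congr {β : Type*} [Monoid β] {s t : Multiset β} (h : s = t) (c) (c') :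
    s.noncommProd c = t.noncommProd c' := by
  subst h
  rfl

theorem noncommProd_equiv {ι β : Type*} [Fintype ι] [Monoid β] (σ : ι ≃ ι) (f : ι → β)
    (comm) (comm') :
    (Finset.univ : Finset ι).noncommProd (fun i => f (σ i)) comm' =
      (Finset.univ : Finset ι).noncommProd f comm := by
  unfold Finset.noncommProd
  apply multiset_noncommProd_congr
  have h1 : Multiset.map σ (Finset.univ : Finset ι).val = (Finset.univ : Finset ι).val :=
    Multiset.map_univ_val_equiv σ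
  calc Multiset.map (fun i => f (σ i)) (Finset.univ : Finset ι).val
      = Multiset.map f (Multiset.map σ (Finset.univ : Finset ι).val) := by
        rw [Multiset.map_map]
        rfl
    _ = Multiset.map f (Finset.univ : Finset ι).val := by rw [h1]

/-- the diagonal homomorphism along the orbit of `L` under `Y`, when distinct conjugates commute
and the stabilizer of `L` centralizes `L` -/
theorem exists_diag {G : Type*} [Group G] [Finite G] (Y L : Subgroup G)
    (h1 : ∀ y ∈ Y, LemL.cj y L = L ∨ ∀ a ∈ L, ∀ b ∈ LemL.cj y L, a * b = b * a)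
    (h2 : ∀ y ∈ Y, LemL.cj y L = L → ∀ a ∈ L, y * a = a * y) :
    ∃ N : L →* G,
      (∀ a : L, ∀ y ∈ Y, y * N a = N a * y) ∧
      (∀ a : L, ∃ r : G, N a = a * r ∧ ∀ b ∈ L, r * b = b * r) ∧
      (∀ M : Subgroup G, (∀ y ∈ Y, ∀ m ∈ M, y * m * y⁻¹ ∈ M) →
        ∀ a : L, (a : G) ∈ M → N a ∈ M) := by
  classical
  obtain ⟨ι, hι⟩ : ∃ ι : Type _, ι = {F : Subgroup G // ∃ y ∈ Y, F = LemL.cj y L} := ⟨_, rfl⟩
  subst hι
  haveI : Fintype {F : Subgroup G // ∃ y ∈ Y, F = LemL.cj y L} := Fintype.ofFinite _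
  have hrep : ∀ i : {F : Subgroup G // ∃ y ∈ Y, F = LemL.cj y L},
      ∃ y, y ∈ Y ∧ i.1 = LemL.cj y L := fun i => i.2
  choose rep hrepY hrepE using hrep
  obtain ⟨ϕ, hϕ⟩ : ∃ ϕ : {F : Subgroup G // ∃ y ∈ Y, F = LemL.cj y L} → (L →* G),
      ∀ i (a : L), ϕ i a = rep i * a * (rep i)⁻¹ :=
    ⟨fun i => (MulAut.conj (rep i)).toMonoidHom.comp L.subtype, fun i a => rfl⟩
  have hcomm : Pairwise fun i j : {F : Subgroup G // ∃ y ∈ Y, F = LemL.cj y L} =>
      ∀ x y : L, Commute (ϕ i x) (ϕ j y) := by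
    intro i j hij a b
    rw [hϕ, hϕ]
    have hz : (rep i)⁻¹ * rep j ∈ Y := mul_mem (inv_mem (hrepY i)) (hrepY j)
    have hne : LemL.cj ((rep i)⁻¹ * rep j) L ≠ L := by
      intro h
      apply hij
      apply Subtype.ext
      rw [hrepE i, hrepE j]
      have e1 : LemL.cj (rep j) L = LemL.cj (rep i) (LemL.cj ((rep i)⁻¹ * rep j) L) := by
        rw [LemL.cj_cj]
        congr 1
        group
      rw [e1, h]
    rcases h1 _ hz with h | h
    · exact absurd h hne
    · have h3 := h a a.2 (((rep i)⁻¹ * rep j) * b * ((rep i)⁻¹ * rep j)⁻¹)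
        (LemL.conj_mem_cj b.2)
      show rep i * a * (rep i)⁻¹ * (rep j * b * (rep j)⁻¹) =
        rep j * b * (rep j)⁻¹ * (rep i * a * (rep i)⁻¹)
      calc rep i * a * (rep i)⁻¹ * (rep j * b * (rep j)⁻¹)
          = rep i * ((a : G) * (((rep i)⁻¹ * rep j) * b * ((rep i)⁻¹ * rep j)⁻¹)) *
            (rep i)⁻¹ := by group
        _ = rep i * ((((rep i)⁻¹ * rep j) * b * ((rep i)⁻¹ * rep j)⁻¹) * (a : G)) *
            (rep i)⁻¹ := by rw [h3]
        _ = rep j * b * (rep j)⁻¹ * (rep i * a * (rep i)⁻¹) := by group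
  obtain ⟨N, hN⟩ : ∃ N : L →* G, ∀ a : L, N a = Finset.univ.noncommProd (fun i => ϕ i a)
      (fun i _ j _ hij => hcomm hij a a) :=
    ⟨(MonoidHom.noncommPiCoprod ϕ hcomm).comp (Pi.monoidHom (fun _ => MonoidHom.id L)),
      fun a => rfl⟩
  refine ⟨N, ?_, ?_, ?_⟩
  · intro a y hy
    have hσmem : ∀ z : G, z ∈ Y → ∀ i : {F : Subgroup G // ∃ y ∈ Y, F = LemL.cj y L},
        ∃ y' ∈ Y, LemL.cj z i.1 = LemL.cj y' L := by
      intro z hz i
      exact ⟨z * rep i, mul_mem hz (hrepY i), by rw [hrepE i, LemL.cj_cj]⟩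
    obtain ⟨σ, hσdef⟩ : ∃ σ : {F : Subgroup G // ∃ y ∈ Y, F = LemL.cj y L} ≃
        {F : Subgroup G // ∃ y ∈ Y, F = LemL.cj y L}, ∀ i, (σ i).1 = LemL.cj y i.1 :=
      ⟨{ toFun := fun i => ⟨LemL.cj y i.1, hσmem y hy i⟩
         invFun := fun i => ⟨LemL.cj y⁻¹ i.1, hσmem y⁻¹ (inv_mem hy) i⟩
         left_inv := fun i => Subtype.ext (LemL.cj_inv_cj y i.1)
         right_inv := fun i => Subtype.ext (LemL.cj_cj_inv y i.1) }, fun i => rfl⟩
    have hσ : ∀ i, y * ϕ i a * y⁻¹ = ϕ (σ i) a := by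
      intro i
      rw [hϕ, hϕ]
      have hz : (rep (σ i))⁻¹ * (y * rep i) ∈ Y :=
        mul_mem (inv_mem (hrepY _)) (mul_mem hy (hrepY i))
      have hcj : LemL.cj ((rep (σ i))⁻¹ * (y * rep i)) L = L := by
        have e1 : LemL.cj (rep (σ i)) L = LemL.cj (y * rep i) L := by
          rw [← hrepE (σ i), hσdef, hrepE i, LemL.cj_cj]
        rw [← LemL.cj_cj, ← e1, LemL.cj_inv_cj]
      have h3 := h2 _ hz hcj a a.2
      calc y * (rep i * a * (rep i)⁻¹) * y⁻¹
          = rep (σ i) * (((rep (σ i))⁻¹ * (y * rep i)) * (a : G)) * (rep i)⁻¹ * y⁻¹ := by group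
        _ = rep (σ i) * ((a : G) * ((rep (σ i))⁻¹ * (y * rep i))) * (rep i)⁻¹ * y⁻¹ := by
            rw [h3]
        _ = rep (σ i) * a * (rep (σ i))⁻¹ := by group
    have h4 : y * N a * y⁻¹ = N a := by
      rw [hN]
      have h5 := Finset.map_noncommProd Finset.univ (fun i => ϕ i a)
        (fun i _ j _ hij => hcomm hij a a) (MulAut.conj y)
      have h6 : y * Finset.univ.noncommProd (fun i => ϕ i a)
          (fun i _ j _ hij => hcomm hij a a) * y⁻¹ =
          MulAut.conj y (Finset.univ.noncommProd (fun i => ϕ i a)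
          (fun i _ j _ hij => hcomm hij a a)) := rfl
      rw [h6, h5]
      refine (Finset.noncommProd_congr rfl (fun i _ => ?_) _).trans
        (noncommProd_equiv σ (fun i => ϕ i a) (fun i _ j _ hij => hcomm hij a a) _)
      exact hσ i
    calc y * N a = (y * N a * y⁻¹) * y := by group
      _ = N a * y := by rw [h4]
  · intro a
    have h0 : ϕ ⟨L, 1, Y.one_mem, (LemL.cj_one L).symm⟩ a = a := by
      rw [hϕ]
      have hcj : LemL.cj (rep ⟨L, 1, Y.one_mem, (LemL.cj_one L).symm⟩) L = L :=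
        (hrepE ⟨L, 1, Y.one_mem, (LemL.cj_one L).symm⟩).symm
      have h3 := h2 _ (hrepY _) hcj a a.2
      rw [h3, mul_inv_cancel_right]
    have hmul := Finset.mul_noncommProd_erase Finset.univ
      (Finset.mem_univ (⟨L, 1, Y.one_mem, (LemL.cj_one L).symm⟩ :
        {F : Subgroup G // ∃ y ∈ Y, F = LemL.cj y L})) (fun i => ϕ i a)
      (fun i _ j _ hij => hcomm hij a a)
    rw [h0] at hmul
    refine ⟨_, ((hN a).trans hmul.symm), fun b hb => ?_⟩
    refine (Finset.noncommProd_commute _ _ _ b (fun i hi => ?_)).eq.symm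
    have hi0 : i ≠ ⟨L, 1, Y.one_mem, (LemL.cj_one L).symm⟩ := Finset.ne_of_mem_erase hi
    have hne : LemL.cj (rep i) L ≠ L := fun h => hi0 (Subtype.ext ((hrepE i).trans h))
    rcases h1 _ (hrepY i) with h | h
    · exact absurd h hne
    · rw [hϕ]
      exact h b hb _ (LemL.conj_mem_cj a.2)
  · intro M hM a ha
    rw [hN]
    apply Subgroup.noncommProd_mem
    intro i _
    rw [hϕ]
    exact hM _ (hrepY i) _ ha

/-- a `q`-group of automorphisms fixing a coset of an invariant subgroup of order prime to `q`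
fixes an element of the coset -/
theorem exists_fixed_in_coset {K Y : Type*} [Group K] [Finite K] [Group Y] {q : ℕ} [Fact q.Prime]
    (act : Y →* MulAut K) (hY : IsPGroup q Y) (C : Subgroup K) (hq : ¬ q ∣ Nat.card C)
    (hC : ∀ y, ∀ c ∈ C, act y c ∈ C) (k : K) (hk : ∀ y, k⁻¹ * act y k ∈ C) :
    ∃ k', k⁻¹ * k' ∈ C ∧ ∀ y, act y k' = k' := by
  letI : MulAction Y {k' : K // k⁻¹ * k' ∈ C} :=
    { smul := fun y x => ⟨act y x.1, by
        have e : k⁻¹ * act y x.1 = (k⁻¹ * act y k) * act y (k⁻¹ * x.1) := by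
          rw [map_mul, map_inv]
          group
        rw [e]
        exact mul_mem (hk y) (hC y _ x.2)⟩
      one_smul := fun x => Subtype.ext (by
        show act 1 x.1 = x.1
        rw [map_one]
        rfl)
      mul_smul := fun y z x => Subtype.ext (by
        show act (y * z) x.1 = act y (act z x.1)
        rw [map_mul]
        rfl) }
  have hcard : Nat.card {k' : K // k⁻¹ * k' ∈ C} = Nat.card C := by
    apply Nat.card_congr
    exact
      { toFun := fun x => ⟨k⁻¹ * x.1, x.2⟩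
        invFun := fun c => ⟨k * c.1, by rw [inv_mul_cancel_left]; exact c.2⟩
        left_inv := fun x => Subtype.ext (by simp)
        right_inv := fun c => Subtype.ext (by simp) }
  obtain ⟨x, hx⟩ := hY.nonempty_fixed_point_of_prime_not_dvd_card {k' : K // k⁻¹ * k' ∈ C}
    (by rw [hcard]; exact hq)
  refine ⟨x.1, x.2, fun y => ?_⟩
  exact congrArg Subtype.val (MulAction.mem_fixedPoints.1 hx y)

/-- an element of `q`-power order normalizing `W` centralizes it, if `q` divides no difference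
`|W| - |F|` for proper subgroups `F` -/
theorem centralizes_of_card {G : Type*} [Group G] [Finite G] {q : ℕ} [Fact q.Prime]
    (W : Subgroup G) (x : G) (hx : x ∈ Subgroup.normalizer (W : Set G)) (n : ℕ)
    (hxq : x ^ q ^ n = 1)
    (hcard : ∀ F : Subgroup G, F ≤ W → F ≠ W → ¬ q ∣ Nat.card W - Nat.card F) :
    ∀ w ∈ W, x * w = w * x := by
  have hA : IsPGroup q (Subgroup.zpowers x) := by
    rintro ⟨g, hg⟩
    obtain ⟨m, rfl⟩ := Subgroup.mem_zpowers_iff.1 hg
    refine ⟨n, Subtype.ext ?_⟩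
    show (x ^ m) ^ q ^ n = 1
    rw [← zpow_natCast, ← zpow_mul, mul_comm, zpow_mul, zpow_natCast, hxq, one_zpow]
  have hAN : Subgroup.zpowers x ≤ Subgroup.normalizer (W : Set G) := Subgroup.zpowers_le.2 hx
  letI : MulAction (Subgroup.zpowers x) W :=
    { smul := fun a w => ⟨a.1 * w.1 * a.1⁻¹, (Subgroup.mem_normalizer_iff.1 (hAN a.2) w.1).1 w.2⟩
      one_smul := fun w => Subtype.ext (by
        show (1 : G) * w.1 * (1 : G)⁻¹ = w.1
        group)
      mul_smul := fun a b w => Subtype.ext (by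
        show (a.1 * b.1) * w.1 * (a.1 * b.1)⁻¹ = a.1 * (b.1 * w.1 * b.1⁻¹) * a.1⁻¹
        group) }
  have hsmul : ∀ (a : Subgroup.zpowers x) (w : W), ((a • w : W) : G) = a.1 * w.1 * a.1⁻¹ :=
    fun a w => rfl
  have hmod := hA.card_modEq_card_fixedPoints W
  have hF : Nat.card (MulAction.fixedPoints (Subgroup.zpowers x) W) =
      Nat.card ↥(W ⊓ Subgroup.centralizer ({x} : Set G)) := by
    apply Nat.card_congr
    exact
      { toFun := fun w => ⟨w.1.1, Subgroup.mem_inf.2 ⟨w.1.2, by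
          rw [Subgroup.mem_centralizer_iff]
          intro h hh
          rw [Set.mem_singleton_iff] at hh
          subst hh
          have h1 := congrArg Subtype.val
            (MulAction.mem_fixedPoints.1 w.2 ⟨h, Subgroup.mem_zpowers h⟩)
          rw [hsmul] at h1
          have e : h * w.1.1 * h⁻¹ = w.1.1 := h1
          calc h * w.1.1 = (h * w.1.1 * h⁻¹) * h := by group
            _ = w.1.1 * h := by rw [e]⟩⟩
        invFun := fun f => ⟨⟨f.1, (Subgroup.mem_inf.1 f.2).1⟩, by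
          rw [MulAction.mem_fixedPoints]
          rintro ⟨a, ha⟩
          apply Subtype.ext
          rw [hsmul]
          show a * f.1 * a⁻¹ = f.1
          obtain ⟨m, rfl⟩ := Subgroup.mem_zpowers_iff.1 ha
          have hc : Commute x f.1 :=
            Subgroup.mem_centralizer_iff.1 (Subgroup.mem_inf.1 f.2).2 x rfl
          have h1 := (hc.zpow_left m).eq
          rw [h1, mul_inv_cancel_right]⟩
        left_inv := fun w => rfl
        right_inv := fun f => rfl }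
  by_contra hcon
  have hFW : W ⊓ Subgroup.centralizer ({x} : Set G) ≠ W := by
    intro h
    apply hcon
    intro w hw
    have hw' : w ∈ W ⊓ Subgroup.centralizer ({x} : Set G) := by
      rw [h]
      exact hw
    exact Subgroup.mem_centralizer_iff.1 (Subgroup.mem_inf.1 hw').2 x rfl
  apply hcard _ inf_le_left hFW
  rw [hF] at hmod
  exact (Nat.modEq_iff_dvd' (Subgroup.card_le_of_le inf_le_left)).1 hmod.symm

theorem centralizes_of_card_sq {G : Type*} [Group G] [Finite G] {p q : ℕ} [Fact q.Prime]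
    (hp : p = 2 ∨ p = 3) (hq2 : q ≠ 2) (hq3 : q ≠ 3) (W : Subgroup G)
    (hW : Nat.card W = p ^ 2) (x : G) (hx : x ∈ Subgroup.normalizer (W : Set G)) (n : ℕ)
    (hxq : x ^ q ^ n = 1) : ∀ w ∈ W, x * w = w * x := by
  apply centralizes_of_card W x hx n hxq
  intro F hFW hne hdvd
  have hqp := (Fact.out : q.Prime)
  have hFd : Nat.card F ∣ p ^ 2 := hW ▸ Subgroup.card_dvd_of_le hFW
  have hFlt : Nat.card F ≠ p ^ 2 := by
    intro h
    exact hne (Subgroup.eq_of_le_of_card_ge hFW (by rw [hW, h]))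
  rw [hW] at hdvd
  rcases hp with rfl | rfl
  · obtain ⟨j, hj, hc⟩ := (Nat.dvd_prime_pow Nat.prime_two).1 hFd
    rw [hc] at hdvd hFlt
    interval_cases j
    · have h3 : q ∣ 3 := by simpa using hdvd
      exact hq3 ((Nat.prime_dvd_prime_iff_eq hqp Nat.prime_three).1 h3)
    · have h2 : q ∣ 2 := by simpa using hdvd
      exact hq2 ((Nat.prime_dvd_prime_iff_eq hqp Nat.prime_two).1 h2)
    · exact hFlt rfl
  · obtain ⟨j, hj, hc⟩ := (Nat.dvd_prime_pow Nat.prime_three).1 hFd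
    rw [hc] at hdvd hFlt
    interval_cases j
    · have h8 : q ∣ 2 ^ 3 := by simpa using hdvd
      exact hq2 ((Nat.prime_dvd_prime_iff_eq hqp Nat.prime_two).1 (hqp.dvd_of_dvd_pow h8))
    · have h6 : q ∣ 2 * 3 := by simpa using hdvd
      rcases (Nat.Prime.dvd_mul hqp).1 h6 with h | h
      · exact hq2 ((Nat.prime_dvd_prime_iff_eq hqp Nat.prime_two).1 h)
      · exact hq3 ((Nat.prime_dvd_prime_iff_eq hqp Nat.prime_three).1 h)
    · exact hFlt rfl

end Cfsg.Agent.Helper19.OP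

namespace Cfsg.Agent.Helper19.BO

open scoped commutatorElement

variable {G : Type*} [Group G] [Finite G] {p : ℕ} [Fact p.Prime] {V H : Subgroup G}

theorem le_Qc {Q : Subgroup G} (hQH : Q ≤ H) (hn : H ≤ Subgroup.normalizer (Q : Set G))
    (hc : (Nat.card Q).Coprime p) : Q ≤ Qc p H := by
  have hnorm : (Q.subgroupOf H).Normal := Subgroup.normal_subgroupOf_of_le_normalizer hn
  have hcard : (Nat.card (Q.subgroupOf H)).Coprime p := by
    rw [Nat.card_congr (Subgroup.subgroupOfEquivOfLe hQH).toEquiv]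
    exact hc
  have h1 : Q.subgroupOf H ≤ pPrimeCore p ↥H := Cfsg.Agent.Helper23.le_pPrimeCore hnorm hcard
  intro x hx
  exact ⟨⟨x, hQH hx⟩, h1 (Subgroup.mem_subgroupOf.2 hx), rfl⟩

theorem Qc_cj {g : G} (hg : g ∈ Subgroup.normalizer (H : Set G)) :
    LemL.cj g (Qc p H) = Qc p H := by
  have hH : LemL.cj g H = H := LemL.cj_eq_of_mem_normalizer hg
  apply Subgroup.eq_of_le_of_card_ge
  · apply le_Qc
    · have h0 := LemL.cj_mono (g := g) (Qc_le p H)
      rwa [hH] at h0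
    · have h1 := LemL.cj_normalizer (g := g) (Qc_normal p H)
      rwa [hH] at h1
    · rw [LemL.card_cj]
      exact Qc_coprime p H
  · rw [LemL.card_cj]

theorem bo_cj {A : Subgroup G} (hA : Cfsg.IsBestOffenderOn p V A) {g : G}
    (hg : g ∈ Subgroup.normalizer (V : Set G)) : Cfsg.IsBestOffenderOn p V (LemL.cj g A) := by
  obtain ⟨h1, h2, h3⟩ := hA
  have hcard : ∀ B : Subgroup G,
      Nat.card ↥(V ⊓ Subgroup.centralizer ((LemL.cj g B : Subgroup G) : Set G)) =
        Nat.card ↥(V ⊓ Subgroup.centralizer (B : Set G)) :=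
    fun B => card_cent_conj hg
  have hCn : ∀ c ∈ Subgroup.centralizer (V : Set G),
      g * c * g⁻¹ ∈ Subgroup.centralizer (V : Set G) := by
    intro c hc
    exact (Subgroup.mem_normalizer_iff.1
      (Cfsg.Agent.Helper23.le_normalizer_centralizer (le_refl _) hg) c).1 hc
  refine ⟨?_, ?_, ?_⟩
  · intro B hB
    have hB' : LemL.cj g⁻¹ B ≤ A := by
      have h4 := LemL.cj_mono (g := g⁻¹) hB
      rwa [LemL.cj_inv_cj] at h4
    have h5 := h1 _ hB'
    have e : B = LemL.cj g (LemL.cj g⁻¹ B) := (LemL.cj_cj_inv g B).symm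
    rw [hcard A, LemL.card_cj g A, e, hcard, LemL.card_cj]
    exact h5
  · rw [Subgroup.commutator_le]
    intro a ha b hb
    rw [LemL.mem_cj] at ha hb
    have h4 := h2 (Subgroup.commutator_mem_commutator ha hb)
    have e : ⁅a, b⁆ = g * ⁅g⁻¹ * a * g, g⁻¹ * b * g⁆ * g⁻¹ := by
      simp only [commutatorElement_def]
      group
    rw [e]
    exact hCn _ h4
  · intro a ha
    rw [LemL.mem_cj] at ha
    have h4 := h3 _ ha
    have e0 : g⁻¹ * a * g = g⁻¹ * a * (g⁻¹)⁻¹ := by rw [inv_inv]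
    rw [e0, conj_pow] at h4
    have e : a ^ p = g * (g⁻¹ * a ^ p * (g⁻¹)⁻¹) * g⁻¹ := by group
    rw [e]
    exact hCn _ h4

theorem E_cj {g : G} (hg : g ∈ Subgroup.normalizer (H : Set G)) (B : Subgroup G) :
    LemL.cj g (⁅Qc p H, B⁆ ⊔ B) = ⁅Qc p H, LemL.cj g B⁆ ⊔ LemL.cj g B := by
  have h1 : LemL.cj g (⁅Qc p H, B⁆ ⊔ B) =
      ⁅LemL.cj g (Qc p H), LemL.cj g B⁆ ⊔ LemL.cj g B := by
    unfold LemL.cj
    rw [Subgroup.map_sup, Subgroup.map_commutator]
  rw [h1, Qc_cj hg]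

theorem comm_cj {g : G} (hg : g ∈ Subgroup.normalizer (V : Set G)) (E : Subgroup G) :
    LemL.cj g ⁅V, E⁆ = ⁅V, LemL.cj g E⁆ := by
  have h1 : LemL.cj g ⁅V, E⁆ = ⁅LemL.cj g V, LemL.cj g E⁆ := by
    unfold LemL.cj
    rw [Subgroup.map_commutator]
  rw [h1, LemL.cj_eq_of_mem_normalizer hg]

theorem Qc_le_normalizer_E (H A : Subgroup G) :
    Qc p H ≤ Subgroup.normalizer ((⁅Qc p H, A⁆ ⊔ A : Subgroup G) : Set G) := by
  intro x hx
  have hT : x ∈ Subgroup.normalizer ((⁅Qc p H, A⁆ : Subgroup G) : Set G) :=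
    comm_normal_left _ _ hx
  apply LemL.mem_normalizer_of_cj_eq
  apply Subgroup.eq_of_le_of_card_ge
  · have h1 : LemL.cj x (⁅Qc p H, A⁆ ⊔ A) = LemL.cj x ⁅Qc p H, A⁆ ⊔ LemL.cj x A := by
      unfold LemL.cj
      rw [Subgroup.map_sup]
    rw [h1, LemL.cj_eq_of_mem_normalizer hT]
    refine sup_le le_sup_left ?_
    intro y hy
    rw [LemL.mem_cj] at hy
    have e : y = ⁅x, x⁻¹ * y * x⁆ * (x⁻¹ * y * x) := by
      rw [commutatorElement_def]
      group
    rw [e]
    exact mul_mem (Subgroup.mem_sup_left (Subgroup.commutator_mem_commutator hx hy))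
      (Subgroup.mem_sup_right hy)
  · rw [LemL.card_cj]

theorem comp_dichotomy (S : Setup p V H) {A B : Subgroup G} (hAH : A ≤ H) (hBH : B ≤ H)
    (hA : Cfsg.IsBestOffenderOn p V A) (hB : Cfsg.IsBestOffenderOn p V B)
    (hcA : Nat.card A = p) (hcB : Nat.card B = p) :
    ⁅Qc p H, B⁆ ⊔ B = ⁅Qc p H, A⁆ ⊔ A ∨
    (⁅Qc p H, B⁆ ⊔ B ≤ Subgroup.centralizer ((⁅V, ⁅Qc p H, A⁆ ⊔ A⁆ : Subgroup G) : Set G) ∧
     ⁅Qc p H, A⁆ ⊔ A ≤ Subgroup.centralizer ((⁅V, ⁅Qc p H, B⁆ ⊔ B⁆ : Subgroup G) : Set G) ∧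
     ⁅⁅Qc p H, A⁆ ⊔ A, ⁅Qc p H, B⁆ ⊔ B⁆ = ⊥) := by
  rcases pair S hAH hBH hA hB hcA hcB with h | h
  · left
    have hle : ⁅Qc p H, B⁆ ⊔ B ≤ ⁅Qc p H, A⁆ ⊔ A := by
      refine sup_le ?_ h
      rw [Subgroup.commutator_le]
      intro x hx b hb
      have hbE := h hb
      have h1 := (Subgroup.mem_normalizer_iff.1 (Qc_le_normalizer_E H A hx) b).1 hbE
      have e1 : ⁅x, b⁆ = (x * b * x⁻¹) * b⁻¹ := by rw [commutatorElement_def]
      rw [e1]
      exact mul_mem h1 (inv_mem hbE)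
    obtain ⟨φA⟩ := (st S hAH hA hcA).iso
    obtain ⟨φB⟩ := (st S hBH hB hcB).iso
    have hc : Nat.card ↥(⁅Qc p H, A⁆ ⊔ A) = Nat.card ↥(⁅Qc p H, B⁆ ⊔ B) :=
      Nat.card_congr (φA.trans φB.symm).toEquiv
    exact Subgroup.eq_of_le_of_card_ge hle hc.le
  · exact Or.inr h

/-- an operator of `q`-power order (`q ≠ 2, 3`) normalizing a component centralizes it -/
theorem stab_centralizes (S : Setup p V H) {B : Subgroup G} (hBH : B ≤ H)
    (hB : Cfsg.IsBestOffenderOn p V B) (hcB : Nat.card B = p) {q : ℕ} [Fact q.Prime]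
    (hq2 : q ≠ 2) (hq3 : q ≠ 3) {x : G} (hxV : x ∈ Subgroup.normalizer (V : Set G))
    (hxE : x ∈ Subgroup.normalizer ((⁅Qc p H, B⁆ ⊔ B : Subgroup G) : Set G)) (n : ℕ)
    (hxq : x ^ q ^ n = 1) :
    (∀ w ∈ ⁅V, ⁅Qc p H, B⁆ ⊔ B⁆, x * w = w * x) ∧ (∀ e ∈ ⁅Qc p H, B⁆ ⊔ B, x * e = e * x) := by
  have ST := st S hBH hB hcB
  have hfaith := ST.faith
  have hcardW := ST.cardW
  have hEH : ⁅Qc p H, B⁆ ⊔ B ≤ H := E_le hBH
  obtain ⟨E, hE⟩ : ∃ E, E = ⁅Qc p H, B⁆ ⊔ B := ⟨_, rfl⟩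
  rw [← hE] at hfaith hcardW hEH hxE
  rw [← hE]
  have hEV : E ≤ Subgroup.normalizer (V : Set G) := hEH.trans S.hHV
  have hEW : E ≤ Subgroup.normalizer ((⁅V, E⁆ : Subgroup G) : Set G) :=
    LemL.le_normalizer_comm hEV
  have hxW : x ∈ Subgroup.normalizer ((⁅V, E⁆ : Subgroup G) : Set G) :=
    LemL.normalizer_commutator hxV hxE
  have hW := OP.centralizes_of_card_sq ST.p23 hq2 hq3 _ hcardW x hxW n hxq
  refine ⟨hW, ?_⟩
  intro e he
  have hc : x * e * x⁻¹ * e⁻¹ ∈ E ⊓ Subgroup.centralizer ((⁅V, E⁆ : Subgroup G) : Set G) := by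
    refine Subgroup.mem_inf.2 ⟨mul_mem ((Subgroup.mem_normalizer_iff.1 hxE e).1 he) (inv_mem he),
      ?_⟩
    rw [Subgroup.mem_centralizer_iff]
    intro w hw
    obtain ⟨w₁, hw₁⟩ : ∃ w₁, w₁ = e⁻¹ * w * e := ⟨_, rfl⟩
    have hw₁W : w₁ ∈ ⁅V, E⁆ := by
      have h1 := (Subgroup.mem_normalizer_iff.1 (hEW (inv_mem he)) w).1 hw
      rw [inv_inv] at h1
      rw [hw₁]
      exact h1
    have hx1 := hW w₁ hw₁W
    have hx2 := hW w hw
    have hx1' : x⁻¹ * w₁ = w₁ * x⁻¹ := by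
      calc x⁻¹ * w₁ = x⁻¹ * (w₁ * x) * x⁻¹ := by group
        _ = x⁻¹ * (x * w₁) * x⁻¹ := by rw [hx1]
        _ = w₁ * x⁻¹ := by group
    calc w * (x * e * x⁻¹ * e⁻¹) = (w * x) * e * x⁻¹ * e⁻¹ := by group
      _ = (x * w) * e * x⁻¹ * e⁻¹ := by rw [hx2]
      _ = x * e * (e⁻¹ * w * e) * x⁻¹ * e⁻¹ := by group
      _ = x * e * (w₁ * x⁻¹) * e⁻¹ := by rw [hw₁]; group
      _ = x * e * (x⁻¹ * w₁) * e⁻¹ := by rw [hx1']
      _ = x * e * x⁻¹ * e⁻¹ * w := by rw [hw₁]; group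
  rw [hfaith, Subgroup.mem_bot] at hc
  calc x * e = (x * e * x⁻¹ * e⁻¹) * e * x := by group
    _ = e * x := by rw [hc, one_mul]

end Cfsg.Agent.Helper19.BO
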