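import Mathlib
import Cfsg.Agent.Helper19.BO10

/-!
helper19: best offenders, part 11: the holomorph model `V ⋊ Aut(V)` of the action of a group `K` on
a normal elementary abelian subgroup `V`, which also carries the action of outer operators.
-/

set_option autoImplicit false
open Cfsg

namespace Cfsg.Agent.Helper19.HOL

open scoped commutatorElement

section general

/-- if every normal subgroup with `p`-power index over the kernel is the kernel, then the image
has trivial `p`-core -/
theorem pCore_eq_bot_of_surj {K M : Type*} [Group K] [Group M] [Finite K] {p : ℕ} [Fact p.Prime]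
    (f : K →* M) (hf : Function.Surjective f)
    (h : ∀ D : Subgroup K, D.Normal → f.ker ≤ D → (∃ k : ℕ, f.ker.relIndex D = p ^ k) →
      D = f.ker) :
    pCore p M = ⊥ := by
  haveI : Finite M := Finite.of_surjective f hf
  have hPn : (pCore p M).Normal := Cfsg.Agent.Helper23.pCore_normal_fin p
  have hPp : IsPGroup p (pCore p M) := Cfsg.Agent.Helper23.pCore_isPGroup p
  obtain ⟨k, hk⟩ := IsPGroup.iff_card.1 hPp
  have hmap : ((pCore p M).comap f).map f = pCore p M :=
    Subgroup.map_comap_eq_self_of_surjective hf _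
  have hCle : f.ker ≤ (pCore p M).comap f := by
    intro c hc
    rw [Subgroup.mem_comap, MonoidHom.mem_ker.1 hc]
    exact one_mem _
  have hrel : f.ker.relIndex ((pCore p M).comap f) = p ^ k := by
    have h1 := Subgroup.relIndex_comap (⊥ : Subgroup M) f ((pCore p M).comap f)
    rw [hmap, Subgroup.relIndex_bot_left, MonoidHom.comap_bot] at h1
    rw [h1, hk]
  have hD := h _ (hPn.comap _) hCle ⟨k, hrel⟩
  rw [← hmap, hD]
  exact (Subgroup.map_eq_bot_iff _).2 le_rfl

theorem three_dvd_card_SL2_two :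
    3 ∣ Nat.card (Matrix.SpecialLinearGroup (Fin 2) (ZMod 2)) := by
  have hdet : (!![0, 1; 1, 1] : Matrix (Fin 2) (Fin 2) (ZMod 2)).det = 1 := by
    rw [Matrix.det_fin_two]
    decide
  obtain ⟨g, hg⟩ : ∃ g : Matrix.SpecialLinearGroup (Fin 2) (ZMod 2),
      (g : Matrix (Fin 2) (Fin 2) (ZMod 2)) = !![0, 1; 1, 1] := ⟨⟨_, hdet⟩, rfl⟩
  have h : orderOf g = 3 := by
    apply orderOf_eq_prime
    · have h3 : ((g ^ 3 : Matrix.SpecialLinearGroup (Fin 2) (ZMod 2)) :
          Matrix (Fin 2) (Fin 2) (ZMod 2)) =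
          ((1 : Matrix.SpecialLinearGroup (Fin 2) (ZMod 2)) : Matrix (Fin 2) (Fin 2) (ZMod 2)) := by
        rw [Matrix.SpecialLinearGroup.coe_pow, Matrix.SpecialLinearGroup.coe_one, hg]
        decide
      exact Subtype.ext h3
    · intro h1
      have h2 : (g : Matrix (Fin 2) (Fin 2) (ZMod 2)) =
          ((1 : Matrix.SpecialLinearGroup (Fin 2) (ZMod 2)) : Matrix (Fin 2) (Fin 2) (ZMod 2)) := by
        rw [h1]
      rw [hg, Matrix.SpecialLinearGroup.coe_one] at h2
      revert h2
      decide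
  rw [← h]
  exact orderOf_dvd_natCard _

theorem two_dvd_card_SL2_three :
    2 ∣ Nat.card (Matrix.SpecialLinearGroup (Fin 2) (ZMod 3)) := by
  have hdet : (!![2, 0; 0, 2] : Matrix (Fin 2) (Fin 2) (ZMod 3)).det = 1 := by
    rw [Matrix.det_fin_two]
    decide
  obtain ⟨g, hg⟩ : ∃ g : Matrix.SpecialLinearGroup (Fin 2) (ZMod 3),
      (g : Matrix (Fin 2) (Fin 2) (ZMod 3)) = !![2, 0; 0, 2] := ⟨⟨_, hdet⟩, rfl⟩
  have h : orderOf g = 2 := by
    apply orderOf_eq_prime
    · have h3 : ((g ^ 2 : Matrix.SpecialLinearGroup (Fin 2) (ZMod 3)) :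
          Matrix (Fin 2) (Fin 2) (ZMod 3)) =
          ((1 : Matrix.SpecialLinearGroup (Fin 2) (ZMod 3)) : Matrix (Fin 2) (Fin 2) (ZMod 3)) := by
        rw [Matrix.SpecialLinearGroup.coe_pow, Matrix.SpecialLinearGroup.coe_one, hg]
        decide
      exact Subtype.ext h3
    · intro h1
      have h2 : (g : Matrix (Fin 2) (Fin 2) (ZMod 3)) =
          ((1 : Matrix.SpecialLinearGroup (Fin 2) (ZMod 3)) : Matrix (Fin 2) (Fin 2) (ZMod 3)) := by
        rw [h1]
      rw [hg, Matrix.SpecialLinearGroup.coe_one] at h2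
      revert h2
      decide
  have h4 := orderOf_dvd_natCard g
  rwa [h] at h4

/-- `⟨Ω₁(Z(S)) : S ∈ Syl_p(K)⟩` is characteristic -/
theorem omega_sup_char {K : Type*} [Group K] [Finite K] {p : ℕ} [Fact p.Prime] (α : MulAut K) :
    ∀ v ∈ (⨆ S : Sylow p K, omegaOne p ((S : Subgroup K) ⊓
      Subgroup.centralizer ((S : Subgroup K) : Set K)) : Subgroup K),
      α v ∈ (⨆ S : Sylow p K, omegaOne p ((S : Subgroup K) ⊓
        Subgroup.centralizer ((S : Subgroup K) : Set K)) : Subgroup K) := by
  have hle : (⨆ S : Sylow p K, omegaOne p ((S : Subgroup K) ⊓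
      Subgroup.centralizer ((S : Subgroup K) : Set K)) : Subgroup K) ≤
      (⨆ S : Sylow p K, omegaOne p ((S : Subgroup K) ⊓
        Subgroup.centralizer ((S : Subgroup K) : Set K)) : Subgroup K).comap α.toMonoidHom := by
    refine iSup_le fun S => ?_
    unfold omegaOne
    rw [Subgroup.closure_le]
    rintro x ⟨hx, hxp⟩
    rw [SetLike.mem_coe, Subgroup.mem_comap]
    obtain ⟨hxS, hxC⟩ := Subgroup.mem_inf.1 hx
    have hsurj : Function.Surjective α.toMonoidHom := α.surjective
    have hmem : α x ∈ Subgroup.closure {z : K |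
        z ∈ ((S.mapSurjective hsurj : Sylow p K) : Subgroup K) ⊓
          Subgroup.centralizer (((S.mapSurjective hsurj : Sylow p K) : Subgroup K) : Set K) ∧
          z ^ p = 1} := by
      apply Subgroup.subset_closure
      refine ⟨Subgroup.mem_inf.2 ⟨⟨x, hxS, rfl⟩, ?_⟩, ?_⟩
      · rw [Subgroup.mem_centralizer_iff]
        rintro _ ⟨s, hs, rfl⟩
        have h1 := Subgroup.mem_centralizer_iff.1 hxC s hs
        show α s * α x = α x * α s
        rw [← map_mul, ← map_mul, h1]
      · rw [← map_pow, hxp, map_one]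
    exact le_iSup (fun S : Sylow p K => Subgroup.closure {z : K |
        z ∈ (S : Subgroup K) ⊓ Subgroup.centralizer ((S : Subgroup K) : Set K) ∧ z ^ p = 1})
      (S.mapSurjective hsurj) hmem
  intro v hv
  exact hle hv

end general

section model

variable {K : Type*} [Group K] (V : Subgroup K) [V.Normal]

/-- the holomorph of `V` -/
abbrev Hol : Type _ := ↥V ⋊[MonoidHom.id (MulAut ↥V)] MulAut ↥V

theorem finite_Hol [Finite K] : Finite (Hol V) :=
  Finite.of_equiv _ SemidirectProduct.equivProd.symm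

/-- the map `K → V ⋊ Aut(V)` -/
noncomputable def psi : K →* Hol V :=
  (SemidirectProduct.inr : MulAut ↥V →* Hol V).comp (MulAut.conjNormal : K →* MulAut V)

/-- the copy of `V` -/
noncomputable def V' : Subgroup (Hol V) := (SemidirectProduct.inl : V →* Hol V).range

/-- the image of `K` -/
noncomputable def H' : Subgroup (Hol V) := (psi V).range

theorem psi_conj (g : K) (v : V) :
    psi V g * SemidirectProduct.inl v * (psi V g)⁻¹ =
      SemidirectProduct.inl ((MulAut.conjNormal g : MulAut V) v) := by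
  show SemidirectProduct.inr (MulAut.conjNormal g) * SemidirectProduct.inl v *
      (SemidirectProduct.inr (MulAut.conjNormal g))⁻¹ = _
  rw [← map_inv, ← SemidirectProduct.inl_aut]
  rfl

theorem psi_ker : (psi V).ker = Subgroup.centralizer (V : Set K) := by
  ext g
  rw [MonoidHom.mem_ker]
  constructor
  · intro h
    have h1 : (MulAut.conjNormal g : MulAut V) = 1 := by
      apply SemidirectProduct.inr_injective (φ := MonoidHom.id (MulAut ↥V)) (N := ↥V)
      rw [map_one]
      exact h
    rw [Subgroup.mem_centralizer_iff]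
    intro v hv
    have h2 : (((MulAut.conjNormal g : MulAut V) ⟨v, hv⟩ : V) : K) = v := by rw [h1]; rfl
    rw [MulAut.conjNormal_apply] at h2
    have h3 : g * v * g⁻¹ = v := h2
    calc v * g = (g * v * g⁻¹) * g := by rw [h3]
      _ = g * v := by group
  · intro h
    show SemidirectProduct.inr (MulAut.conjNormal g) = 1
    rw [SD.conjNormal_eq_one V h, map_one]

theorem V'_normal : (V' V).Normal := by
  unfold V'
  rw [SemidirectProduct.range_inl_eq_ker_rightHom]
  infer_instance

theorem V'_elemab {p : ℕ} (hV : IsElementaryAbelian p V) : IsElementaryAbelian p (V' V) := by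
  rw [Cfsg.Agent.Helper3.isElementaryAbelian_iff] at hV ⊢
  refine ⟨?_, ?_⟩
  · rintro _ ⟨a, rfl⟩ _ ⟨b, rfl⟩
    rw [← map_mul, ← map_mul]
    congr 1
    exact Subtype.ext (hV.1 a a.2 b b.2)
  · rintro _ ⟨a, rfl⟩
    rw [← map_pow]
    have h1 : a ^ p = 1 := Subtype.ext (by simpa using hV.2 a a.2)
    rw [h1, map_one]

theorem faithful' : H' V ⊓ Subgroup.centralizer (V' V : Set (Hol V)) = ⊥ := by
  rw [eq_bot_iff]
  intro x hx
  obtain ⟨⟨g, rfl⟩, hc⟩ := Subgroup.mem_inf.1 hx
  rw [Subgroup.mem_bot, ← MonoidHom.mem_ker, psi_ker, Subgroup.mem_centralizer_iff]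
  intro v hv
  have h1 := Subgroup.mem_centralizer_iff.1 hc (SemidirectProduct.inl ⟨v, hv⟩) ⟨⟨v, hv⟩, rfl⟩
  have h2 := psi_conj V g ⟨v, hv⟩
  rw [← h1, mul_inv_cancel_right] at h2
  have h3 := congrArg Subtype.val (SemidirectProduct.inl_injective h2)
  rw [MulAut.conjNormal_apply] at h3
  have h4 : v = g * v * g⁻¹ := h3
  calc v * g = (g * v * g⁻¹) * g := by rw [← h4]
    _ = g * v := by group

theorem cent_map_eq (B : Subgroup K) :
    V' V ⊓ Subgroup.centralizer ((B.map (psi V) : Subgroup (Hol V)) : Set (Hol V)) =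
      ((V ⊓ Subgroup.centralizer (B : Set K)).subgroupOf V).map SemidirectProduct.inl := by
  ext x
  rw [Subgroup.mem_inf, Subgroup.mem_map]
  constructor
  · rintro ⟨⟨v, rfl⟩, hc⟩
    refine ⟨v, ?_, rfl⟩
    rw [Subgroup.mem_subgroupOf, Subgroup.mem_inf]
    refine ⟨v.2, ?_⟩
    rw [Subgroup.mem_centralizer_iff]
    intro b hb
    have h1 := Subgroup.mem_centralizer_iff.1 hc (psi V b) ⟨b, hb, rfl⟩
    have h2 := psi_conj V b v
    rw [h1, mul_inv_cancel_right] at h2
    have h3 := congrArg Subtype.val (SemidirectProduct.inl_injective h2)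
    rw [MulAut.conjNormal_apply] at h3
    calc b * (v : K) = b * v * b⁻¹ * b := by group
      _ = v * b := by rw [← h3]
  · rintro ⟨v, hv, rfl⟩
    rw [Subgroup.mem_subgroupOf, Subgroup.mem_inf] at hv
    refine ⟨⟨v, rfl⟩, ?_⟩
    rw [Subgroup.mem_centralizer_iff]
    rintro _ ⟨b, hb, rfl⟩
    have h1 := Subgroup.mem_centralizer_iff.1 hv.2 b hb
    have h2 := psi_conj V b v
    have e : (MulAut.conjNormal b : MulAut V) v = v := by
      apply Subtype.ext
      rw [MulAut.conjNormal_apply, h1, mul_inv_cancel_right]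
    rw [e] at h2
    calc psi V b * SemidirectProduct.inl v
        = psi V b * SemidirectProduct.inl v * (psi V b)⁻¹ * psi V b := by group
      _ = SemidirectProduct.inl v * psi V b := by rw [h2]

theorem card_cent_map [Finite K] (B : Subgroup K) :
    Nat.card ↥(V' V ⊓ Subgroup.centralizer ((B.map (psi V) : Subgroup (Hol V)) : Set (Hol V))) =
      Nat.card ↥(V ⊓ Subgroup.centralizer (B : Set K)) := by
  rw [cent_map_eq, Subgroup.card_map_of_injective SemidirectProduct.inl_injective]
  exact Nat.card_congr (Subgroup.subgroupOfEquivOfLe inf_le_left).toEquiv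

theorem map_le_H' (A : Subgroup K) : A.map (psi V) ≤ H' V := by
  rintro _ ⟨a, _, rfl⟩
  exact ⟨a, rfl⟩

theorem bo_transfer [Finite K] {p : ℕ} {A : Subgroup K} (hA : IsBestOffenderOn p V A) :
    IsBestOffenderOn p (V' V) (A.map (psi V)) := by
  obtain ⟨h1, h2, h3⟩ := hA
  refine ⟨?_, ?_, ?_⟩
  · intro B' hB'
    have hBmap : (A ⊓ B'.comap (psi V)).map (psi V) = B' := by
      apply le_antisymm
      · rintro _ ⟨b, hb, rfl⟩
        exact (Subgroup.mem_inf.1 hb).2
      · intro x hx
        obtain ⟨a, ha, rfl⟩ := hB' hx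
        exact ⟨a, Subgroup.mem_inf.2 ⟨ha, hx⟩, rfl⟩
    have hker : (A ⊓ B'.comap (psi V)) ⊓ (psi V).ker = A ⊓ (psi V).ker := by
      apply le_antisymm
      · exact inf_le_inf_right _ inf_le_left
      · intro x hx
        obtain ⟨hxA, hxk⟩ := Subgroup.mem_inf.1 hx
        refine Subgroup.mem_inf.2 ⟨Subgroup.mem_inf.2 ⟨hxA, ?_⟩, hxk⟩
        rw [Subgroup.mem_comap, MonoidHom.mem_ker.1 hxk]
        exact one_mem _
    have c1 := SD.card_eq_card_map_mul (psi V) (A ⊓ B'.comap (psi V))
    have c2 := SD.card_eq_card_map_mul (psi V) A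
    rw [hBmap, hker] at c1
    have c3 := card_cent_map V (A ⊓ B'.comap (psi V))
    rw [hBmap] at c3
    have c4 := card_cent_map V A
    have c5 := h1 (A ⊓ B'.comap (psi V)) inf_le_left
    rw [c3, c4]
    have hk : 0 < Nat.card ↥(A ⊓ (psi V).ker) := Nat.card_pos
    have key : Nat.card B' *
        Nat.card ↥(V ⊓ Subgroup.centralizer ((A ⊓ B'.comap (psi V) : Subgroup K) : Set K)) *
        Nat.card ↥(A ⊓ (psi V).ker) ≤
        Nat.card (A.map (psi V)) * Nat.card ↥(V ⊓ Subgroup.centralizer (A : Set K)) *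
        Nat.card ↥(A ⊓ (psi V).ker) := by
      calc Nat.card B' *
            Nat.card ↥(V ⊓ Subgroup.centralizer ((A ⊓ B'.comap (psi V) : Subgroup K) : Set K)) *
            Nat.card ↥(A ⊓ (psi V).ker)
          = (Nat.card B' * Nat.card ↥(A ⊓ (psi V).ker)) *
            Nat.card ↥(V ⊓ Subgroup.centralizer ((A ⊓ B'.comap (psi V) : Subgroup K) : Set K)) := by
            ring
        _ = Nat.card ↥(A ⊓ B'.comap (psi V)) *
            Nat.card ↥(V ⊓ Subgroup.centralizer ((A ⊓ B'.comap (psi V) : Subgroup K) : Set K)) := by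
            rw [← c1]
        _ ≤ Nat.card A * Nat.card ↥(V ⊓ Subgroup.centralizer (A : Set K)) := c5
        _ = (Nat.card (A.map (psi V)) * Nat.card ↥(A ⊓ (psi V).ker)) *
            Nat.card ↥(V ⊓ Subgroup.centralizer (A : Set K)) := by rw [← c2]
        _ = Nat.card (A.map (psi V)) * Nat.card ↥(V ⊓ Subgroup.centralizer (A : Set K)) *
            Nat.card ↥(A ⊓ (psi V).ker) := by ring
    exact Nat.le_of_mul_le_mul_right key hk
  · rw [← Subgroup.map_commutator]
    rintro _ ⟨x, hx, rfl⟩
    have hx1 : psi V x = 1 := MonoidHom.mem_ker.1 (by rw [psi_ker]; exact h2 hx)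
    rw [hx1]
    exact one_mem _
  · rintro _ ⟨a, ha, rfl⟩
    rw [← map_pow]
    have hx1 : psi V (a ^ p) = 1 := MonoidHom.mem_ker.1 (by rw [psi_ker]; exact h3 a ha)
    rw [hx1]
    exact one_mem _

theorem setup' [Finite K] {p : ℕ} [Fact p.Prime] (hV : IsElementaryAbelian p V)
    (hsep : IsPSolvable p K)
    (hD : ∀ D : Subgroup K, D.Normal → Subgroup.centralizer (V : Set K) ≤ D →
      (∃ k : ℕ, (Subgroup.centralizer (V : Set K)).relIndex D = p ^ k) →
      D = Subgroup.centralizer (V : Set K)) :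
    BO.Setup p (V' V) (H' V) := by
  haveI : Finite (Hol V) := finite_Hol V
  refine ⟨V'_elemab V hV, ?_, faithful' V, ?_⟩
  · intro x _
    haveI := V'_normal V
    rw [Subgroup.normalizer_eq_top]
    trivial
  · have hfs : Function.Surjective (psi V).rangeRestrict := (psi V).rangeRestrict_surjective
    have hsolH : IsPSolvable p ↥(H' V) :=
      Cfsg.Agent.S0629.isPSolvable_of_surjective (psi V).rangeRestrict hfs hsep
    have hker : (psi V).rangeRestrict.ker = Subgroup.centralizer (V : Set K) := by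
      rw [MonoidHom.ker_rangeRestrict, psi_ker]
    have hPbot : pCore p ↥(H' V) = ⊥ := by
      apply pCore_eq_bot_of_surj (psi V).rangeRestrict hfs
      rw [hker]
      exact hD
    exact SD.hall_higman_dual hsolH hPbot

end model

end Cfsg.Agent.Helper19.HOL
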