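import Mathlib
import Cfsg.Agent.Helper19.BO11
import Cfsg.Agent.S0601
import Cfsg.Agent.S0608

/-!
helper19: best offenders, part 12: a `q`-group of operators acting on a `p`-solvable group in which
the Thompson factorization fails fixes a plane and a section `SL(2, p)` acting on it.
-/

set_option autoImplicit false
open Cfsg

namespace Cfsg.Agent.Helper19.HOL

open scoped commutatorElement

section ops

variable {K : Type*} [Group K] {Y : Type*} [Group Y]

/-- fixed points of the operators -/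
def fixedSub (act : Y →* MulAut K) : Subgroup K where
  carrier := {k | ∀ y, act y k = k}
  one_mem' := fun y => map_one _
  mul_mem' := fun {a b} ha hb y => by rw [map_mul, ha y, hb y]
  inv_mem' := fun {a} ha y => by rw [map_inv, ha y]

theorem mem_fixedSub {act : Y →* MulAut K} {k : K} : k ∈ fixedSub act ↔ ∀ y, act y k = k :=
  Iff.rfl

variable (V : Subgroup K) [V.Normal] (act : Y →* MulAut K) (hVY : ∀ y, ∀ v ∈ V, act y v ∈ V)

/-- restriction of the operators to `V` -/
noncomputable def res : Y →* MulAut V where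
  toFun y :=
    { toFun := fun v => ⟨act y v, hVY y v v.2⟩
      invFun := fun v => ⟨act y⁻¹ v, hVY y⁻¹ v v.2⟩
      left_inv := fun v => Subtype.ext (by
        show act y⁻¹ (act y v) = v
        rw [← MulAut.mul_apply, ← map_mul, inv_mul_cancel, map_one, MulAut.one_apply])
      right_inv := fun v => Subtype.ext (by
        show act y (act y⁻¹ v) = v
        rw [← MulAut.mul_apply, ← map_mul, mul_inv_cancel, map_one, MulAut.one_apply])
      map_mul' := fun v w => Subtype.ext (map_mul (act y) (v : K) (w : K)) }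
  map_one' := MulEquiv.ext fun v => Subtype.ext (by
    show act 1 v = v
    rw [map_one, MulAut.one_apply])
  map_mul' y z := MulEquiv.ext fun v => Subtype.ext (by
    show act (y * z) v = act y (act z v)
    rw [map_mul, MulAut.mul_apply])

theorem res_apply (y : Y) (v : V) : ((res V act hVY y v : V) : K) = act y v := rfl

/-- the operators inside the holomorph -/
noncomputable def ups : Y →* Hol V :=
  (SemidirectProduct.inr : MulAut ↥V →* Hol V).comp (res V act hVY)

theorem ups_inl (y : Y) (v : V) :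
    ups V act hVY y * SemidirectProduct.inl v * (ups V act hVY y)⁻¹ =
      SemidirectProduct.inl (res V act hVY y v) := by
  show SemidirectProduct.inr (res V act hVY y) * SemidirectProduct.inl v *
      (SemidirectProduct.inr (res V act hVY y))⁻¹ = _
  rw [← map_inv, ← SemidirectProduct.inl_aut]
  rfl

theorem ups_psi (y : Y) (k : K) :
    ups V act hVY y * psi V k * (ups V act hVY y)⁻¹ = psi V (act y k) := by
  show SemidirectProduct.inr (res V act hVY y) * SemidirectProduct.inr (MulAut.conjNormal k) *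
      (SemidirectProduct.inr (res V act hVY y))⁻¹ =
      SemidirectProduct.inr (MulAut.conjNormal (act y k))
  rw [← map_inv, ← map_mul, ← map_mul]
  congr 1
  apply MulEquiv.ext
  intro v
  apply Subtype.ext
  have hinv : act y ((((res V act hVY y)⁻¹ : MulAut V) v : V) : K) = v :=
    congrArg Subtype.val ((res V act hVY y).apply_symm_apply v)
  rw [MulAut.mul_apply, MulAut.mul_apply, res_apply, MulAut.conjNormal_apply,
    MulAut.conjNormal_apply, map_mul, map_mul, map_inv, hinv]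

end ops

section main

variable {K : Type*} [Group K] [Finite K] {Y : Type*} [Group Y] {p q : ℕ} [Fact p.Prime]
  [Fact q.Prime]

theorem fixed_plane_aux (act : Y →* MulAut K) (hY : IsPGroup q Y) (hq : ¬ q ∣ Nat.card K)
    (hsep : IsPSolvable p K) (V : Subgroup K) [V.Normal] (hV : IsElementaryAbelian p V)
    (hD : ∀ D : Subgroup K, D.Normal → Subgroup.centralizer (V : Set K) ≤ D →
      (∃ k : ℕ, (Subgroup.centralizer (V : Set K)).relIndex D = p ^ k) →
      D = Subgroup.centralizer (V : Set K))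
    (hJ : ¬ thompsonSubgroup p K ≤ Subgroup.centralizer (V : Set K))
    (hVY : ∀ y, ∀ v ∈ V, act y v ∈ V) :
    (p = 2 ∨ p = 3) ∧ ∃ W D : Subgroup K, (∀ w ∈ W, ∀ y, act y w = w) ∧
      (∀ d ∈ D, ∀ y, act y d = d) ∧ IsElementaryAbelian p W ∧ Nat.card W = p ^ 2 ∧
      D ≤ Subgroup.normalizer (W : Set K) ∧
      ∃ f : D →* Matrix.SpecialLinearGroup (Fin 2) (ZMod p), Function.Surjective f ∧
        ∀ d : D, f d = 1 ↔ (d : K) ∈ Subgroup.centralizer (W : Set K) := by
  classical
  haveI : Finite (Hol V) := finite_Hol V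
  have S' := setup' V hV hsep hD
  have hpp := (Fact.out : p.Prime)
  -- an offender of order `p`
  obtain ⟨A₀, hA₀, hA₀C⟩ : ∃ A₀ ∈ maxElementaryAbelianSubgroups p K,
      ¬ A₀ ≤ Subgroup.centralizer (V : Set K) := by
    by_contra hcon
    push Not at hcon
    exact hJ (sSup_le hcon)
  have hBO₀ := bo_transfer V (Cfsg.Agent.S0606.result V hV A₀ hA₀)
  have hA₀1 : A₀.map (psi V) ≠ ⊥ := by
    intro h
    apply hA₀C
    rw [← psi_ker]
    exact (Subgroup.map_eq_bot_iff _).1 h
  obtain ⟨k, D, hDd, -, hsup⟩ := BO.decomp S' _ (A₀.map (psi V)) rfl (map_le_H' V A₀) hBO₀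
  obtain ⟨i⟩ : Nonempty (Fin k) := by
    by_contra hemp
    rw [not_nonempty_iff] at hemp
    apply hA₀1
    rw [← hsup, iSup_of_empty]
  obtain ⟨hBA, hB, hcB⟩ := hDd i
  obtain ⟨B, hBdef⟩ : ∃ B, B = D i := ⟨_, rfl⟩
  rw [← hBdef] at hBA hB hcB
  have hBH : B ≤ H' V := hBA.trans (map_le_H' V A₀)
  have ST := BO.st S' hBH hB hcB
  have hp23 := ST.p23
  have hfaith := ST.faith
  have hinfW := ST.infW
  have hcardW := ST.cardW
  obtain ⟨φ⟩ := ST.iso
  have hEH : ⁅BO.Qc p (H' V), B⁆ ⊔ B ≤ H' V := BO.E_le hBH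
  have hBE : B ≤ ⁅BO.Qc p (H' V), B⁆ ⊔ B := le_sup_right
  -- `q ≠ 2, 3`
  have hcardE : Nat.card ↥(⁅BO.Qc p (H' V), B⁆ ⊔ B) ∣ Nat.card K :=
    (Subgroup.card_dvd_of_le hEH).trans (Subgroup.card_range_dvd (psi V))
  have hcEq : Nat.card ↥(⁅BO.Qc p (H' V), B⁆ ⊔ B) =
      Nat.card (Matrix.SpecialLinearGroup (Fin 2) (ZMod p)) := Nat.card_congr φ.toEquiv
  have hpE : p ∣ Nat.card ↥(⁅BO.Qc p (H' V), B⁆ ⊔ B) := by
    have h1 := Subgroup.card_dvd_of_le hBE
    rwa [hcB] at h1
  have h23 : 2 ∣ Nat.card K ∧ 3 ∣ Nat.card K := by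
    rcases hp23 with h | h
    · refine ⟨?_, ?_⟩
      · have h2K : p ∣ Nat.card K := hpE.trans hcardE
        rwa [h] at h2K
      · have h3 : 3 ∣ Nat.card (Matrix.SpecialLinearGroup (Fin 2) (ZMod p)) := by
          rw [h]
          exact three_dvd_card_SL2_two
        rw [← hcEq] at h3
        exact h3.trans hcardE
    · refine ⟨?_, ?_⟩
      · have h3 : 2 ∣ Nat.card (Matrix.SpecialLinearGroup (Fin 2) (ZMod p)) := by
          rw [h]
          exact two_dvd_card_SL2_three
        rw [← hcEq] at h3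
        exact h3.trans hcardE
      · have h2K : p ∣ Nat.card K := hpE.trans hcardE
        rwa [h] at h2K
  have hq2 : q ≠ 2 := fun h => hq (by rw [h]; exact h23.1)
  have hq3 : q ≠ 3 := fun h => hq (by rw [h]; exact h23.2)
  -- the operators
  obtain ⟨υ, hυV, hυK⟩ : ∃ υ : Y →* Hol V,
      (∀ y (v : V), υ y * SemidirectProduct.inl v * (υ y)⁻¹ =
        SemidirectProduct.inl (res V act hVY y v)) ∧
      (∀ y k, υ y * psi V k * (υ y)⁻¹ = psi V (act y k)) :=
    ⟨ups V act hVY, ups_inl V act hVY, ups_psi V act hVY⟩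
  obtain ⟨Yh, hYh⟩ : ∃ Yh : Subgroup (Hol V), Yh = υ.range := ⟨_, rfl⟩
  have hυY : ∀ y, υ y ∈ Yh := fun y => hYh ▸ ⟨y, rfl⟩
  have hYV : Yh ≤ Subgroup.normalizer (V' V : Set (Hol V)) := by
    haveI := V'_normal V
    rw [Subgroup.normalizer_eq_top]
    exact le_top
  have hYH : Yh ≤ Subgroup.normalizer (H' V : Set (Hol V)) := by
    rw [hYh]
    rintro _ ⟨y, rfl⟩
    apply LemL.mem_normalizer_of_cj_eq
    apply Subgroup.eq_of_le_of_card_ge
    · intro x hx
      rw [LemL.mem_cj] at hx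
      obtain ⟨k, hk⟩ := hx
      refine ⟨act y k, ?_⟩
      rw [← hυK, hk]
      group
    · rw [LemL.card_cj]
  have hYq : ∀ x ∈ Yh, ∃ n : ℕ, x ^ q ^ n = 1 := by
    rw [hYh]
    rintro _ ⟨y, rfl⟩
    obtain ⟨n, hn⟩ := hY y
    exact ⟨n, by rw [← map_pow, hn, map_one]⟩
  -- the component and its conjugates
  obtain ⟨E, hE⟩ : ∃ E, E = ⁅BO.Qc p (H' V), B⁆ ⊔ B := ⟨_, rfl⟩
  rw [← hE] at hfaith hinfW hcardW hEH hBE
  have hconj : ∀ x ∈ Yh, LemL.cj x E = E ∨
      (LemL.cj x E ≤ Subgroup.centralizer ((⁅V' V, E⁆ : Subgroup (Hol V)) : Set (Hol V)) ∧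
       E ≤ Subgroup.centralizer ((LemL.cj x ⁅V' V, E⁆ : Subgroup (Hol V)) : Set (Hol V)) ∧
       ⁅E, LemL.cj x E⁆ = ⊥) := by
    intro x hx
    have hB' := BO.bo_cj hB (hYV hx)
    have hB'H : LemL.cj x B ≤ H' V := by
      have h1 := LemL.cj_mono (g := x) hBH
      rwa [LemL.cj_eq_of_mem_normalizer (hYH hx)] at h1
    have hcB' : Nat.card (LemL.cj x B) = p := by
      rw [LemL.card_cj]
      exact hcB
    have hEcj : LemL.cj x E = ⁅BO.Qc p (H' V), LemL.cj x B⁆ ⊔ LemL.cj x B := by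
      rw [hE]
      exact BO.E_cj (hYH hx) B
    have hWcj : LemL.cj x ⁅V' V, E⁆ = ⁅V' V, LemL.cj x E⁆ := BO.comm_cj (hYV hx) E
    rcases BO.comp_dichotomy S' hBH hB'H hB hB' hcB hcB' with h | ⟨h1, h2, h3⟩
    · left
      rw [hEcj, hE]
      exact h
    · right
      rw [hWcj, hEcj, hE]
      exact ⟨h1, h2, h3⟩
  have hstab : ∀ x ∈ Yh, LemL.cj x E = E →
      (∀ w ∈ ⁅V' V, E⁆, x * w = w * x) ∧ (∀ e ∈ E, x * e = e * x) := by
    intro x hx hxE
    obtain ⟨n, hn⟩ := hYq x hx
    have hxN : x ∈ Subgroup.normalizer ((⁅BO.Qc p (H' V), B⁆ ⊔ B : Subgroup (Hol V)) :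
        Set (Hol V)) := by
      rw [← hE]
      exact LemL.mem_normalizer_of_cj_eq hxE
    have h1 := BO.stab_centralizes S' hBH hB hcB hq2 hq3 (hYV hx) hxN n hn
    rw [← hE] at h1
    exact h1
  have hEne : E ≠ ⊥ := by
    intro h
    rw [h, le_bot_iff] at hBE
    rw [hBE, Subgroup.card_bot] at hcB
    exact hpp.one_lt.ne hcB
  have hEV : E ≤ Subgroup.normalizer (V' V : Set (Hol V)) := hEH.trans S'.hHV
  have hEW : E ≤ Subgroup.normalizer ((⁅V' V, E⁆ : Subgroup (Hol V)) : Set (Hol V)) :=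
    LemL.le_normalizer_comm hEV
  have hWV : ⁅V' V, E⁆ ≤ V' V := Cfsg.Agent.Helper23.commutator_le_of_le_normalizer hEV
  have hV'comm : ∀ a ∈ V' V, ∀ b ∈ V' V, a * b = b * a := fun a ha b hb => S'.comm ha hb
  obtain ⟨L, hL⟩ : ∃ L, L = ⁅V' V, E⁆ ⊔ E := ⟨_, rfl⟩
  have hWL : ⁅V' V, E⁆ ≤ L := hL ▸ le_sup_left
  have hEL : E ≤ L := hL ▸ le_sup_right
  have hLcj : ∀ x, LemL.cj x L = LemL.cj x ⁅V' V, E⁆ ⊔ LemL.cj x E := by
    intro x
    rw [hL]
    unfold LemL.cj
    rw [Subgroup.map_sup]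
  -- the centre of `L` is trivial
  have hZL : ∀ a ∈ L, (∀ b ∈ L, a * b = b * a) → a = 1 := by
    intro a ha hcomm
    rw [hL] at ha
    obtain ⟨w, hw, e, he, rfl⟩ := BO.mem_sup_of_norm
      (fun e he w hw => (Subgroup.mem_normalizer_iff.1 (hEW he) w).1 hw) ha
    have he1 : e ∈ E ⊓ Subgroup.centralizer ((⁅V' V, E⁆ : Subgroup (Hol V)) : Set (Hol V)) := by
      refine Subgroup.mem_inf.2 ⟨he, ?_⟩
      rw [Subgroup.mem_centralizer_iff]
      intro w' hw'
      have h3 := hcomm w' (hWL hw')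
      have h4 := hV'comm w (hWV hw) w' (hWV hw')
      calc w' * e = w⁻¹ * ((w * w') * e) := by group
        _ = w⁻¹ * ((w' * w) * e) := by rw [h4]
        _ = w⁻¹ * (w' * (w * e)) := by group
        _ = w⁻¹ * ((w * e) * w') := by rw [← h3]
        _ = e * w' := by group
    rw [hfaith, Subgroup.mem_bot] at he1
    subst he1
    rw [mul_one] at hcomm ⊢
    have hw1 : w ∈ ⁅V' V, E⁆ ⊓ (V' V ⊓ Subgroup.centralizer (E : Set (Hol V))) := by
      refine Subgroup.mem_inf.2 ⟨hw, Subgroup.mem_inf.2 ⟨hWV hw, ?_⟩⟩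
      rw [Subgroup.mem_centralizer_iff]
      intro e' he'
      exact (hcomm e' (hEL he')).symm
    rw [hinfW, Subgroup.mem_bot] at hw1
    exact hw1
  have h1 : ∀ y ∈ Yh, LemL.cj y L = L ∨ ∀ a ∈ L, ∀ b ∈ LemL.cj y L, a * b = b * a := by
    intro y hy
    rcases hconj y hy with h | ⟨hc1, hc2, hc3⟩
    · left
      rw [hLcj, BO.comm_cj (hYV hy) E, h, ← hL]
    · right
      have hcjWV : LemL.cj y ⁅V' V, E⁆ ≤ V' V := by
        have h5 := LemL.cj_mono (g := y) hWV
        rwa [LemL.cj_eq_of_mem_normalizer (hYV hy)] at h5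
      have hmain : L ≤ Subgroup.centralizer ((LemL.cj y L : Subgroup (Hol V)) : Set (Hol V)) := by
        rw [Subgroup.le_centralizer_iff, hLcj]
        refine sup_le ?_ ?_
        · rw [Subgroup.le_centralizer_iff, hL]
          refine sup_le ?_ hc2
          intro w hw
          rw [Subgroup.mem_centralizer_iff]
          intro w' hw'
          exact hV'comm w' (hcjWV hw') w (hWV hw)
        · rw [Subgroup.le_centralizer_iff, hL]
          refine sup_le ?_ ?_
          · exact Subgroup.le_centralizer_iff.1 hc1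
          · exact Subgroup.commutator_eq_bot_iff_le_centralizer.1 hc3
      intro a ha b hb
      exact (Subgroup.mem_centralizer_iff.1 (hmain ha) b hb).symm
  have h2 : ∀ y ∈ Yh, LemL.cj y L = L → ∀ a ∈ L, y * a = a * y := by
    intro y hy hyL
    have hyE : LemL.cj y E = E := by
      rcases hconj y hy with h | ⟨hc1, hc2, hc3⟩
      · exact h
      · exfalso
        apply hEne
        have hcjE_L : LemL.cj y E ≤ L := by
          have h5 := LemL.cj_mono (g := y) hEL
          rwa [hyL] at h5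
        have hLC : L ≤ Subgroup.centralizer ((LemL.cj y E : Subgroup (Hol V)) : Set (Hol V)) := by
          rw [hL]
          exact sup_le (Subgroup.le_centralizer_iff.1 hc1)
            (Subgroup.commutator_eq_bot_iff_le_centralizer.1 hc3)
        have hcjE1 : LemL.cj y E = ⊥ := by
          rw [eq_bot_iff]
          intro a ha
          rw [Subgroup.mem_bot]
          apply hZL a (hcjE_L ha)
          intro b hb
          exact Subgroup.mem_centralizer_iff.1 (hLC hb) a ha
        exact LemL.cj_eq_bot hcjE1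
    obtain ⟨hw, he⟩ := hstab y hy hyE
    have hLy : L ≤ Subgroup.centralizer ({y} : Set (Hol V)) := by
      rw [hL]
      refine sup_le ?_ ?_
      · intro w hw'
        rw [Subgroup.mem_centralizer_iff]
        intro h hh
        rw [Set.mem_singleton_iff] at hh
        subst hh
        exact hw w hw'
      · intro e he'
        rw [Subgroup.mem_centralizer_iff]
        intro h hh
        rw [Set.mem_singleton_iff] at hh
        subst hh
        exact he e he'
    intro a ha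
    exact Subgroup.mem_centralizer_iff.1 (hLy ha) y rfl
  -- the diagonal
  obtain ⟨N, hNa, hNb, hNc⟩ := OP.exists_diag Yh L h1 h2
  have hNinj : ∀ a : L, N a = 1 → a = 1 := by
    intro a ha
    obtain ⟨r, hr, hrc⟩ := hNb a
    rw [ha] at hr
    have har : (a : Hol V) = r⁻¹ := eq_inv_of_mul_eq_one_left hr.symm
    apply Subtype.ext
    apply hZL a a.2
    intro b hb
    rw [har]
    have h3 := hrc b hb
    calc r⁻¹ * b = r⁻¹ * (b * r) * r⁻¹ := by group
      _ = r⁻¹ * (r * b) * r⁻¹ := by rw [h3]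
      _ = b * r⁻¹ := by group
  have hNinj' : Function.Injective N := (injective_iff_map_eq_one N).2 hNinj
  obtain ⟨gW, hgW⟩ : ∃ gW : ↥⁅V' V, E⁆ →* Hol V, ∀ w, gW w = N ⟨w, hWL w.2⟩ :=
    ⟨N.comp (Subgroup.inclusion hWL), fun w => rfl⟩
  obtain ⟨gE, hgE⟩ : ∃ gE : ↥E →* Hol V, ∀ e, gE e = N ⟨e, hEL e.2⟩ :=
    ⟨N.comp (Subgroup.inclusion hEL), fun e => rfl⟩
  have hgWinj : Function.Injective gW := by
    intro a b hab
    rw [hgW, hgW] at hab
    exact Subtype.ext (Subtype.mk.inj (hNinj' hab))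
  have hgEinj : Function.Injective gE := by
    intro a b hab
    rw [hgE, hgE] at hab
    exact Subtype.ext (Subtype.mk.inj (hNinj' hab))
  have hYnV : ∀ y ∈ Yh, ∀ m ∈ V' V, y * m * y⁻¹ ∈ V' V :=
    fun y hy m hm => (Subgroup.mem_normalizer_iff.1 (hYV hy) m).1 hm
  have hYnH : ∀ y ∈ Yh, ∀ m ∈ H' V, y * m * y⁻¹ ∈ H' V :=
    fun y hy m hm => (Subgroup.mem_normalizer_iff.1 (hYH hy) m).1 hm
  have hgWV : ∀ w, gW w ∈ V' V := fun w => by
    rw [hgW]
    exact hNc (V' V) hYnV _ (hWV w.2)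
  have hgEH : ∀ e, gE e ∈ H' V := fun e => by
    rw [hgE]
    exact hNc (H' V) hYnH _ (hEH e.2)
  have hgWfix : ∀ w, ∀ y ∈ Yh, y * gW w = gW w * y := fun w y hy => by
    rw [hgW]
    exact hNa _ y hy
  have hgEfix : ∀ e, ∀ y ∈ Yh, y * gE e = gE e * y := fun e y hy => by
    rw [hgE]
    exact hNa _ y hy
  -- the action of the diagonal of `E` on the diagonal of `W`
  have hact : ∀ (e : E) (w : ↥⁅V' V, E⁆), ∃ w' : ↥⁅V' V, E⁆,
      (w' : Hol V) = e * w * (e : Hol V)⁻¹ ∧ gE e * gW w * (gE e)⁻¹ = gW w' := by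
    intro e w
    have hmem : (e : Hol V) * w * (e : Hol V)⁻¹ ∈ ⁅V' V, E⁆ :=
      (Subgroup.mem_normalizer_iff.1 (hEW e.2) w).1 w.2
    refine ⟨⟨_, hmem⟩, rfl, ?_⟩
    rw [hgE, hgW, hgW, ← map_inv, ← map_mul, ← map_mul]
    rfl
  have hcent : ∀ e : E, (∀ w : ↥⁅V' V, E⁆, gE e * gW w = gW w * gE e) → e = 1 := by
    intro e he
    have he1 : (e : Hol V) ∈ E ⊓ Subgroup.centralizer ((⁅V' V, E⁆ : Subgroup (Hol V)) :
        Set (Hol V)) := by
      refine Subgroup.mem_inf.2 ⟨e.2, ?_⟩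
      rw [Subgroup.mem_centralizer_iff]
      intro w hw
      obtain ⟨w', hw', hw'2⟩ := hact e ⟨w, hw⟩
      rw [he ⟨w, hw⟩, mul_inv_cancel_right] at hw'2
      have h3 := congrArg Subtype.val (hgWinj hw'2)
      rw [hw'] at h3
      have h4 : w = e * w * (e : Hol V)⁻¹ := h3
      calc w * (e : Hol V) = (e * w * (e : Hol V)⁻¹) * e := by rw [← h4]
        _ = e * w := by group
    rw [hfaith, Subgroup.mem_bot] at he1
    exact Subtype.ext he1
  -- back to `K`
  have hCY : ∀ y, ∀ c ∈ Subgroup.centralizer (V : Set K),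
      act y c ∈ Subgroup.centralizer (V : Set K) := by
    intro y c hc
    rw [Subgroup.mem_centralizer_iff] at hc ⊢
    intro v hv
    have h3 := hc (act y⁻¹ v) (hVY y⁻¹ v hv)
    have h4 : act y (act y⁻¹ v) = v := by
      rw [← MulAut.mul_apply, ← map_mul, mul_inv_cancel, map_one, MulAut.one_apply]
    rw [← h4, ← map_mul, ← map_mul, h3]
  have hqC : ¬ q ∣ Nat.card (Subgroup.centralizer (V : Set K)) :=
    fun h => hq (h.trans (Subgroup.card_subgroup_dvd_card _))
  have hfixlift : ∀ x ∈ H' V, (∀ y ∈ Yh, y * x = x * y) →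
      ∃ k ∈ fixedSub act, psi V k = x := by
    rintro _ ⟨k, rfl⟩ hx
    have hk : ∀ y, k⁻¹ * act y k ∈ Subgroup.centralizer (V : Set K) := by
      intro y
      rw [← psi_ker, MonoidHom.mem_ker, map_mul, map_inv, ← hυK, hx _ (hυY y),
        mul_inv_cancel_right, inv_mul_cancel]
    obtain ⟨k', hk'C, hk'fix⟩ := OP.exists_fixed_in_coset act hY _ hqC hCY k hk
    refine ⟨k', hk'fix, ?_⟩
    have h3 : psi V (k⁻¹ * k') = 1 := MonoidHom.mem_ker.1 (by rw [psi_ker]; exact hk'C)
    rw [map_mul, map_inv] at h3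
    exact (inv_mul_eq_one.1 h3).symm
  -- the plane
  obtain ⟨Wf, hWf⟩ : ∃ Wf : Subgroup (Hol V), Wf = gW.range := ⟨_, rfl⟩
  have hWfV : Wf ≤ V' V := by
    rw [hWf]
    rintro _ ⟨w, rfl⟩
    exact hgWV w
  have hcardWf : Nat.card Wf = p ^ 2 := by
    rw [hWf, ← hcardW]
    exact (Nat.card_congr (MonoidHom.ofInjective hgWinj).toEquiv).symm
  obtain ⟨WK, hWK⟩ : ∃ WK : Subgroup K,
      WK = (Wf.comap (SemidirectProduct.inl : V →* Hol V)).map V.subtype := ⟨_, rfl⟩
  have hmemWK : ∀ x : K, x ∈ WK ↔ ∃ v : V, (SemidirectProduct.inl v : Hol V) ∈ Wf ∧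
      (v : K) = x := by
    intro x
    rw [hWK]
    constructor
    · rintro ⟨v, hv, rfl⟩
      exact ⟨v, hv, rfl⟩
    · rintro ⟨v, hv, rfl⟩
      exact ⟨v, hv, rfl⟩
  have hWKV : WK ≤ V := by
    rw [hWK]
    exact Subgroup.map_subtype_le _
  have hcardWK : Nat.card WK = p ^ 2 := by
    rw [hWK, Subgroup.card_map_of_injective V.subtype_injective, ← hcardWf]
    have h3 : (Wf.comap (SemidirectProduct.inl : V →* Hol V)).map
        (SemidirectProduct.inl : V →* Hol V) = Wf :=
      Subgroup.map_comap_eq_self hWfV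
    rw [← h3, Subgroup.card_map_of_injective SemidirectProduct.inl_injective, h3]
  have hWKfix : ∀ w ∈ WK, ∀ y, act y w = w := by
    intro w hw y
    obtain ⟨v, hv, rfl⟩ := (hmemWK w).1 hw
    rw [hWf] at hv
    obtain ⟨w₀, hw₀⟩ := hv
    have h3 := hυV y v
    rw [← hw₀, hgWfix w₀ _ (hυY y), mul_inv_cancel_right, hw₀] at h3
    have h4 := congrArg Subtype.val (SemidirectProduct.inl_injective h3)
    rw [res_apply] at h4
    exact h4.symm
  -- the group
  obtain ⟨Db, hDb⟩ : ∃ Db : Subgroup (Hol V), Db = gE.range := ⟨_, rfl⟩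
  obtain ⟨DK, hDK⟩ : ∃ DK : Subgroup K, DK = fixedSub act ⊓ Db.comap (psi V) := ⟨_, rfl⟩
  have hDKfix : ∀ d ∈ DK, ∀ y, act y d = d := by
    intro d hd y
    rw [hDK] at hd
    exact (Subgroup.mem_inf.1 hd).1 y
  have hDKpsi : ∀ d ∈ DK, ∃ e : E, gE e = psi V d := by
    intro d hd
    rw [hDK] at hd
    have h3 : psi V d ∈ Db := (Subgroup.mem_inf.1 hd).2
    rw [hDb] at h3
    exact h3
  have hDbnorm : ∀ (e : E) (x : Hol V), x ∈ Wf → gE e * x * (gE e)⁻¹ ∈ Wf := by
    intro e x hx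
    rw [hWf] at hx ⊢
    obtain ⟨w, rfl⟩ := hx
    obtain ⟨w', -, hw'⟩ := hact e w
    exact ⟨w', hw'.symm⟩
  have hDKnorm : DK ≤ Subgroup.normalizer (WK : Set K) := by
    intro d hd
    apply LemL.mem_normalizer_of_cj_eq
    apply Subgroup.eq_of_le_of_card_ge
    · intro x hx
      rw [LemL.mem_cj] at hx
      obtain ⟨v, hv, hvx⟩ := (hmemWK _).1 hx
      obtain ⟨e, he⟩ := hDKpsi d hd
      rw [hmemWK]
      refine ⟨(MulAut.conjNormal d : MulAut V) v, ?_, ?_⟩
      · rw [← psi_conj, ← he]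
        exact hDbnorm e _ hv
      · rw [MulAut.conjNormal_apply, hvx]
        group
    · rw [LemL.card_cj]
  -- the homomorphism
  obtain ⟨ρ, hρ⟩ : ∃ ρ : DK →* ↥gE.range, ∀ d : DK, ((ρ d : ↥gE.range) : Hol V) = psi V d := by
    refine ⟨((psi V).comp DK.subtype).codRestrict gE.range (fun d => ?_), fun d => rfl⟩
    obtain ⟨e, he⟩ := hDKpsi d d.2
    exact ⟨e, he⟩
  have hρsurj : Function.Surjective ρ := by
    rintro ⟨x, hx⟩
    have hxH : x ∈ H' V := by
      obtain ⟨e, rfl⟩ := hx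
      exact hgEH e
    have hxfix : ∀ y ∈ Yh, y * x = x * y := by
      obtain ⟨e, rfl⟩ := hx
      exact hgEfix e
    obtain ⟨k, hkfix, hkx⟩ := hfixlift x hxH hxfix
    have hkD : k ∈ DK := by
      rw [hDK]
      refine Subgroup.mem_inf.2 ⟨hkfix, ?_⟩
      rw [Subgroup.mem_comap, hDb, hkx]
      exact hx
    exact ⟨⟨k, hkD⟩, Subtype.ext ((hρ _).trans hkx)⟩
  obtain ⟨τ⟩ : Nonempty (↥gE.range ≃* Matrix.SpecialLinearGroup (Fin 2) (ZMod p)) :=
    ⟨((MonoidHom.ofInjective hgEinj).symm.trans (MulEquiv.subgroupCongr hE)).trans φ⟩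
  refine ⟨hp23, WK, DK, hWKfix, hDKfix, Cfsg.Agent.Helper3.elemAb_mono hV hWKV, hcardWK,
    hDKnorm, τ.toMonoidHom.comp ρ, ?_, ?_⟩
  · exact τ.surjective.comp hρsurj
  · intro d
    have h5 : (τ.toMonoidHom.comp ρ) d = 1 ↔ psi V d = 1 := by
      show τ (ρ d) = 1 ↔ _
      rw [map_eq_one_iff τ τ.injective]
      constructor
      · intro h
        rw [← hρ, h]
        rfl
      · intro h
        apply Subtype.ext
        rw [hρ, h]
        rfl
    rw [h5]
    constructor
    · intro h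
      have h6 : (d : K) ∈ Subgroup.centralizer (V : Set K) := by
        rw [← psi_ker]
        exact MonoidHom.mem_ker.2 h
      exact Subgroup.centralizer_le hWKV h6
    · intro h
      obtain ⟨e, he⟩ := hDKpsi d d.2
      have he1 : e = 1 := by
        apply hcent
        intro w
        -- `gW w = inl v` with `v ∈ WK`
        obtain ⟨v, hv⟩ := hgWV w
        have hvWK : (v : K) ∈ WK := by
          rw [hmemWK]
          refine ⟨v, ?_, rfl⟩
          rw [hWf, hv]
          exact ⟨w, rfl⟩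
        have h6 := Subgroup.mem_centralizer_iff.1 h (v : K) hvWK
        have h7 : (MulAut.conjNormal (d : K) : MulAut V) v = v := by
          apply Subtype.ext
          rw [MulAut.conjNormal_apply, ← h6, mul_inv_cancel_right]
        have h8 := psi_conj V (d : K) v
        rw [h7, hv] at h8
        rw [he]
        calc psi V d * gW w = (psi V d * gW w * (psi V d)⁻¹) * psi V d := by group
          _ = gW w * psi V d := by rw [h8]
      rw [← he, he1, map_one]

/-- a `q`-group of operators on a `p`-solvable group `K` with `O_{p'}(K) = 1` in which the Thompson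
factorization fails: the fixed points contain a plane and a section `SL(2, p)` acting on it -/
theorem fixed_plane (act : Y →* MulAut K) (hY : IsPGroup q Y) (hq : ¬ q ∣ Nat.card K)
    (hsep : IsPSolvable p K) (hO : pPrimeCore p K = ⊥) (hnf : ¬ IsThompsonFactorizable p K) :
    (p = 2 ∨ p = 3) ∧ ∃ W D : Subgroup K, (∀ w ∈ W, ∀ y, act y w = w) ∧
      (∀ d ∈ D, ∀ y, act y d = d) ∧ IsElementaryAbelian p W ∧ Nat.card W = p ^ 2 ∧
      D ≤ Subgroup.normalizer (W : Set K) ∧
      ∃ f : D →* Matrix.SpecialLinearGroup (Fin 2) (ZMod p), Function.Surjective f ∧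
        ∀ d : D, f d = 1 ↔ (d : K) ∈ Subgroup.centralizer (W : Set K) := by
  have hc := Cfsg.Agent.Helper23.hall_higman hsep hO
  obtain ⟨hVn, hVel, hD⟩ := Cfsg.Agent.S0601.result hc
  have hJ : ¬ thompsonSubgroup p K ≤ Subgroup.centralizer ((⨆ S : Sylow p K,
      omegaOne p ((S : Subgroup K) ⊓ Subgroup.centralizer ((S : Subgroup K) : Set K)) :
      Subgroup K) : Set K) :=
    fun h => hnf ((Cfsg.Agent.S0608.result hO).2 h)
  haveI := hVn
  exact fixed_plane_aux act hY hq hsep _ hVel hD hJ (fun y v hv => omega_sup_char (act y) v hv)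

end main

end Cfsg.Agent.Helper19.HOL
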