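import Mathlib
import Cfsg.Agent.Helper19.BO12
import Cfsg.Agent.S0540
import Cfsg.Agent.S0602
import Cfsg.Agent.S0604
import Cfsg.Agent.S0606

/-!
helper19: best offenders, part 13: coprime operators and the Thompson factorization; the group is
generated by `N(J(S))`, `C(Ω₁(Z(S)))` and the fixed points.
-/

set_option autoImplicit false
open Cfsg

namespace Cfsg.Agent.Helper19.OP

open scoped Pointwise

/-- two subgroups of order `p` of `E` are conjugate in `E` when `p ^ 2` does not divide `|E|` -/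
theorem conj_of_card_prime {G : Type*} [Group G] [Finite G] {p : ℕ} [Fact p.Prime]
    {E B B' : Subgroup G} (hB : B ≤ E) (hB' : B' ≤ E) (hc : Nat.card B = p)
    (hc' : Nat.card B' = p) (hE : ¬ p ^ 2 ∣ Nat.card E) : ∃ e ∈ E, B' = LemL.cj e B := by
  have hpp := (Fact.out : p.Prime)
  have hpE : p ∣ Nat.card E := hc ▸ Subgroup.card_dvd_of_le hB
  have hE0 : Nat.card E ≠ 0 := Nat.card_pos.ne'
  have hfac : (Nat.card E).factorization p = 1 := by
    have h1 : 1 ≤ (Nat.card E).factorization p :=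
      (hpp.dvd_iff_one_le_factorization hE0).1 hpE
    have h2 : (Nat.card E).factorization p < 2 := by
      by_contra h
      push Not at h
      exact hE ((hpp.pow_dvd_iff_le_factorization hE0).2 h)
    omega
  have hcs : Nat.card (B.subgroupOf E) = p ^ (Nat.card E).factorization p := by
    rw [hfac, pow_one, Nat.card_congr (Subgroup.subgroupOfEquivOfLe hB).toEquiv, hc]
  have hcs' : Nat.card (B'.subgroupOf E) = p ^ (Nat.card E).factorization p := by
    rw [hfac, pow_one, Nat.card_congr (Subgroup.subgroupOfEquivOfLe hB').toEquiv, hc']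
  obtain ⟨g, hg⟩ := MulAction.exists_smul_eq E (Sylow.ofCard _ hcs) (Sylow.ofCard _ hcs')
  refine ⟨g, g.2, ?_⟩
  have h3 : ((g • Sylow.ofCard _ hcs : Sylow p E) : Subgroup E) = B'.subgroupOf E := by
    rw [hg]
    rfl
  rw [Sylow.coe_subgroup_smul] at h3
  symm
  apply Subgroup.eq_of_le_of_card_ge
  · intro x hx
    rw [LemL.mem_cj] at hx
    have hxE : x ∈ E := by
      have e : x = g * ((g : G)⁻¹ * x * g) * (g : G)⁻¹ := by group
      rw [e]
      exact mul_mem (mul_mem g.2 (hB hx)) (inv_mem g.2)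
    have h4 : (⟨x, hxE⟩ : E) ∈ MulAut.conj g • (B.subgroupOf E) := by
      rw [Subgroup.mem_pointwise_smul_iff_inv_smul_mem]
      rw [Subgroup.mem_subgroupOf]
      simpa [MulAut.smul_def] using hx
    have h5 : (⟨x, hxE⟩ : E) ∈ B'.subgroupOf E := by
      have h6 : (⟨x, hxE⟩ : E) ∈ ((Sylow.ofCard _ hcs : Sylow p E) : Subgroup E) →
          True := fun _ => trivial
      rw [← h3]
      exact h4
    exact Subgroup.mem_subgroupOf.1 h5
  · rw [LemL.card_cj, hc, hc']

end Cfsg.Agent.Helper19.OP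

namespace Cfsg.Agent.Helper19.BO

open scoped commutatorElement

variable {G : Type*} [Group G] [Finite G] {p : ℕ} [Fact p.Prime] {V H : Subgroup G}

theorem not_sq_dvd_card_E {B : Subgroup G} (hBH : B ≤ H) (hcB : Nat.card B = p) :
    ¬ p ^ 2 ∣ Nat.card ↥(⁅Qc p H, B⁆ ⊔ B) := by
  have hpp := (Fact.out : p.Prime)
  intro h
  have hBT : B ≤ Subgroup.normalizer ((⁅Qc p H, B⁆ : Subgroup G) : Set G) := by
    rw [Subgroup.commutator_comm]
    exact comm_normal_left B (Qc p H)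
  have h1 := Cfsg.Agent.Helper3.card_mul_card_eq_of_le_normalizer B ⁅Qc p H, B⁆ hBT
  rw [hcB, sup_comm] at h1
  have h2 : p ^ 2 ∣ p * Nat.card ↥⁅Qc p H, B⁆ := by
    rw [h1]
    exact h.trans (dvd_mul_right _ _)
  rw [pow_two] at h2
  have h3 : p ∣ Nat.card ↥⁅Qc p H, B⁆ := (Nat.mul_dvd_mul_iff_left hpp.pos).1 h2
  have h4 : p ∣ Nat.card (Qc p H) := h3.trans (Subgroup.card_dvd_of_le (T_le_Qc hBH))
  have h5 := Qc_coprime p H
  exact hpp.one_lt.ne' (h5.symm.eq_one_of_dvd h4)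

/-- a component is generated by the conjugates, under itself, of its offender -/
theorem comp_gen {B : Subgroup G} (hBH : B ≤ H) (hcB : Nat.card B = p) (M : Subgroup G)
    (hM : ∀ e ∈ ⁅Qc p H, B⁆ ⊔ B, ∀ b ∈ B, e * b * e⁻¹ ∈ M) : ⁅Qc p H, B⁆ ⊔ B ≤ M := by
  have hBM : B ≤ M := fun b hb => by
    have h := hM 1 (one_mem _) b hb
    simpa using h
  refine sup_le ?_ hBM
  rw [Subgroup.commutator_le]
  intro x hx b hb
  have hxE := Qc_le_normalizer_E H B hx
  have hB'E : LemL.cj x B ≤ ⁅Qc p H, B⁆ ⊔ B := by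
    have h1 := LemL.cj_mono (g := x) (le_sup_right : B ≤ ⁅Qc p H, B⁆ ⊔ B)
    rwa [LemL.cj_eq_of_mem_normalizer hxE] at h1
  obtain ⟨e, he, hcj⟩ := OP.conj_of_card_prime le_sup_right hB'E hcB
    (by rw [LemL.card_cj]; exact hcB) (not_sq_dvd_card_E hBH hcB)
  have h2 : x * b * x⁻¹ ∈ LemL.cj e B := hcj ▸ LemL.conj_mem_cj hb
  rw [LemL.mem_cj] at h2
  have h3 := hM e he _ h2
  have e1 : ⁅x, b⁆ = (e * (e⁻¹ * (x * b * x⁻¹) * e) * e⁻¹) * b⁻¹ := by
    rw [commutatorElement_def]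
    group
  rw [e1]
  exact mul_mem h3 (inv_mem (hBM hb))

end Cfsg.Agent.Helper19.BO

namespace Cfsg.Agent.Helper19.HOL

open scoped commutatorElement

section main

variable {K : Type*} [Group K] [Finite K] {Y : Type*} [Group Y] {p q : ℕ} [Fact p.Prime]
  [Fact q.Prime]

/-- every element of a component is, up to an element centralizing the component, the image of
a fixed point of the operators -/
theorem comp_fixed (act : Y →* MulAut K) (hY : IsPGroup q Y) (hq : ¬ q ∣ Nat.card K)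
    (hsep : IsPSolvable p K) (V : Subgroup K) [V.Normal] (hV : IsElementaryAbelian p V)
    (hD : ∀ D : Subgroup K, D.Normal → Subgroup.centralizer (V : Set K) ≤ D →
      (∃ k : ℕ, (Subgroup.centralizer (V : Set K)).relIndex D = p ^ k) →
      D = Subgroup.centralizer (V : Set K))
    (hVY : ∀ y, ∀ v ∈ V, act y v ∈ V)
    (B : Subgroup (Hol V)) (hBH : B ≤ H' V) (hB : IsBestOffenderOn p (V' V) B)
    (hcB : Nat.card B = p) :
    ∀ e ∈ ⁅BO.Qc p (H' V), B⁆ ⊔ B, ∃ k ∈ fixedSub act, ∃ r : Hol V, psi V k = e * r ∧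
      ∀ b ∈ ⁅BO.Qc p (H' V), B⁆ ⊔ B, r * b = b * r := by
  classical
  haveI : Finite (Hol V) := finite_Hol V
  have S' := setup' V hV hsep hD
  have hpp := (Fact.out : p.Prime)
  have ST := BO.st S' hBH hB hcB
  have hp23 := ST.p23
  have hfaith := ST.faith
  have hinfW := ST.infW
  have hcardW := ST.cardW
  obtain ⟨φ⟩ := ST.iso
  have hEH : ⁅BO.Qc p (H' V), B⁆ ⊔ B ≤ H' V := BO.E_le hBH
  have hBE : B ≤ ⁅BO.Qc p (H' V), B⁆ ⊔ B := le_sup_right
  -- `q ≠ 2, 3`
  have hcardE : Nat.card ↥(⁅BO.Qc p (H' V), B⁆ ⊔ B) ∣ Nat.card K :=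
    (Subgroup.card_dvd_of_le hEH).trans (Subgroup.card_range_dvd (psi V))
  have hcEq : Nat.card ↥(⁅BO.Qc p (H' V), B⁆ ⊔ B) =
      Nat.card (Matrix.SpecialLinearGroup (Fin 2) (ZMod p)) := Nat.card_congr φ.toEquiv
  have hpE : p ∣ Nat.card ↥(⁅BO.Qc p (H' V), B⁆ ⊔ B) := by
    have h1 := Subgroup.card_dvd_of_le hBE
    rwa [hcB] at h1
  have h23 : 2 ∣ Nat.card K ∧ 3 ∣ Nat.card K := by
    rcases hp23 with h | h
    · refine ⟨?_, ?_⟩
      · have h2K : p ∣ Nat.card K := hpE.trans hcardE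
        rwa [h] at h2K
      · have h3 : 3 ∣ Nat.card (Matrix.SpecialLinearGroup (Fin 2) (ZMod p)) := by
          rw [h]
          exact three_dvd_card_SL2_two
        rw [← hcEq] at h3
        exact h3.trans hcardE
    · refine ⟨?_, ?_⟩
      · have h3 : 2 ∣ Nat.card (Matrix.SpecialLinearGroup (Fin 2) (ZMod p)) := by
          rw [h]
          exact two_dvd_card_SL2_three
        rw [← hcEq] at h3
        exact h3.trans hcardE
      · have h2K : p ∣ Nat.card K := hpE.trans hcardE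
        rwa [h] at h2K
  have hq2 : q ≠ 2 := fun h => hq (by rw [h]; exact h23.1)
  have hq3 : q ≠ 3 := fun h => hq (by rw [h]; exact h23.2)
  -- the operators
  obtain ⟨υ, hυV, hυK⟩ : ∃ υ : Y →* Hol V,
      (∀ y (v : V), υ y * SemidirectProduct.inl v * (υ y)⁻¹ =
        SemidirectProduct.inl (res V act hVY y v)) ∧
      (∀ y k, υ y * psi V k * (υ y)⁻¹ = psi V (act y k)) :=
    ⟨ups V act hVY, ups_inl V act hVY, ups_psi V act hVY⟩
  obtain ⟨Yh, hYh⟩ : ∃ Yh : Subgroup (Hol V), Yh = υ.range := ⟨_, rfl⟩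
  have hυY : ∀ y, υ y ∈ Yh := fun y => hYh ▸ ⟨y, rfl⟩
  have hYV : Yh ≤ Subgroup.normalizer (V' V : Set (Hol V)) := by
    haveI := V'_normal V
    rw [Subgroup.normalizer_eq_top]
    exact le_top
  have hYH : Yh ≤ Subgroup.normalizer (H' V : Set (Hol V)) := by
    rw [hYh]
    rintro _ ⟨y, rfl⟩
    apply LemL.mem_normalizer_of_cj_eq
    apply Subgroup.eq_of_le_of_card_ge
    · intro x hx
      rw [LemL.mem_cj] at hx
      obtain ⟨k, hk⟩ := hx
      refine ⟨act y k, ?_⟩
      rw [← hυK, hk]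
      group
    · rw [LemL.card_cj]
  have hYq : ∀ x ∈ Yh, ∃ n : ℕ, x ^ q ^ n = 1 := by
    rw [hYh]
    rintro _ ⟨y, rfl⟩
    obtain ⟨n, hn⟩ := hY y
    exact ⟨n, by rw [← map_pow, hn, map_one]⟩
  -- the component and its conjugates
  obtain ⟨E, hE⟩ : ∃ E, E = ⁅BO.Qc p (H' V), B⁆ ⊔ B := ⟨_, rfl⟩
  rw [← hE] at hfaith hinfW hcardW hEH hBE
  have hconj : ∀ x ∈ Yh, LemL.cj x E = E ∨
      (LemL.cj x E ≤ Subgroup.centralizer ((⁅V' V, E⁆ : Subgroup (Hol V)) : Set (Hol V)) ∧
       E ≤ Subgroup.centralizer ((LemL.cj x ⁅V' V, E⁆ : Subgroup (Hol V)) : Set (Hol V)) ∧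
       ⁅E, LemL.cj x E⁆ = ⊥) := by
    intro x hx
    have hB' := BO.bo_cj hB (hYV hx)
    have hB'H : LemL.cj x B ≤ H' V := by
      have h1 := LemL.cj_mono (g := x) hBH
      rwa [LemL.cj_eq_of_mem_normalizer (hYH hx)] at h1
    have hcB' : Nat.card (LemL.cj x B) = p := by
      rw [LemL.card_cj]
      exact hcB
    have hEcj : LemL.cj x E = ⁅BO.Qc p (H' V), LemL.cj x B⁆ ⊔ LemL.cj x B := by
      rw [hE]
      exact BO.E_cj (hYH hx) B
    have hWcj : LemL.cj x ⁅V' V, E⁆ = ⁅V' V, LemL.cj x E⁆ := BO.comm_cj (hYV hx) E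
    rcases BO.comp_dichotomy S' hBH hB'H hB hB' hcB hcB' with h | ⟨h1, h2, h3⟩
    · left
      rw [hEcj, hE]
      exact h
    · right
      rw [hWcj, hEcj, hE]
      exact ⟨h1, h2, h3⟩
  have hstab : ∀ x ∈ Yh, LemL.cj x E = E →
      (∀ w ∈ ⁅V' V, E⁆, x * w = w * x) ∧ (∀ e ∈ E, x * e = e * x) := by
    intro x hx hxE
    obtain ⟨n, hn⟩ := hYq x hx
    have hxN : x ∈ Subgroup.normalizer ((⁅BO.Qc p (H' V), B⁆ ⊔ B : Subgroup (Hol V)) :
        Set (Hol V)) := by
      rw [← hE]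
      exact LemL.mem_normalizer_of_cj_eq hxE
    have h1 := BO.stab_centralizes S' hBH hB hcB hq2 hq3 (hYV hx) hxN n hn
    rw [← hE] at h1
    exact h1
  have hEne : E ≠ ⊥ := by
    intro h
    rw [h, le_bot_iff] at hBE
    rw [hBE, Subgroup.card_bot] at hcB
    exact hpp.one_lt.ne hcB
  have hEV : E ≤ Subgroup.normalizer (V' V : Set (Hol V)) := hEH.trans S'.hHV
  have hEW : E ≤ Subgroup.normalizer ((⁅V' V, E⁆ : Subgroup (Hol V)) : Set (Hol V)) :=
    LemL.le_normalizer_comm hEV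
  have hWV : ⁅V' V, E⁆ ≤ V' V := Cfsg.Agent.Helper23.commutator_le_of_le_normalizer hEV
  have hV'comm : ∀ a ∈ V' V, ∀ b ∈ V' V, a * b = b * a := fun a ha b hb => S'.comm ha hb
  obtain ⟨L, hL⟩ : ∃ L, L = ⁅V' V, E⁆ ⊔ E := ⟨_, rfl⟩
  have hWL : ⁅V' V, E⁆ ≤ L := hL ▸ le_sup_left
  have hEL : E ≤ L := hL ▸ le_sup_right
  have hLcj : ∀ x, LemL.cj x L = LemL.cj x ⁅V' V, E⁆ ⊔ LemL.cj x E := by
    intro x
    rw [hL]
    unfold LemL.cj
    rw [Subgroup.map_sup]
  -- the centre of `L` is trivial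
  have hZL : ∀ a ∈ L, (∀ b ∈ L, a * b = b * a) → a = 1 := by
    intro a ha hcomm
    rw [hL] at ha
    obtain ⟨w, hw, e, he, rfl⟩ := BO.mem_sup_of_norm
      (fun e he w hw => (Subgroup.mem_normalizer_iff.1 (hEW he) w).1 hw) ha
    have he1 : e ∈ E ⊓ Subgroup.centralizer ((⁅V' V, E⁆ : Subgroup (Hol V)) : Set (Hol V)) := by
      refine Subgroup.mem_inf.2 ⟨he, ?_⟩
      rw [Subgroup.mem_centralizer_iff]
      intro w' hw'
      have h3 := hcomm w' (hWL hw')
      have h4 := hV'comm w (hWV hw) w' (hWV hw')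
      calc w' * e = w⁻¹ * ((w * w') * e) := by group
        _ = w⁻¹ * ((w' * w) * e) := by rw [h4]
        _ = w⁻¹ * (w' * (w * e)) := by group
        _ = w⁻¹ * ((w * e) * w') := by rw [← h3]
        _ = e * w' := by group
    rw [hfaith, Subgroup.mem_bot] at he1
    subst he1
    rw [mul_one] at hcomm ⊢
    have hw1 : w ∈ ⁅V' V, E⁆ ⊓ (V' V ⊓ Subgroup.centralizer (E : Set (Hol V))) := by
      refine Subgroup.mem_inf.2 ⟨hw, Subgroup.mem_inf.2 ⟨hWV hw, ?_⟩⟩
      rw [Subgroup.mem_centralizer_iff]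
      intro e' he'
      exact (hcomm e' (hEL he')).symm
    rw [hinfW, Subgroup.mem_bot] at hw1
    exact hw1
  have h1 : ∀ y ∈ Yh, LemL.cj y L = L ∨ ∀ a ∈ L, ∀ b ∈ LemL.cj y L, a * b = b * a := by
    intro y hy
    rcases hconj y hy with h | ⟨hc1, hc2, hc3⟩
    · left
      rw [hLcj, BO.comm_cj (hYV hy) E, h, ← hL]
    · right
      have hcjWV : LemL.cj y ⁅V' V, E⁆ ≤ V' V := by
        have h5 := LemL.cj_mono (g := y) hWV
        rwa [LemL.cj_eq_of_mem_normalizer (hYV hy)] at h5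
      have hmain : L ≤ Subgroup.centralizer ((LemL.cj y L : Subgroup (Hol V)) : Set (Hol V)) := by
        rw [Subgroup.le_centralizer_iff, hLcj]
        refine sup_le ?_ ?_
        · rw [Subgroup.le_centralizer_iff, hL]
          refine sup_le ?_ hc2
          intro w hw
          rw [Subgroup.mem_centralizer_iff]
          intro w' hw'
          exact hV'comm w' (hcjWV hw') w (hWV hw)
        · rw [Subgroup.le_centralizer_iff, hL]
          refine sup_le ?_ ?_
          · exact Subgroup.le_centralizer_iff.1 hc1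
          · exact Subgroup.commutator_eq_bot_iff_le_centralizer.1 hc3
      intro a ha b hb
      exact (Subgroup.mem_centralizer_iff.1 (hmain ha) b hb).symm
  have h2 : ∀ y ∈ Yh, LemL.cj y L = L → ∀ a ∈ L, y * a = a * y := by
    intro y hy hyL
    have hyE : LemL.cj y E = E := by
      rcases hconj y hy with h | ⟨hc1, hc2, hc3⟩
      · exact h
      · exfalso
        apply hEne
        have hcjE_L : LemL.cj y E ≤ L := by
          have h5 := LemL.cj_mono (g := y) hEL
          rwa [hyL] at h5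
        have hLC : L ≤ Subgroup.centralizer ((LemL.cj y E : Subgroup (Hol V)) : Set (Hol V)) := by
          rw [hL]
          exact sup_le (Subgroup.le_centralizer_iff.1 hc1)
            (Subgroup.commutator_eq_bot_iff_le_centralizer.1 hc3)
        have hcjE1 : LemL.cj y E = ⊥ := by
          rw [eq_bot_iff]
          intro a ha
          rw [Subgroup.mem_bot]
          apply hZL a (hcjE_L ha)
          intro b hb
          exact Subgroup.mem_centralizer_iff.1 (hLC hb) a ha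
        exact LemL.cj_eq_bot hcjE1
    obtain ⟨hw, he⟩ := hstab y hy hyE
    have hLy : L ≤ Subgroup.centralizer ({y} : Set (Hol V)) := by
      rw [hL]
      refine sup_le ?_ ?_
      · intro w hw'
        rw [Subgroup.mem_centralizer_iff]
        intro h hh
        rw [Set.mem_singleton_iff] at hh
        subst hh
        exact hw w hw'
      · intro e he'
        rw [Subgroup.mem_centralizer_iff]
        intro h hh
        rw [Set.mem_singleton_iff] at hh
        subst hh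
        exact he e he'
    intro a ha
    exact Subgroup.mem_centralizer_iff.1 (hLy ha) y rfl
  -- the diagonal
  obtain ⟨N, hNa, hNb, hNc⟩ := OP.exists_diag Yh L h1 h2
  have hYnV : ∀ y ∈ Yh, ∀ m ∈ V' V, y * m * y⁻¹ ∈ V' V :=
    fun y hy m hm => (Subgroup.mem_normalizer_iff.1 (hYV hy) m).1 hm
  have hYnH : ∀ y ∈ Yh, ∀ m ∈ H' V, y * m * y⁻¹ ∈ H' V :=
    fun y hy m hm => (Subgroup.mem_normalizer_iff.1 (hYH hy) m).1 hm
  -- back to `K`
  have hCY : ∀ y, ∀ c ∈ Subgroup.centralizer (V : Set K),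
      act y c ∈ Subgroup.centralizer (V : Set K) := by
    intro y c hc
    rw [Subgroup.mem_centralizer_iff] at hc ⊢
    intro v hv
    have h3 := hc (act y⁻¹ v) (hVY y⁻¹ v hv)
    have h4 : act y (act y⁻¹ v) = v := by
      rw [← MulAut.mul_apply, ← map_mul, mul_inv_cancel, map_one, MulAut.one_apply]
    rw [← h4, ← map_mul, ← map_mul, h3]
  have hqC : ¬ q ∣ Nat.card (Subgroup.centralizer (V : Set K)) :=
    fun h => hq (h.trans (Subgroup.card_subgroup_dvd_card _))
  have hfixlift : ∀ x ∈ H' V, (∀ y ∈ Yh, y * x = x * y) →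
      ∃ k ∈ fixedSub act, psi V k = x := by
    rintro _ ⟨k, rfl⟩ hx
    have hk : ∀ y, k⁻¹ * act y k ∈ Subgroup.centralizer (V : Set K) := by
      intro y
      rw [← psi_ker, MonoidHom.mem_ker, map_mul, map_inv, ← hυK, hx _ (hυY y),
        mul_inv_cancel_right, inv_mul_cancel]
    obtain ⟨k', hk'C, hk'fix⟩ := OP.exists_fixed_in_coset act hY _ hqC hCY k hk
    refine ⟨k', hk'fix, ?_⟩
    have h3 : psi V (k⁻¹ * k') = 1 := MonoidHom.mem_ker.1 (by rw [psi_ker]; exact hk'C)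
    rw [map_mul, map_inv] at h3
    exact (inv_mul_eq_one.1 h3).symm
  rw [← hE]
  intro e he
  obtain ⟨r, hr, hrc⟩ := hNb ⟨e, hEL he⟩
  have hNH : N ⟨e, hEL he⟩ ∈ H' V := hNc (H' V) hYnH _ (hEH he)
  obtain ⟨k, hkfix, hkx⟩ := hfixlift _ hNH (hNa _)
  exact ⟨k, hkfix, r, hkx.trans hr, fun b hb => hrc b (hEL hb)⟩

end main

section frattini

open scoped Pointwise

open Cfsg.Agent.Helper3

/-- Frattini argument for the Thompson subgroup -/
theorem frattini_J {G : Type*} [Group G] [Finite G] {p : ℕ} [Fact p.Prime] (S : Sylow p G)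
    (g : G) : ∃ j ∈ thompsonSubgroup p G,
      ∃ n ∈ Subgroup.normalizer (thompsonSubgroupOf p (S : Subgroup G) : Set G), g = j * n := by
  obtain ⟨A1, hA1⟩ := exists_mem_maxElementaryAbelianSubgroups (G := G) p
  have hmaxS : ∀ (S : Sylow p G) (B : Subgroup (S : Subgroup G)),
      B ∈ maxElementaryAbelianSubgroups p (S : Subgroup G) →
      B.map (S : Subgroup G).subtype ∈ maxElementaryAbelianSubgroups p G := by
    intro S B hB
    obtain ⟨S1, hA1S1⟩ := (elemAb_isPGroup hA1.1).exists_le_sylow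
    obtain ⟨g, hg⟩ := MulAction.exists_smul_eq G S1 S
    have hA0 := map_equiv_mem_max hA1 (MulAut.conj g)
    have hA0S : A1.map (MulAut.conj g).toMonoidHom ≤ (S : Subgroup G) := by
      rw [← hg, Sylow.coe_subgroup_smul, Subgroup.pointwise_smul_def]
      exact Subgroup.map_mono hA1S1
    exact map_mem_max hA0 hA0S hB
  have hJS_le : ∀ (S : Sylow p G) (A : Subgroup G), A ∈ maxElementaryAbelianSubgroups p G →
      A ≤ (S : Subgroup G) → A ≤ Cfsg.thompsonSubgroupOf p (S : Subgroup G) := by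
    intro S A hA hAS
    have hmem := subgroupOf_mem_max hA hAS
    unfold Cfsg.thompsonSubgroupOf Cfsg.thompsonSubgroup
    calc A = (A.subgroupOf (S : Subgroup G)).map (S : Subgroup G).subtype :=
          (Subgroup.map_subgroupOf_eq_of_le hAS).symm
      _ ≤ _ := Subgroup.map_mono (le_sSup hmem)
  have hJ := Cfsg.Agent.S0604.result (G := G) (p := p)
  obtain ⟨J, hJdef⟩ : ∃ J, J = Cfsg.thompsonSubgroup p G := ⟨_, rfl⟩
  rw [← hJdef] at hJ ⊢
  haveI hJn : J.Normal := by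
    haveI : J.Characteristic := by
      rw [hJdef]
      exact (Cfsg.Agent.S0602.result (G := G) (p := p)).1
    infer_instance
  have hJSJ : Cfsg.thompsonSubgroupOf p (S : Subgroup G) ≤ J := by
    rw [hJ]
    exact le_iSup (fun S : Sylow p G => Cfsg.thompsonSubgroupOf p (S : Subgroup G)) S
  obtain ⟨T, hT⟩ : ∃ T, T = (S : Subgroup G) ⊓ J := ⟨_, rfl⟩
  have hTp : IsPGroup p (T.subgroupOf J) := by
    have : IsPGroup p T := hT ▸ S.2.to_le inf_le_left
    exact this.comap_subtype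
  have hTidx : ¬ p ∣ (T.subgroupOf J).index := by
    intro hd
    have h1 : (T.subgroupOf J).index = (S : Subgroup G).relIndex J := by
      change T.relIndex J = _
      rw [hT, Subgroup.inf_relIndex_right]
    rw [h1] at hd
    exact S.not_dvd_index (hd.trans (relIndex_dvd_index_normal (S : Subgroup G) J))
  have hfr := Sylow.normalizer_sup_eq_top (hTp.toSylow hTidx)
  have hPmap : (((hTp.toSylow hTidx : Sylow p J) : Subgroup J)).map J.subtype = T := by
    rw [IsPGroup.toSylow_coe, Subgroup.subgroupOf_map_subtype, hT, inf_assoc, inf_idem]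
  rw [hPmap] at hfr
  have hg : g ∈ ((J ⊔ Subgroup.normalizer (T : Set G) : Subgroup G) : Set G) := by
    rw [sup_comm, hfr]
    trivial
  rw [Subgroup.normal_mul] at hg
  obtain ⟨j, hj, n, hn, rfl⟩ := Set.mem_mul.mp hg
  refine ⟨j, hj, n, ?_, rfl⟩
  apply Cfsg.Agent.S0540.mem_normalizer_of_smul_le
  rw [Subgroup.pointwise_smul_def]
  change ((Cfsg.thompsonSubgroup p (S : Subgroup G)).map (S : Subgroup G).subtype).map
    (MulAut.conj n).toMonoidHom ≤ Cfsg.thompsonSubgroupOf p (S : Subgroup G)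
  rw [Subgroup.map_map, Subgroup.map_le_iff_le_comap]
  unfold Cfsg.thompsonSubgroup
  apply sSup_le
  intro B hB
  rw [← Subgroup.map_le_iff_le_comap, ← Subgroup.map_map]
  have hBG := hmaxS S B hB
  have hBJS : B.map (S : Subgroup G).subtype ≤ Cfsg.thompsonSubgroupOf p (S : Subgroup G) :=
    Subgroup.map_mono (le_sSup hB)
  have hBT : B.map (S : Subgroup G).subtype ≤ T := by
    rw [hT]
    exact le_inf (Subgroup.map_subtype_le _) (hBJS.trans hJSJ)
  have hB' := map_equiv_mem_max hBG (MulAut.conj n)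
  have hB'T : (B.map (S : Subgroup G).subtype).map (MulAut.conj n).toMonoidHom ≤ T := by
    have h5 := Subgroup.map_mono (f := (MulAut.conj n).toMonoidHom) hBT
    have hTn : T.map (MulAut.conj n).toMonoidHom = T := smul_eq_of_mem_normalizer hn
    rw [hTn] at h5
    exact h5
  exact hJS_le S _ hB' (hB'T.trans (hT ▸ inf_le_left))

/-- a maximal elementary abelian subgroup is conjugate into `S` by an element of `J(G)` -/
theorem conj_into_sylow {G : Type*} [Group G] [Finite G] {p : ℕ} [Fact p.Prime] (S : Sylow p G)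
    {A : Subgroup G} (hA : A ∈ maxElementaryAbelianSubgroups p G) :
    ∃ j ∈ thompsonSubgroup p G, LemL.cj j A ≤ (S : Subgroup G) := by
  obtain ⟨S₁, hAS₁⟩ := (elemAb_isPGroup hA.1).exists_le_sylow
  obtain ⟨g, hg⟩ := MulAction.exists_smul_eq G S₁ S
  have hA0 := map_equiv_mem_max hA (MulAut.conj g)
  have hA0S : A.map (MulAut.conj g).toMonoidHom ≤ (S : Subgroup G) := by
    rw [← hg, Sylow.coe_subgroup_smul, Subgroup.pointwise_smul_def]
    exact Subgroup.map_mono hAS₁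
  have hA0J : A.map (MulAut.conj g).toMonoidHom ≤ thompsonSubgroupOf p (S : Subgroup G) := by
    have hmem := subgroupOf_mem_max hA0 hA0S
    unfold thompsonSubgroupOf thompsonSubgroup
    calc A.map (MulAut.conj g).toMonoidHom
        = ((A.map (MulAut.conj g).toMonoidHom).subgroupOf (S : Subgroup G)).map
            (S : Subgroup G).subtype := (Subgroup.map_subgroupOf_eq_of_le hA0S).symm
      _ ≤ _ := Subgroup.map_mono (le_sSup hmem)
  obtain ⟨j', hj', n', hn', hgjn⟩ := frattini_J S g⁻¹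
  refine ⟨j'⁻¹, inv_mem hj', ?_⟩
  have hg' : g = n'⁻¹ * j'⁻¹ := by
    rw [← mul_inv_rev, ← hgjn, inv_inv]
  have h1 : LemL.cj j'⁻¹ A = LemL.cj n' (LemL.cj g A) := by
    rw [LemL.cj_cj, hg']
    congr 1
    group
  rw [h1]
  have h2 := LemL.cj_mono (g := n') hA0J
  rw [LemL.cj_eq_of_mem_normalizer hn'] at h2
  exact h2.trans (Subgroup.map_subtype_le _)

end frattini

section gen

variable {K : Type*} [Group K] [Finite K] {Y : Type*} [Group Y] {p q : ℕ} [Fact p.Prime]
  [Fact q.Prime]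

/-- a `q`-group of operators on a `p`-solvable group `K` with `O_{p'}(K) = 1`: `K` is generated by
`N(J(S))`, `C(Ω₁(Z(S)))` and the fixed points -/
theorem gen_fixed (act : Y →* MulAut K) (hY : IsPGroup q Y) (hq : ¬ q ∣ Nat.card K)
    (hsep : IsPSolvable p K) (hO : pPrimeCore p K = ⊥) (S : Sylow p K) :
    Subgroup.normalizer (thompsonSubgroupOf p (S : Subgroup K) : Set K) ⊔
      Subgroup.centralizer (omegaOne p ((S : Subgroup K) ⊓
        Subgroup.centralizer ((S : Subgroup K) : Set K)) : Set K) ⊔ fixedSub act = ⊤ := by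
  classical
  have hc := Cfsg.Agent.Helper23.hall_higman hsep hO
  obtain ⟨hVn, hVel, hD⟩ := Cfsg.Agent.S0601.result hc
  obtain ⟨V, hVdef⟩ : ∃ V : Subgroup K, V = ⨆ S : Sylow p K, omegaOne p ((S : Subgroup K) ⊓
      Subgroup.centralizer ((S : Subgroup K) : Set K)) := ⟨_, rfl⟩
  rw [← hVdef] at hVn hVel hD
  haveI := hVn
  haveI : Finite (Hol V) := finite_Hol V
  have hVY : ∀ y, ∀ v ∈ V, act y v ∈ V := by
    intro y v hv
    rw [hVdef] at hv ⊢
    exact omega_sup_char (act y) v hv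
  have S' := setup' V hVel hsep hD
  obtain ⟨K₁, hK₁⟩ : ∃ K₁ : Subgroup K,
      K₁ = Subgroup.normalizer (thompsonSubgroupOf p (S : Subgroup K) : Set K) ⊔
      Subgroup.centralizer (omegaOne p ((S : Subgroup K) ⊓
        Subgroup.centralizer ((S : Subgroup K) : Set K)) : Set K) ⊔ fixedSub act := ⟨_, rfl⟩
  rw [← hK₁]
  have hN1 : Subgroup.normalizer (thompsonSubgroupOf p (S : Subgroup K) : Set K) ≤ K₁ :=
    hK₁ ▸ le_sup_of_le_left le_sup_left
  have hC1 : Subgroup.centralizer (omegaOne p ((S : Subgroup K) ⊓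
        Subgroup.centralizer ((S : Subgroup K) : Set K)) : Set K) ≤ K₁ :=
    hK₁ ▸ le_sup_of_le_left le_sup_right
  have hF1 : fixedSub act ≤ K₁ := hK₁ ▸ le_sup_right
  have hCV : Subgroup.centralizer (V : Set K) ≤ K₁ := by
    refine le_trans (Subgroup.centralizer_le ?_) hC1
    rw [hVdef]
    exact le_iSup (fun S : Sylow p K => omegaOne p ((S : Subgroup K) ⊓
      Subgroup.centralizer ((S : Subgroup K) : Set K))) S
  have hS1 : (S : Subgroup K) ≤ K₁ := by
    refine le_trans ?_ hN1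
    intro s hs
    haveI : (thompsonSubgroup p ↥(S : Subgroup K)).Characteristic :=
      (Cfsg.Agent.S0602.result (G := ↥(S : Subgroup K)) (p := p)).1
    have h1 : (⟨s, hs⟩ : ↥(S : Subgroup K)) ∈ Subgroup.normalizer
        ((thompsonSubgroup p ↥(S : Subgroup K) : Subgroup ↥(S : Subgroup K)) :
          Set ↥(S : Subgroup K)) := by
      rw [Subgroup.normalizer_eq_top]
      trivial
    exact Subgroup.le_normalizer_map (S : Subgroup K).subtype ⟨_, h1, rfl⟩
  suffices hJK : thompsonSubgroup p K ≤ K₁ by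
    rw [eq_top_iff]
    intro g _
    obtain ⟨j, hj, n, hn, rfl⟩ := frattini_J S g
    exact mul_mem (hJK hj) (hN1 hn)
  have hJN : ∀ (B : Subgroup (Hol V)), B ≤ H' V → IsBestOffenderOn p (V' V) B →
      Nat.card B = p → ∀ j ∈ thompsonSubgroup p K,
      psi V j ∈ Subgroup.normalizer ((⁅BO.Qc p (H' V), B⁆ ⊔ B : Subgroup (Hol V)) :
        Set (Hol V)) := by
    intro B hBH hB hcB j hj
    have h1 : thompsonSubgroup p K ≤ (Subgroup.normalizer
        ((⁅BO.Qc p (H' V), B⁆ ⊔ B : Subgroup (Hol V)) : Set (Hol V))).comap (psi V) := by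
      unfold thompsonSubgroup
      apply sSup_le
      intro A' hA'
      rw [← Subgroup.map_le_iff_le_comap]
      exact BO.bo_le_normalizer S' (map_le_H' V A')
        (bo_transfer V (Cfsg.Agent.S0606.result V hVel A' hA')) hBH hB hcB
    exact h1 hj
  unfold thompsonSubgroup
  apply sSup_le
  intro A hA
  have hBO := bo_transfer V (Cfsg.Agent.S0606.result V hVel A hA)
  obtain ⟨k, D, hDd, -, hsup⟩ := BO.decomp S' _ (A.map (psi V)) rfl (map_le_H' V A) hBO
  suffices hmap : A.map (psi V) ≤ K₁.map (psi V) by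
    intro a ha
    obtain ⟨k₁, hk₁, hk₁a⟩ := hmap ⟨a, ha, rfl⟩
    have h3 : k₁⁻¹ * a ∈ Subgroup.centralizer (V : Set K) := by
      rw [← psi_ker, MonoidHom.mem_ker, map_mul, map_inv, hk₁a, inv_mul_cancel]
    have e : a = k₁ * (k₁⁻¹ * a) := by group
    rw [e]
    exact mul_mem hk₁ (hCV h3)
  rw [← hsup]
  apply iSup_le
  intro i
  obtain ⟨hBA, hB, hcB⟩ := hDd i
  obtain ⟨B, hBdef⟩ : ∃ B, B = D i := ⟨_, rfl⟩
  rw [← hBdef] at hBA hB hcB ⊢
  have hBH : B ≤ H' V := hBA.trans (map_le_H' V A)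
  obtain ⟨j, hj, hjA⟩ := conj_into_sylow S hA
  have hjN := hJN B hBH hB hcB j hj
  obtain ⟨B₁, hB₁⟩ : ∃ B₁, B₁ = LemL.cj (psi V j) B := ⟨_, rfl⟩
  have hψjH : psi V j ∈ H' V := ⟨j, rfl⟩
  have hB₁H : B₁ ≤ H' V := by
    rw [hB₁]
    exact LemL.cj_le hBH hψjH
  have hB₁bo : IsBestOffenderOn p (V' V) B₁ := by
    rw [hB₁]
    exact BO.bo_cj hB (S'.hHV hψjH)
  have hcB₁ : Nat.card B₁ = p := by
    rw [hB₁, LemL.card_cj]
    exact hcB
  have hB₁S : B₁ ≤ K₁.map (psi V) := by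
    rw [hB₁]
    intro x hx
    rw [LemL.mem_cj] at hx
    obtain ⟨a, ha, hax⟩ := hBA hx
    refine ⟨j * a * j⁻¹, hS1 (hjA (LemL.conj_mem_cj ha)), ?_⟩
    rw [map_mul, map_mul, map_inv, hax]
    group
  have hE₁ : ⁅BO.Qc p (H' V), B₁⁆ ⊔ B₁ = ⁅BO.Qc p (H' V), B⁆ ⊔ B := by
    rw [hB₁, ← BO.E_cj (Subgroup.le_normalizer hψjH) B]
    exact LemL.cj_eq_of_mem_normalizer hjN
  have hfix := comp_fixed act hY hq hsep V hVel hD hVY B₁ hB₁H hB₁bo hcB₁
  have hE₁K : ⁅BO.Qc p (H' V), B₁⁆ ⊔ B₁ ≤ K₁.map (psi V) := by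
    apply BO.comp_gen hB₁H hcB₁
    intro e he b hb
    obtain ⟨k, hk, r, hkr, hrc⟩ := hfix e he
    have h3 : e * b * e⁻¹ = psi V k * b * (psi V k)⁻¹ := by
      rw [hkr]
      have h4 := hrc b (le_sup_right (a := ⁅BO.Qc p (H' V), B₁⁆) hb)
      calc e * b * e⁻¹ = e * (b * r) * r⁻¹ * e⁻¹ := by group
        _ = e * (r * b) * r⁻¹ * e⁻¹ := by rw [h4]
        _ = e * r * b * (e * r)⁻¹ := by group
    rw [h3]
    exact mul_mem (mul_mem ⟨k, hF1 hk, rfl⟩ (hB₁S hb)) (inv_mem ⟨k, hF1 hk, rfl⟩)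
  exact (le_sup_right : B ≤ ⁅BO.Qc p (H' V), B⁆ ⊔ B).trans (hE₁ ▸ hE₁K)

end gen

end Cfsg.Agent.Helper19.HOL
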