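import Mathlib
import Cfsg.Agent.Helper19.Gauss

/-!
Helper library (helper19): extraspecial 2-groups, worked out inside an ambient group `E` with a
central involution `z` such that all squares and commutators lie in `{1, z}` (`Amb z`).
Subgroups `A` with `ND z A` (centre of `A` is `{1, z}`) are classified up to isomorphism by
their order and the sign sum `T z A = ∑_{g ∈ A} ε(g²)`.
-/

set_option autoImplicit false

namespace Cfsg.Agent.Helper19.ES2

variable {E : Type*} [Group E]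

/-- Ambient hypotheses: `z` is a central involution and all squares and commutators lie in
`{1, z}`. -/
structure Amb (z : E) : Prop where
  z_ne : z ≠ 1
  z_sq : z * z = 1
  z_c : ∀ g : E, g * z = z * g
  sq : ∀ x : E, x * x = 1 ∨ x * x = z
  cm : ∀ x y : E, x * y * x⁻¹ * y⁻¹ = 1 ∨ x * y * x⁻¹ * y⁻¹ = z

open Classical in
/-- The sign character on `{1, z}`. -/
noncomputable def eps (z : E) (g : E) : ℤˣ := if g = z then -1 else 1

/-- Sign of the square. -/
noncomputable def Q (z : E) (g : E) : ℤˣ := eps z (g * g)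

/-- Sign of the commutator. -/
noncomputable def kap (z : E) (g h : E) : ℤˣ := eps z (g * h * g⁻¹ * h⁻¹)

theorem eps_one {z : E} (hz : Amb z) : eps z 1 = 1 := by
  unfold eps
  rw [if_neg hz.z_ne.symm]

theorem eps_z (z : E) : eps z z = -1 := by
  unfold eps
  rw [if_pos rfl]

theorem neg_one_ne_one : (-1 : ℤˣ) ≠ 1 := by decide

theorem neg_one_mul_neg_one : (-1 : ℤˣ) * (-1) = 1 := by decide

theorem eps_mul {z : E} (hz : Amb z) {u v : E} (hu : u = 1 ∨ u = z) (hv : v = 1 ∨ v = z) :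
    eps z (u * v) = eps z u * eps z v := by
  rcases hu with hu | hu <;> rcases hv with hv | hv
  · rw [hu, hv, mul_one, eps_one hz, mul_one]
  · rw [hu, hv, one_mul, eps_one hz, one_mul]
  · rw [hu, hv, mul_one, eps_one hz, mul_one]
  · rw [hu, hv, hz.z_sq, eps_one hz, eps_z, neg_one_mul_neg_one]

theorem eps_eq_one_iff {z : E} (hz : Amb z) {u : E} (hu : u = 1 ∨ u = z) :
    eps z u = 1 ↔ u = 1 := by
  rcases hu with hu | hu
  · rw [hu, eps_one hz]; simp
  · rw [hu, eps_z]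
    constructor
    · intro h; exact absurd h neg_one_ne_one
    · intro h; exact absurd h hz.z_ne

theorem mem_mul {z : E} (hz : Amb z) {u v : E} (hu : u = 1 ∨ u = z) (hv : v = 1 ∨ v = z) :
    u * v = 1 ∨ u * v = z := by
  rcases hu with hu | hu <;> rcases hv with hv | hv
  · left; rw [hu, hv, mul_one]
  · right; rw [hu, hv, one_mul]
  · right; rw [hu, hv, mul_one]
  · left; rw [hu, hv, hz.z_sq]

theorem cen {z : E} (hz : Amb z) (x y g : E) :
    g * (x * y * x⁻¹ * y⁻¹) = (x * y * x⁻¹ * y⁻¹) * g := by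
  rcases hz.cm x y with h | h
  · rw [h, mul_one, one_mul]
  · rw [h]; exact hz.z_c g

theorem kap_mul_left {z : E} (hz : Amb z) (g g' h : E) :
    kap z (g * g') h = kap z g h * kap z g' h := by
  unfold kap
  rw [Gauss.comm_mul_left (cen hz g' h), eps_mul hz (hz.cm g h) (hz.cm g' h)]

theorem kap_mul_right {z : E} (hz : Amb z) (g h h' : E) :
    kap z g (h * h') = kap z g h * kap z g h' := by
  unfold kap
  rw [Gauss.comm_mul_right (cen hz g h'), eps_mul hz (hz.cm g h) (hz.cm g h')]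

theorem kap_eq_one_iff {z : E} (hz : Amb z) (g h : E) : kap z g h = 1 ↔ g * h = h * g := by
  unfold kap
  rw [eps_eq_one_iff hz (hz.cm g h)]
  constructor
  · intro h1
    have e : g * h = (g * h * g⁻¹ * h⁻¹) * (h * g) := by group
    rw [e, h1, one_mul]
  · intro h1
    rw [h1]; group

theorem kap_self {z : E} (hz : Amb z) (g : E) : kap z g g = 1 := (kap_eq_one_iff hz g g).mpr rfl

theorem kap_symm {z : E} (hz : Amb z) (g h : E) : kap z g h = kap z h g := by
  rcases Int.units_eq_one_or (kap z g h) with h1 | h1 <;>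
    rcases Int.units_eq_one_or (kap z h g) with h2 | h2
  · rw [h1, h2]
  · exfalso
    have := (kap_eq_one_iff hz h g).mpr ((kap_eq_one_iff hz g h).mp h1).symm
    rw [h2] at this; exact neg_one_ne_one this
  · exfalso
    have := (kap_eq_one_iff hz g h).mpr ((kap_eq_one_iff hz h g).mp h2).symm
    rw [h1] at this; exact neg_one_ne_one this
  · rw [h1, h2]

theorem kap_eq_neg_one_iff {z : E} (hz : Amb z) (g h : E) : kap z g h = -1 ↔ g * h ≠ h * g := by
  rw [Ne, ← kap_eq_one_iff hz g h]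
  rcases Int.units_eq_one_or (kap z g h) with h1 | h1
  · rw [h1]; constructor
    · intro h; exact absurd h.symm neg_one_ne_one
    · intro h; exact absurd rfl h
  · rw [h1]; constructor
    · intro _; exact neg_one_ne_one
    · intro _; rfl

theorem kap_inv_left {z : E} (hz : Amb z) (g h : E) : kap z g⁻¹ h = kap z g h := by
  have h1 := kap_mul_left hz g⁻¹ g h
  rw [inv_mul_cancel] at h1
  have h2 : kap z 1 h = 1 := (kap_eq_one_iff hz 1 h).mpr (by rw [one_mul, mul_one])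
  rw [h2] at h1
  rcases Int.units_eq_one_or (kap z g h) with h3 | h3 <;>
    rcases Int.units_eq_one_or (kap z g⁻¹ h) with h4 | h4
  · rw [h3, h4]
  · rw [h3, h4] at h1; exact absurd h1 (by decide)
  · rw [h3, h4] at h1; exact absurd h1 (by decide)
  · rw [h3, h4]

theorem sq_mul' {z : E} (hz : Amb z) (g h : E) :
    (g * h) * (g * h) = (g * g) * (h * h) * (h * g * h⁻¹ * g⁻¹) := by
  have := Gauss.sq_mul (cen hz h g)
  rw [pow_two, pow_two, pow_two] at this
  exact this

theorem Q_mul {z : E} (hz : Amb z) (g h : E) : Q z (g * h) = Q z g * Q z h * kap z h g := by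
  unfold Q kap
  rw [sq_mul' hz, eps_mul hz (mem_mul hz (hz.sq g) (hz.sq h)) (hz.cm h g),
    eps_mul hz (hz.sq g) (hz.sq h)]

theorem Q_one {z : E} (hz : Amb z) : Q z 1 = 1 := by
  unfold Q; rw [mul_one]; exact eps_one hz

theorem Q_z {z : E} (hz : Amb z) : Q z z = 1 := by
  unfold Q; rw [hz.z_sq]; exact eps_one hz

theorem Q_eq_one_iff {z : E} (hz : Amb z) (g : E) : Q z g = 1 ↔ g * g = 1 := by
  unfold Q; exact eps_eq_one_iff hz (hz.sq g)

theorem Q_eq_neg_one_iff {z : E} (hz : Amb z) (g : E) : Q z g = -1 ↔ g * g = z := by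
  unfold Q
  rcases hz.sq g with h | h
  · rw [h, eps_one hz]
    constructor
    · intro h'; exact absurd h'.symm neg_one_ne_one
    · intro h'; exact absurd h'.symm hz.z_ne
  · rw [h, eps_z]; simp

/-- The centralizer of `x` in `A`. -/
def cent1 (A : Subgroup E) (x : E) : Subgroup E where
  carrier := {g | g ∈ A ∧ g * x = x * g}
  one_mem' := ⟨A.one_mem, by rw [one_mul, mul_one]⟩
  mul_mem' := fun {a b} ha hb => ⟨A.mul_mem ha.1 hb.1, by
    rw [mul_assoc, hb.2, ← mul_assoc, ha.2, mul_assoc]⟩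
  inv_mem' := fun {a} ha => ⟨A.inv_mem ha.1, by
    have := ha.2
    calc a⁻¹ * x = a⁻¹ * (x * a) * a⁻¹ := by group
      _ = a⁻¹ * (a * x) * a⁻¹ := by rw [this]
      _ = x * a⁻¹ := by group⟩

theorem mem_cent1 (A : Subgroup E) (x g : E) : g ∈ cent1 A x ↔ g ∈ A ∧ g * x = x * g := Iff.rfl

theorem cent1_le (A : Subgroup E) (x : E) : cent1 A x ≤ A := fun _ h => h.1

/-- `A = C_A(x) ∪ C_A(x) y` when `y ∈ A` does not commute with `x`. -/
theorem cover {z : E} (hz : Amb z) (A : Subgroup E) (x y : E) (hy : y ∈ A)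
    (hxy : kap z y x = -1) : ∀ g ∈ A, g ∈ cent1 A x ∨ g * y⁻¹ ∈ cent1 A x := by
  intro g hg
  rcases Int.units_eq_one_or (kap z g x) with h1 | h1
  · left; exact ⟨hg, (kap_eq_one_iff hz g x).mp h1⟩
  · right
    refine ⟨A.mul_mem hg (A.inv_mem hy), (kap_eq_one_iff hz _ x).mp ?_⟩
    rw [kap_mul_left hz, kap_inv_left hz, h1, hxy, neg_one_mul_neg_one]

theorem not_mem_cent1 {z : E} (hz : Amb z) (A : Subgroup E) (x y : E)
    (hxy : kap z y x = -1) : y ∉ cent1 A x := by
  intro h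
  have := (kap_eq_one_iff hz y x).mpr h.2
  rw [hxy] at this
  exact neg_one_ne_one this

/-- Nondegeneracy: the centre of `A` is `{1, z}`. -/
def ND (z : E) (A : Subgroup E) : Prop :=
  z ∈ A ∧ ∀ g ∈ A, (∀ h ∈ A, g * h = h * g) → g = 1 ∨ g = z

theorem nd_cent {z : E} (hz : Amb z) (A : Subgroup E) (hA : ND z A) (x y : E) (hx : x ∈ A)
    (hy : y ∈ A) (hxy : kap z x y = -1) : ND z (cent1 (cent1 A x) y) := by
  have hyx : kap z y x = -1 := by rw [kap_symm hz]; exact hxy
  refine ⟨⟨⟨hA.1, (hz.z_c x).symm⟩, (hz.z_c y).symm⟩, ?_⟩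
  intro g hg hcomm
  apply hA.2 g hg.1.1
  intro h hh
  -- decompose h
  have key : ∀ h₁ ∈ cent1 A x, g * h₁ = h₁ * g := by
    intro h₁ hh₁
    rcases cover hz (cent1 A x) y x ⟨hx, rfl⟩ hxy h₁ hh₁ with h2 | h2
    · exact hcomm h₁ h2
    · have e1 := hcomm _ h2
      have e2 : g * x = x * g := hg.1.2
      calc g * h₁ = g * (h₁ * x⁻¹) * x := by group
        _ = h₁ * x⁻¹ * g * x := by rw [e1]
        _ = h₁ * x⁻¹ * (g * x) := by group
        _ = h₁ * x⁻¹ * (x * g) := by rw [e2]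
        _ = h₁ * g := by group
  rcases cover hz A x y hy hyx h hh with h2 | h2
  · exact key h h2
  · have e1 := key _ h2
    have e2 : g * y = y * g := hg.2
    calc g * h = g * (h * y⁻¹) * y := by group
      _ = h * y⁻¹ * g * y := by rw [e1]
      _ = h * y⁻¹ * (g * y) := by group
      _ = h * y⁻¹ * (y * g) := by rw [e2]
      _ = h * g := by group

section Sums

variable [Fintype E]

/-- Sum of `f` over a subgroup. -/
noncomputable def sumOn (C : Subgroup E) (f : E → ℤ) : ℤ :=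
  ∑ g : E, Set.indicator (C : Set E) f g

theorem sumOn_congr (C : Subgroup E) {f g : E → ℤ} (h : ∀ c ∈ C, f c = g c) :
    sumOn C f = sumOn C g := by
  unfold sumOn
  apply Finset.sum_congr rfl
  intro x _
  by_cases hx : x ∈ C
  · rw [Set.indicator_of_mem hx, Set.indicator_of_mem hx, h x hx]
  · rw [Set.indicator_of_notMem hx, Set.indicator_of_notMem hx]

theorem sumOn_mul_const (C : Subgroup E) (f : E → ℤ) (k : ℤ) :
    sumOn C (fun c => f c * k) = sumOn C f * k := by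
  unfold sumOn
  rw [Finset.sum_mul]
  apply Finset.sum_congr rfl
  intro x _
  by_cases hx : x ∈ C
  · rw [Set.indicator_of_mem hx, Set.indicator_of_mem hx]
  · rw [Set.indicator_of_notMem hx, Set.indicator_of_notMem hx, zero_mul]

theorem sumOn_index_two (C D : Subgroup E) (x : E) (hCD : C ≤ D) (hxD : x ∈ D) (hx : x ∉ C)
    (hcov : ∀ g ∈ D, g ∈ C ∨ g * x⁻¹ ∈ C) (f : E → ℤ) :
    sumOn D f = sumOn C f + sumOn C (fun c => f (c * x)) := by
  unfold sumOn
  have h1 : ∀ g : E, Set.indicator (D : Set E) f g = Set.indicator (C : Set E) f g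
      + Set.indicator (C : Set E) (fun c => f (c * x)) (g * x⁻¹) := by
    intro g
    by_cases hg : g ∈ C
    · have hg' : g * x⁻¹ ∉ C := fun h => hx (by
        have := C.mul_mem (C.inv_mem h) hg
        simpa using this)
      rw [Set.indicator_of_mem (hCD hg), Set.indicator_of_mem hg, Set.indicator_of_notMem hg',
        add_zero]
    · by_cases hg2 : g * x⁻¹ ∈ C
      · have hgD : g ∈ D := by
          have := D.mul_mem (hCD hg2) hxD
          simpa using this
        rw [Set.indicator_of_mem hgD, Set.indicator_of_notMem hg, Set.indicator_of_mem hg2,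
          zero_add]
        show f g = f (g * x⁻¹ * x)
        rw [inv_mul_cancel_right]
      · have hgD : g ∉ D := fun h => by
          rcases hcov g h with h' | h'
          · exact hg h'
          · exact hg2 h'
        rw [Set.indicator_of_notMem hgD, Set.indicator_of_notMem hg,
          Set.indicator_of_notMem hg2, add_zero]
  rw [Finset.sum_congr rfl (fun g _ => h1 g), Finset.sum_add_distrib]
  congr 1
  exact Equiv.sum_comp (Equiv.mulRight x⁻¹)
    (fun h => Set.indicator (C : Set E) (fun c => f (c * x)) h)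

theorem card_eq_sumOn (C : Subgroup E) : (Nat.card C : ℤ) = sumOn C (fun _ => 1) := by
  classical
  unfold sumOn
  simp [Set.indicator_apply, Nat.card_eq_fintype_card, Fintype.card_subtype]

/-- The sign sum of a subgroup. -/
noncomputable def T (z : E) (C : Subgroup E) : ℤ := sumOn C (fun g => ((Q z g : ℤˣ) : ℤ))

end Sums

section Split

variable [Fintype E]

theorem card_index_two {z : E} (hz : Amb z) (A : Subgroup E) (x y : E) (hy : y ∈ A)
    (hyx : kap z y x = -1) : Nat.card A = 2 * Nat.card (cent1 A x) := by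
  have h1 : sumOn A (fun _ => (1 : ℤ)) = sumOn (cent1 A x) (fun _ => 1)
      + sumOn (cent1 A x) (fun _ => 1) :=
    sumOn_index_two (cent1 A x) A y (cent1_le A x) hy (not_mem_cent1 hz A x y hyx)
      (cover hz A x y hy hyx) (fun _ => 1)
  rw [← card_eq_sumOn, ← card_eq_sumOn] at h1
  omega

theorem split_card {z : E} (hz : Amb z) (A : Subgroup E) (x y : E) (hx : x ∈ A) (hy : y ∈ A)
    (hxy : kap z x y = -1) : Nat.card A = 4 * Nat.card (cent1 (cent1 A x) y) := by
  have hyx : kap z y x = -1 := by rw [kap_symm hz]; exact hxy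
  have h1 := card_index_two hz A x y hy hyx
  have h2 := card_index_two hz (cent1 A x) y x ⟨hx, rfl⟩ hxy
  omega

theorem split_T {z : E} (hz : Amb z) (A : Subgroup E) (x y : E) (hx : x ∈ A) (hy : y ∈ A)
    (hxy : kap z x y = -1) :
    T z A = T z (cent1 (cent1 A x) y)
      * (1 + ((Q z x : ℤˣ) : ℤ) + ((Q z y : ℤˣ) : ℤ) - ((Q z x : ℤˣ) : ℤ) * ((Q z y : ℤˣ) : ℤ)) := by
  have hyx : kap z y x = -1 := by rw [kap_symm hz]; exact hxy
  have hCx : ∀ c ∈ cent1 (cent1 A x) y, kap z x c = 1 := fun c hc =>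
    (kap_eq_one_iff hz x c).mpr hc.1.2.symm
  have hCy : ∀ c ∈ cent1 (cent1 A x) y, kap z y c = 1 := fun c hc =>
    (kap_eq_one_iff hz y c).mpr hc.2.symm
  have e1 : sumOn A (fun g => ((Q z g : ℤˣ) : ℤ))
      = sumOn (cent1 A x) (fun g => ((Q z g : ℤˣ) : ℤ))
        + sumOn (cent1 A x) (fun g => ((Q z (g * y) : ℤˣ) : ℤ)) :=
    sumOn_index_two (cent1 A x) A y (cent1_le A x) hy (not_mem_cent1 hz A x y hyx)
      (cover hz A x y hy hyx) (fun g => ((Q z g : ℤˣ) : ℤ))
  have e2 : sumOn (cent1 A x) (fun g => ((Q z g : ℤˣ) : ℤ))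
      = sumOn (cent1 (cent1 A x) y) (fun g => ((Q z g : ℤˣ) : ℤ))
        + sumOn (cent1 (cent1 A x) y) (fun g => ((Q z (g * x) : ℤˣ) : ℤ)) :=
    sumOn_index_two (cent1 (cent1 A x) y) (cent1 A x) x (cent1_le _ y) ⟨hx, rfl⟩
      (not_mem_cent1 hz _ y x hxy) (cover hz (cent1 A x) y x ⟨hx, rfl⟩ hxy)
      (fun g => ((Q z g : ℤˣ) : ℤ))
  have e3 : sumOn (cent1 A x) (fun g => ((Q z (g * y) : ℤˣ) : ℤ))
      = sumOn (cent1 (cent1 A x) y) (fun g => ((Q z (g * y) : ℤˣ) : ℤ))
        + sumOn (cent1 (cent1 A x) y) (fun g => ((Q z (g * x * y) : ℤˣ) : ℤ)) :=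
    sumOn_index_two (cent1 (cent1 A x) y) (cent1 A x) x (cent1_le _ y) ⟨hx, rfl⟩
      (not_mem_cent1 hz _ y x hxy) (cover hz (cent1 A x) y x ⟨hx, rfl⟩ hxy)
      (fun g => ((Q z (g * y) : ℤˣ) : ℤ))
  have e4 : sumOn (cent1 (cent1 A x) y) (fun g => ((Q z (g * x) : ℤˣ) : ℤ))
      = sumOn (cent1 (cent1 A x) y) (fun g => ((Q z g : ℤˣ) : ℤ)) * ((Q z x : ℤˣ) : ℤ) := by
    rw [← sumOn_mul_const]
    apply sumOn_congr
    intro c hc
    show ((Q z (c * x) : ℤˣ) : ℤ) = ((Q z c : ℤˣ) : ℤ) * ((Q z x : ℤˣ) : ℤ)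
    rw [Q_mul hz, hCx c hc, mul_one, Units.val_mul]
  have e5 : sumOn (cent1 (cent1 A x) y) (fun g => ((Q z (g * y) : ℤˣ) : ℤ))
      = sumOn (cent1 (cent1 A x) y) (fun g => ((Q z g : ℤˣ) : ℤ)) * ((Q z y : ℤˣ) : ℤ) := by
    rw [← sumOn_mul_const]
    apply sumOn_congr
    intro c hc
    show ((Q z (c * y) : ℤˣ) : ℤ) = ((Q z c : ℤˣ) : ℤ) * ((Q z y : ℤˣ) : ℤ)
    rw [Q_mul hz, hCy c hc, mul_one, Units.val_mul]
  have e6 : sumOn (cent1 (cent1 A x) y) (fun g => ((Q z (g * x * y) : ℤˣ) : ℤ))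
      = sumOn (cent1 (cent1 A x) y) (fun g => ((Q z g : ℤˣ) : ℤ))
        * (-(((Q z x : ℤˣ) : ℤ) * ((Q z y : ℤˣ) : ℤ))) := by
    rw [← sumOn_mul_const]
    apply sumOn_congr
    intro c hc
    show ((Q z (c * x * y) : ℤˣ) : ℤ)
      = ((Q z c : ℤˣ) : ℤ) * (-(((Q z x : ℤˣ) : ℤ) * ((Q z y : ℤˣ) : ℤ)))
    rw [Q_mul hz (c * x) y, Q_mul hz c x, hCx c hc, kap_mul_right hz y c x, hCy c hc, hyx]
    push_cast
    ring
  unfold T
  rw [e1, e2, e3, e4, e5, e6]
  ring

theorem base_case {z : E} (hz : Amb z) (A : Subgroup E) (hzA : z ∈ A)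
    (h : ∀ g ∈ A, g = 1 ∨ g = z) : Nat.card A = 2 ∧ T z A = 2 := by
  classical
  have key : ∀ f : E → ℤ, sumOn A f = f 1 + f z := by
    intro f
    unfold sumOn
    have h1 : ∀ g : E, Set.indicator (A : Set E) f g
        = (if g = 1 then f 1 else 0) + (if g = z then f z else 0) := by
      intro g
      by_cases hg : g ∈ A
      · rw [Set.indicator_of_mem hg]
        rcases h g hg with h' | h'
        · rw [h', if_pos rfl, if_neg hz.z_ne.symm, add_zero]
        · rw [h', if_neg hz.z_ne, if_pos rfl, zero_add]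
      · have hg1 : g ≠ 1 := fun e => hg (by rw [e]; exact A.one_mem)
        have hgz : g ≠ z := fun e => hg (by rw [e]; exact hzA)
        rw [Set.indicator_of_notMem hg, if_neg hg1, if_neg hgz, add_zero]
    rw [Finset.sum_congr rfl (fun g _ => h1 g), Finset.sum_add_distrib]
    simp
  constructor
  · have := card_eq_sumOn A
    rw [key] at this
    omega
  · unfold T
    rw [key, Q_one hz, Q_z hz]
    simp

theorem two_elems {z : E} (hz : Amb z) (C : Subgroup E) (hzC : z ∈ C)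
    (hcard : Nat.card C = 2) : ∀ c ∈ C, c = 1 ∨ c = z := by
  intro c hc
  by_contra hcon
  push Not at hcon
  obtain ⟨hc1, hcz⟩ := hcon
  obtain ⟨a, b, -, huniv⟩ := Nat.card_eq_two_iff.mp hcard
  have mem : ∀ u : C, u = a ∨ u = b := fun u => by
    have : u ∈ ({a, b} : Set C) := by rw [huniv]; exact Set.mem_univ u
    exact this
  have hz1 : z ≠ 1 := hz.z_ne
  rcases mem 1 with h1 | h1 <;> rcases mem ⟨z, hzC⟩ with h2 | h2 <;>
    rcases mem ⟨c, hc⟩ with h3 | h3 <;>
    first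
      | exact hz1 (congrArg Subtype.val (h1.trans h2.symm)).symm
      | exact hc1 (congrArg Subtype.val (h1.trans h3.symm)).symm
      | exact hcz (congrArg Subtype.val (h2.trans h3.symm)).symm

/-- Order and sign sum of a nondegenerate subgroup. -/
theorem structure_thm {z : E} (hz : Amb z) : ∀ n : ℕ, ∀ A : Subgroup E, ND z A →
    Nat.card A = n → ∃ m : ℕ, n = 2 ^ (2 * m + 1) ∧ (T z A = 2 ^ (m + 1) ∨ T z A = -2 ^ (m + 1)) := by
  intro n
  induction n using Nat.strong_induction_on with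
  | _ n ih =>
    intro A hA hn
    by_cases hab : ∀ g ∈ A, ∀ h ∈ A, g * h = h * g
    · obtain ⟨h1, h2⟩ := base_case hz A hA.1 (fun g hg => hA.2 g hg (hab g hg))
      exact ⟨0, by rw [← hn, h1]; rfl, Or.inl (by rw [h2]; rfl)⟩
    · push Not at hab
      obtain ⟨x, hx, y, hy, hxy⟩ := hab
      have hk : kap z x y = -1 := (kap_eq_neg_one_iff hz x y).mpr hxy
      have hc := split_card hz A x y hx hy hk
      have hT := split_T hz A x y hx hy hk
      have hpos : 0 < Nat.card (cent1 (cent1 A x) y) := Nat.card_pos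
      obtain ⟨m, hm, hTm⟩ := ih (Nat.card (cent1 (cent1 A x) y)) (by omega) _
        (nd_cent hz A hA x y hx hy hk) rfl
      refine ⟨m + 1, by rw [← hn, hc, hm]; ring, ?_⟩
      have hkk : (1 + ((Q z x : ℤˣ) : ℤ) + ((Q z y : ℤˣ) : ℤ)
          - ((Q z x : ℤˣ) : ℤ) * ((Q z y : ℤˣ) : ℤ)) = 2 ∨
          (1 + ((Q z x : ℤˣ) : ℤ) + ((Q z y : ℤˣ) : ℤ)
          - ((Q z x : ℤˣ) : ℤ) * ((Q z y : ℤˣ) : ℤ)) = -2 := by
        rcases Int.units_eq_one_or (Q z x) with h1 | h1 <;>
          rcases Int.units_eq_one_or (Q z y) with h2 | h2 <;> simp [h1, h2]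
      rw [hT]
      rcases hkk with h | h <;> rcases hTm with h' | h'
      · left; rw [h, h']; ring
      · right; rw [h, h']; ring
      · right; rw [h, h']; ring
      · left; rw [h, h']; ring

/-- Normal form of a hyperbolic pair: two non-commuting involutions, or a quaternion pair with
trivial centralizer. -/
theorem normal_form {z : E} (hz : Amb z) (A : Subgroup E) (hA : ND z A)
    (hab : ¬ ∀ g ∈ A, ∀ h ∈ A, g * h = h * g) :
    ∃ x ∈ A, ∃ y ∈ A, kap z x y = -1 ∧ ((Q z x = 1 ∧ Q z y = 1) ∨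
      (Q z x = -1 ∧ Q z y = -1 ∧ ∀ c ∈ cent1 (cent1 A x) y, c = 1 ∨ c = z)) := by
  by_cases hinv : ∃ x ∈ A, ∃ y ∈ A, kap z x y = -1 ∧ Q z x = 1 ∧ Q z y = 1
  · obtain ⟨x, hx, y, hy, hk, h1, h2⟩ := hinv
    exact ⟨x, hx, y, hy, hk, Or.inl ⟨h1, h2⟩⟩
  · push Not at hab
    obtain ⟨x, hx, y, hy, hxy⟩ := hab
    have hk : kap z x y = -1 := (kap_eq_neg_one_iff hz x y).mpr hxy
    have hyx : kap z y x = -1 := by rw [kap_symm hz]; exact hk
    have hQx : Q z x = -1 := by
      rcases Int.units_eq_one_or (Q z x) with h1 | h1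
      · exfalso
        rcases Int.units_eq_one_or (Q z y) with h2 | h2
        · exact hinv ⟨x, hx, y, hy, hk, h1, h2⟩
        · apply hinv
          refine ⟨x, hx, x * y, A.mul_mem hx hy, ?_, h1, ?_⟩
          · rw [kap_mul_right hz, kap_self hz, one_mul, hk]
          · rw [Q_mul hz, h1, h2, hyx]; decide
      · exact h1
    have hQy : Q z y = -1 := by
      rcases Int.units_eq_one_or (Q z y) with h2 | h2
      · exfalso
        apply hinv
        refine ⟨x * y, A.mul_mem hx hy, y, hy, ?_, ?_, h2⟩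
        · rw [kap_mul_left hz, kap_self hz, mul_one, hk]
        · rw [Q_mul hz, hQx, h2, hyx]; decide
      · exact h2
    refine ⟨x, hx, y, hy, hk, Or.inr ⟨hQx, hQy, ?_⟩⟩
    have hCnd := nd_cent hz A hA x y hx hy hk
    intro c hc
    apply hCnd.2 c hc
    intro d hd
    by_contra hcd
    have hkcd : kap z c d = -1 := (kap_eq_neg_one_iff hz c d).mpr hcd
    have hcA : c ∈ A := hc.1.1
    have hdA : d ∈ A := hd.1.1
    have hxc : kap z x c = 1 := (kap_eq_one_iff hz x c).mpr hc.1.2.symm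
    have hyc : kap z y c = 1 := (kap_eq_one_iff hz y c).mpr hc.2.symm
    have hxd : kap z x d = 1 := (kap_eq_one_iff hz x d).mpr hd.1.2.symm
    have hyd : kap z y d = 1 := (kap_eq_one_iff hz y d).mpr hd.2.symm
    rcases Int.units_eq_one_or (Q z c) with h1 | h1
    · rcases Int.units_eq_one_or (Q z d) with h2 | h2
      · exact hinv ⟨c, hcA, d, hdA, hkcd, h1, h2⟩
      · apply hinv
        refine ⟨x * d, A.mul_mem hx hdA, y * d, A.mul_mem hy hdA, ?_, ?_, ?_⟩
        · rw [kap_mul_left hz, kap_mul_right hz, kap_mul_right hz, hk, hxd, kap_symm hz d y,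
            hyd, kap_self hz]
          decide
        · rw [Q_mul hz, hQx, h2, kap_symm hz d x, hxd]; decide
        · rw [Q_mul hz, hQy, h2, kap_symm hz d y, hyd]; decide
    · apply hinv
      refine ⟨x * c, A.mul_mem hx hcA, y * c, A.mul_mem hy hcA, ?_, ?_, ?_⟩
      · rw [kap_mul_left hz, kap_mul_right hz, kap_mul_right hz, hk, hxc, kap_symm hz c y,
          hyc, kap_self hz]
        decide
      · rw [Q_mul hz, hQx, h1, kap_symm hz c x, hxc]; decide
      · rw [Q_mul hz, hQy, h1, kap_symm hz c y, hyc]; decide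

end Split

section Iso

/-- Extending an isomorphism across an index-two step `D = C ∪ C x`. -/
theorem extend_iso {G G' : Type*} [Group G] [Group G'] [Finite G] [Finite G']
    (C D : Subgroup G) (C' D' : Subgroup G') (x : G) (x' : G') (f : C ≃* C')
    (hCD : C ≤ D) (hxD : x ∈ D) (hx : x ∉ C)
    (hcov : ∀ g ∈ D, g ∈ C ∨ g * x⁻¹ ∈ C)
    (hn : ∀ c ∈ C, x * c * x⁻¹ ∈ C) (hsq : x * x ∈ C)
    (hCD' : C' ≤ D') (hxD' : x' ∈ D') (hx' : x' ∉ C')
    (hcard : Nat.card D = Nat.card D')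
    (hfsq : (f ⟨x * x, hsq⟩ : G') = x' * x')
    (hconj : ∀ c (hc : c ∈ C), (f ⟨x * c * x⁻¹, hn c hc⟩ : G') = x' * (f ⟨c, hc⟩ : G') * x'⁻¹) :
    ∃ F : D ≃* D', (∀ c (hc : c ∈ C), (F ⟨c, hCD hc⟩ : G') = (f ⟨c, hc⟩ : G')) ∧
      (F ⟨x, hxD⟩ : G') = x' := by
  classical
  let φ : G → G' := fun g =>
    if h : g ∈ C then (f ⟨g, h⟩ : G')
    else if h' : g * x⁻¹ ∈ C then (f ⟨g * x⁻¹, h'⟩ : G') * x' else 1
  have φ1 : ∀ g (h : g ∈ C), φ g = (f ⟨g, h⟩ : G') := fun g h => by
    show (if h : g ∈ C then (f ⟨g, h⟩ : G')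
      else if h' : g * x⁻¹ ∈ C then (f ⟨g * x⁻¹, h'⟩ : G') * x' else 1) = _
    rw [dif_pos h]
  have φ2 : ∀ g (h : g ∉ C) (h' : g * x⁻¹ ∈ C), φ g = (f ⟨g * x⁻¹, h'⟩ : G') * x' :=
    fun g h h' => by
      show (if h : g ∈ C then (f ⟨g, h⟩ : G')
        else if h' : g * x⁻¹ ∈ C then (f ⟨g * x⁻¹, h'⟩ : G') * x' else 1) = _
      rw [dif_neg h, dif_pos h']
  have fmul : ∀ a b (ha : a ∈ C) (hb : b ∈ C),
      (f ⟨a * b, C.mul_mem ha hb⟩ : G') = (f ⟨a, ha⟩ : G') * (f ⟨b, hb⟩ : G') := by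
    intro a b ha hb
    have : (⟨a * b, C.mul_mem ha hb⟩ : C) = ⟨a, ha⟩ * ⟨b, hb⟩ := rfl
    rw [this, map_mul]; rfl
  have fcongr : ∀ a b (ha : a ∈ C) (hb : b ∈ C), a = b →
      (f ⟨a, ha⟩ : G') = (f ⟨b, hb⟩ : G') := by
    intro a b ha hb hab; subst hab; rfl
  have hφmul : ∀ g ∈ D, ∀ h ∈ D, φ (g * h) = φ g * φ h := by
    intro g hg h hh
    by_cases hgC : g ∈ C
    · by_cases hhC : h ∈ C
      · rw [φ1 _ (C.mul_mem hgC hhC), φ1 g hgC, φ1 h hhC, fmul _ _ hgC hhC]
      · have hh' : h * x⁻¹ ∈ C := (hcov h hh).resolve_left hhC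
        have hghC : g * h ∉ C := fun hc => hhC (by
          have := C.mul_mem (C.inv_mem hgC) hc
          simpa using this)
        have hgh' : g * h * x⁻¹ ∈ C := by
          have := C.mul_mem hgC hh'
          rwa [← mul_assoc] at this
        rw [φ2 _ hghC hgh', φ1 g hgC, φ2 h hhC hh',
          fcongr (g * h * x⁻¹) (g * (h * x⁻¹)) hgh' (C.mul_mem hgC hh') (mul_assoc _ _ _),
          fmul _ _ hgC hh', mul_assoc]
    · have hg' : g * x⁻¹ ∈ C := (hcov g hg).resolve_left hgC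
      by_cases hhC : h ∈ C
      · have hghC : g * h ∉ C := fun hc => hgC (by
          have := C.mul_mem hc (C.inv_mem hhC)
          simpa using this)
        have hxh : x * h * x⁻¹ ∈ C := hn h hhC
        have hgh' : g * h * x⁻¹ ∈ C := by
          have := C.mul_mem hg' hxh
          have e : g * x⁻¹ * (x * h * x⁻¹) = g * h * x⁻¹ := by group
          rwa [e] at this
        rw [φ2 _ hghC hgh', φ2 g hgC hg', φ1 h hhC,
          fcongr (g * h * x⁻¹) (g * x⁻¹ * (x * h * x⁻¹)) hgh' (C.mul_mem hg' hxh) (by group),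
          fmul _ _ hg' hxh, hconj h hhC]
        group
      · have hh' : h * x⁻¹ ∈ C := (hcov h hh).resolve_left hhC
        have hxh : x * (h * x⁻¹) * x⁻¹ ∈ C := hn _ hh'
        have hghC : g * h ∈ C := by
          have := C.mul_mem (C.mul_mem hg' hxh) hsq
          have e : g * x⁻¹ * (x * (h * x⁻¹) * x⁻¹) * (x * x) = g * h := by group
          rwa [e] at this
        rw [φ1 _ hghC, φ2 g hgC hg', φ2 h hhC hh',
          fcongr (g * h) (g * x⁻¹ * (x * (h * x⁻¹) * x⁻¹) * (x * x)) hghC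
            (C.mul_mem (C.mul_mem hg' hxh) hsq) (by group),
          fmul _ _ (C.mul_mem hg' hxh) hsq, fmul _ _ hg' hxh, hconj _ hh', hfsq]
        group
  have hφD : ∀ g ∈ D, φ g ∈ D' := by
    intro g hg
    by_cases hgC : g ∈ C
    · rw [φ1 g hgC]; exact hCD' (f ⟨g, hgC⟩).2
    · have hg' := (hcov g hg).resolve_left hgC
      rw [φ2 g hgC hg']; exact D'.mul_mem (hCD' (f ⟨_, hg'⟩).2) hxD'
  have hφinj : ∀ g ∈ D, φ g = 1 → g = 1 := by
    intro g hg h1
    by_cases hgC : g ∈ C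
    · rw [φ1 g hgC] at h1
      have h2 : f ⟨g, hgC⟩ = 1 := Subtype.ext h1
      have h3 : (⟨g, hgC⟩ : C) = 1 := by
        apply f.injective
        rw [h2, map_one]
      exact congrArg Subtype.val h3
    · exfalso
      have hg' := (hcov g hg).resolve_left hgC
      rw [φ2 g hgC hg'] at h1
      apply hx'
      have : x' = ((f ⟨g * x⁻¹, hg'⟩ : C') : G')⁻¹ := eq_inv_of_mul_eq_one_right h1
      rw [this]
      exact C'.inv_mem (f ⟨g * x⁻¹, hg'⟩).2
  let Fhom : D →* D' :=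
    { toFun := fun g => ⟨φ g.1, hφD g.1 g.2⟩
      map_one' := Subtype.ext (by
        show φ 1 = 1
        rw [φ1 1 C.one_mem]
        have : (⟨1, C.one_mem⟩ : C) = 1 := rfl
        rw [this, map_one]; rfl)
      map_mul' := fun a b => Subtype.ext (hφmul a.1 a.2 b.1 b.2) }
  have hinj : Function.Injective Fhom := by
    rw [injective_iff_map_eq_one]
    intro a ha
    exact Subtype.ext (hφinj a.1 a.2 (congrArg Subtype.val ha))
  have hbij : Function.Bijective Fhom := hinj.bijective_of_nat_card_le (le_of_eq hcard.symm)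
  refine ⟨MulEquiv.ofBijective Fhom hbij, ?_, ?_⟩
  · intro c hc
    show φ c = _
    exact φ1 c hc
  · show φ x = x'
    have hxx : x * x⁻¹ ∈ C := by rw [mul_inv_cancel]; exact C.one_mem
    rw [φ2 x hx hxx]
    have : (⟨x * x⁻¹, hxx⟩ : C) = 1 := Subtype.ext (mul_inv_cancel x)
    rw [this, map_one]
    simp

theorem comm_eq_z {z : E} (hz : Amb z) (x y : E) (hyx : kap z y x = -1) :
    y * x * y⁻¹ * x⁻¹ = z := by
  have := (kap_eq_neg_one_iff hz y x).mp hyx
  rcases hz.cm y x with h | h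
  · exfalso; apply this
    have e : y * x = (y * x * y⁻¹ * x⁻¹) * (x * y) := by group
    rw [e, h, one_mul]
  · exact h

/-- Extending an isomorphism of centralizers of hyperbolic pairs with the same data. -/
theorem ext_split {E' : Type*} [Group E'] [Fintype E] [Fintype E'] {z : E} {z' : E'}
    (hz : Amb z) (hz' : Amb z') (A : Subgroup E) (A' : Subgroup E') (x y : E) (x' y' : E')
    (hx : x ∈ A) (hy : y ∈ A) (hx' : x' ∈ A') (hy' : y' ∈ A') (hzA : z ∈ A)
    (hk : kap z x y = -1) (hk' : kap z' x' y' = -1)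
    (hQx : Q z x = Q z' x') (hQy : Q z y = Q z' y')
    (hcard : Nat.card A = Nat.card A')
    (f : cent1 (cent1 A x) y ≃* cent1 (cent1 A' x') y')
    (hfz : ∀ h : z ∈ cent1 (cent1 A x) y, (f ⟨z, h⟩ : E') = z') :
    ∃ F : A ≃* A', ∀ h : z ∈ A, (F ⟨z, h⟩ : E') = z' := by
  have hyx : kap z y x = -1 := by rw [kap_symm hz]; exact hk
  have hyx' : kap z' y' x' = -1 := by rw [kap_symm hz']; exact hk'
  have hzC : z ∈ cent1 (cent1 A x) y := ⟨⟨hzA, (hz.z_c x).symm⟩, (hz.z_c y).symm⟩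
  have h1C : (1 : E) ∈ cent1 (cent1 A x) y := Subgroup.one_mem _
  have fcongr : ∀ a b (ha : a ∈ cent1 (cent1 A x) y) (hb : b ∈ cent1 (cent1 A x) y), a = b →
      (f ⟨a, ha⟩ : E') = (f ⟨b, hb⟩ : E') := by
    intro a b ha hb hab; subst hab; rfl
  have f1 : (f ⟨1, h1C⟩ : E') = 1 := by
    have : (⟨1, h1C⟩ : cent1 (cent1 A x) y) = 1 := rfl
    rw [this, map_one]; rfl
  have hfsq_gen : ∀ (u : E) (u' : E') (hu : u * u ∈ cent1 (cent1 A x) y), Q z u = Q z' u' →
      (f ⟨u * u, hu⟩ : E') = u' * u' := by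
    intro u u' hu hQ
    rcases hz.sq u with h | h
    · have h' : u' * u' = 1 :=
        (Q_eq_one_iff hz' u').mp (by rw [← hQ]; exact (Q_eq_one_iff hz u).mpr h)
      rw [fcongr _ 1 hu h1C h, f1, h']
    · have h' : u' * u' = z' :=
        (Q_eq_neg_one_iff hz' u').mp (by rw [← hQ]; exact (Q_eq_neg_one_iff hz u).mpr h)
      rw [fcongr _ z hu hzC h, hfz hzC, h']
  have hsqmem : ∀ u : E, u * u ∈ cent1 (cent1 A x) y := fun u => by
    rcases hz.sq u with h | h
    · rw [h]; exact h1C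
    · rw [h]; exact hzC
  have hc1 : Nat.card (cent1 A x) = Nat.card (cent1 A' x') := by
    have h1 := card_index_two hz A x y hy hyx
    have h2 := card_index_two hz' A' x' y' hy' hyx'
    omega
  have hxC₁ : x ∈ cent1 A x := ⟨hx, rfl⟩
  have hCle : cent1 (cent1 A x) y ≤ cent1 A x := cent1_le _ y
  obtain ⟨F₁, hF₁C, hF₁x⟩ := extend_iso (cent1 (cent1 A x) y) (cent1 A x)
    (cent1 (cent1 A' x') y') (cent1 A' x') x x' f hCle hxC₁
    (not_mem_cent1 hz _ y x hk) (cover hz (cent1 A x) y x hxC₁ hk)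
    (fun c hc => by
      have e : x * c * x⁻¹ = c := by rw [← hc.1.2, mul_inv_cancel_right]
      rw [e]; exact hc)
    (hsqmem x) (cent1_le _ y') ⟨hx', rfl⟩ (not_mem_cent1 hz' _ y' x' hk') hc1
    (hfsq_gen x x' (hsqmem x) hQx)
    (fun c hc => by
      have e : x * c * x⁻¹ = c := by rw [← hc.1.2, mul_inv_cancel_right]
      have e' : x' * (f ⟨c, hc⟩ : E') * x'⁻¹ = (f ⟨c, hc⟩ : E') := by
        rw [← (f ⟨c, hc⟩).2.1.2, mul_inv_cancel_right]
      rw [e']
      exact fcongr _ _ _ hc e)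
  have F₁congr : ∀ a b (ha : a ∈ cent1 A x) (hb : b ∈ cent1 A x), a = b →
      (F₁ ⟨a, ha⟩ : E') = (F₁ ⟨b, hb⟩ : E') := by
    intro a b ha hb hab; subst hab; rfl
  have F₁mul : ∀ a b (ha : a ∈ cent1 A x) (hb : b ∈ cent1 A x),
      (F₁ ⟨a * b, Subgroup.mul_mem _ ha hb⟩ : E') = (F₁ ⟨a, ha⟩ : E') * (F₁ ⟨b, hb⟩ : E') := by
    intro a b ha hb
    have : (⟨a * b, Subgroup.mul_mem _ ha hb⟩ : cent1 A x) = ⟨a, ha⟩ * ⟨b, hb⟩ := rfl
    rw [this, map_mul]; rfl
  have hyxz : y * x * y⁻¹ * x⁻¹ = z := comm_eq_z hz x y hyx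
  have hyxz' : y' * x' * y'⁻¹ * x'⁻¹ = z' := comm_eq_z hz' x' y' hyx'
  have hn₂ : ∀ g ∈ cent1 A x, y * g * y⁻¹ ∈ cent1 A x := fun g hg =>
    ⟨A.mul_mem (A.mul_mem hy hg.1) (A.inv_mem hy), by
      have hc := cen hz y g
      calc y * g * y⁻¹ * x = (y * g * y⁻¹ * g⁻¹) * (g * x) := by group
        _ = (y * g * y⁻¹ * g⁻¹) * (x * g) := by rw [hg.2]
        _ = (y * g * y⁻¹ * g⁻¹) * x * g := by group
        _ = x * (y * g * y⁻¹ * g⁻¹) * g := by rw [hc x]
        _ = x * (y * g * y⁻¹) := by group⟩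
  obtain ⟨F₂, hF₂C, -⟩ := extend_iso (cent1 A x) A (cent1 A' x') A' y y' F₁ (cent1_le A x) hy
    (not_mem_cent1 hz A x y hyx) (cover hz A x y hy hyx) hn₂ (hCle (hsqmem y))
    (cent1_le A' x') hy' (not_mem_cent1 hz' A' x' y' hyx') hcard
    ((hF₁C (y * y) (hsqmem y)).trans (hfsq_gen y y' (hsqmem y) hQy))
    (fun g hg => by
      rcases cover hz (cent1 A x) y x hxC₁ hk g hg with hgC | hgC
      · have e : y * g * y⁻¹ = g := by rw [← hgC.2, mul_inv_cancel_right]
        have hv : (F₁ ⟨g, hg⟩ : E') = (f ⟨g, hgC⟩ : E') := hF₁C g hgC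
        have e' : y' * (f ⟨g, hgC⟩ : E') * y'⁻¹ = (f ⟨g, hgC⟩ : E') := by
          rw [← (f ⟨g, hgC⟩).2.2, mul_inv_cancel_right]
        rw [F₁congr _ g _ hg e, hv, e']
      · obtain ⟨c, hcdef⟩ : ∃ c, c = g * x⁻¹ := ⟨_, rfl⟩
        rw [← hcdef] at hgC
        have hg_eq : g = c * x := by rw [hcdef, inv_mul_cancel_right]
        have hzc : c * z ∈ cent1 (cent1 A x) y := Subgroup.mul_mem _ hgC hzC
        have e : y * g * y⁻¹ = (c * z) * x := by
          have hcy : c * y = y * c := hgC.2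
          calc y * g * y⁻¹ = y * (c * x) * y⁻¹ := by rw [hg_eq]
            _ = (y * c) * (x * y⁻¹) := by group
            _ = (c * y) * (x * y⁻¹) := by rw [hcy]
            _ = c * ((y * x * y⁻¹ * x⁻¹) * x) := by group
            _ = c * (z * x) := by rw [hyxz]
            _ = (c * z) * x := by group
        have hv1 : (F₁ ⟨(c * z) * x, Subgroup.mul_mem _ (hCle hzc) hxC₁⟩ : E')
            = (f ⟨c * z, hzc⟩ : E') * x' := by
          rw [F₁mul _ _ (hCle hzc) hxC₁, hF₁C _ hzc, hF₁x]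
        have hv2 : (F₁ ⟨g, hg⟩ : E') = (f ⟨c, hgC⟩ : E') * x' := by
          rw [F₁congr g (c * x) hg (Subgroup.mul_mem _ (hCle hgC) hxC₁) hg_eq,
            F₁mul _ _ (hCle hgC) hxC₁, hF₁C _ hgC, hF₁x]
        have hv3 : (f ⟨c * z, hzc⟩ : E') = (f ⟨c, hgC⟩ : E') * z' := by
          have : (⟨c * z, hzc⟩ : cent1 (cent1 A x) y) = ⟨c, hgC⟩ * ⟨z, hzC⟩ := rfl
          rw [this, map_mul]
          show (f ⟨c, hgC⟩ : E') * (f ⟨z, hzC⟩ : E') = _
          rw [hfz hzC]
        rw [F₁congr _ _ _ (Subgroup.mul_mem _ (hCle hzc) hxC₁) e, hv1, hv2, hv3]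
        have hfcy : (f ⟨c, hgC⟩ : E') * y' = y' * (f ⟨c, hgC⟩ : E') := (f ⟨c, hgC⟩).2.2
        calc (f ⟨c, hgC⟩ : E') * z' * x'
            = (f ⟨c, hgC⟩ : E') * ((y' * x' * y'⁻¹ * x'⁻¹) * x') := by rw [hyxz', mul_assoc]
          _ = ((f ⟨c, hgC⟩ : E') * y') * (x' * y'⁻¹) := by group
          _ = (y' * (f ⟨c, hgC⟩ : E')) * (x' * y'⁻¹) := by rw [hfcy]
          _ = y' * ((f ⟨c, hgC⟩ : E') * x') * y'⁻¹ := by group)
  refine ⟨F₂, fun h => ?_⟩
  exact (hF₂C z (hCle hzC)).trans ((hF₁C z hzC).trans (hfz hzC))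

/-- Nondegenerate subgroups with the same order and sign sum are isomorphic. -/
theorem iso_thm {E' : Type*} [Group E'] [Fintype E] [Fintype E'] {z : E} {z' : E'}
    (hz : Amb z) (hz' : Amb z') : ∀ n : ℕ, ∀ (A : Subgroup E) (A' : Subgroup E'),
    ND z A → ND z' A' → Nat.card A = n → Nat.card A' = n → T z A = T z' A' →
    ∃ F : A ≃* A', ∀ h : z ∈ A, (F ⟨z, h⟩ : E') = z' := by
  intro n
  induction n using Nat.strong_induction_on with
  | _ n ih =>
    intro A A' hA hA' hn hn' hT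
    have ePP : (1 + ((1 : ℤˣ) : ℤ) + ((1 : ℤˣ) : ℤ) - ((1 : ℤˣ) : ℤ) * ((1 : ℤˣ) : ℤ)) = 2 := by
      norm_num
    have eMM : (1 + ((-1 : ℤˣ) : ℤ) + ((-1 : ℤˣ) : ℤ) - ((-1 : ℤˣ) : ℤ) * ((-1 : ℤˣ) : ℤ))
        = -2 := by norm_num
    by_cases hab : ∀ g ∈ A, ∀ h ∈ A, g * h = h * g
    · have hAel : ∀ g ∈ A, g = 1 ∨ g = z := fun g hg => hA.2 g hg (hab g hg)
      obtain ⟨h1, -⟩ := base_case hz A hA.1 hAel
      have hAel' : ∀ g ∈ A', g = 1 ∨ g = z' := two_elems hz' A' hA'.1 (by rw [hn', ← hn, h1])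
      obtain ⟨F, -, hFz⟩ := extend_iso (⊥ : Subgroup E) A (⊥ : Subgroup E') A' z z'
        (MulEquiv.ofUnique) bot_le hA.1 (by rw [Subgroup.mem_bot]; exact hz.z_ne)
        (fun g hg => by
          rcases hAel g hg with h | h
          · left; rw [h]; exact Subgroup.one_mem _
          · right; rw [h, mul_inv_cancel]; exact Subgroup.one_mem _)
        (fun c hc => by
          rw [Subgroup.mem_bot] at hc
          rw [hc, mul_one, mul_inv_cancel]; exact Subgroup.one_mem _)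
        (by rw [hz.z_sq]; exact Subgroup.one_mem _)
        bot_le hA'.1 (by rw [Subgroup.mem_bot]; exact hz'.z_ne) (by rw [hn, hn'])
        (by
          rw [hz'.z_sq]
          exact Subgroup.mem_bot.mp (Subtype.property _))
        (fun c hc => by
          have h1 : ∀ u : (⊥ : Subgroup E'), (u : E') = 1 := fun u => Subgroup.mem_bot.mp u.2
          rw [h1, h1, mul_one, mul_inv_cancel])
      exact ⟨F, fun h => hFz⟩
    · have hab' : ¬ ∀ g ∈ A', ∀ h ∈ A', g * h = h * g := by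
        intro hab'
        obtain ⟨h1, -⟩ := base_case hz' A' hA'.1 (fun g hg => hA'.2 g hg (hab' g hg))
        have hAel : ∀ g ∈ A, g = 1 ∨ g = z := two_elems hz A hA.1 (by rw [hn, ← hn', h1])
        apply hab
        intro g hg h hh
        rcases hAel g hg with e | e <;> rcases hAel h hh with e' | e'
        · rw [e, e']
        · rw [e, e', one_mul, mul_one]
        · rw [e, e', one_mul, mul_one]
        · rw [e, e']
      obtain ⟨x, hx, y, hy, hk, hcase⟩ := normal_form hz A hA hab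
      obtain ⟨x', hx', y', hy', hk', hcase'⟩ := normal_form hz' A' hA' hab'
      have hc := split_card hz A x y hx hy hk
      have hc' := split_card hz' A' x' y' hx' hy' hk'
      have hT1 := split_T hz A x y hx hy hk
      have hT1' := split_T hz' A' x' y' hx' hy' hk'
      have hCnd := nd_cent hz A hA x y hx hy hk
      have hCnd' := nd_cent hz' A' hA' x' y' hx' hy' hk'
      have hcC : Nat.card (cent1 (cent1 A x) y) = Nat.card (cent1 (cent1 A' x') y') := by omega
      have hlt : Nat.card (cent1 (cent1 A x) y) < n := by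
        have : 0 < Nat.card (cent1 (cent1 A x) y) := Nat.card_pos
        omega
      rcases hcase with ⟨h1, h2⟩ | ⟨h1, h2, h3⟩ <;>
        rcases hcase' with ⟨h1', h2'⟩ | ⟨h1', h2', h3'⟩
      · rw [h1, h2, ePP] at hT1
        rw [h1', h2', ePP] at hT1'
        have hTC : T z (cent1 (cent1 A x) y) = T z' (cent1 (cent1 A' x') y') := by
          rw [hT1, hT1'] at hT
          exact mul_right_cancel₀ (by norm_num) hT
        obtain ⟨f, hf⟩ := ih _ hlt _ _ hCnd hCnd' rfl hcC.symm hTC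
        exact ext_split hz hz' A A' x y x' y' hx hy hx' hy' hA.1 hk hk' (by rw [h1, h1'])
          (by rw [h2, h2']) (by rw [hn, hn']) f hf
      · exfalso
        obtain ⟨hb1, hb2⟩ := base_case hz' _ hCnd'.1 h3'
        have hel : ∀ c ∈ cent1 (cent1 A x) y, c = 1 ∨ c = z :=
          two_elems hz _ hCnd.1 (by rw [hcC, hb1])
        obtain ⟨-, hb2'⟩ := base_case hz _ hCnd.1 hel
        rw [h1, h2, ePP, hb2'] at hT1
        rw [h1', h2', eMM, hb2] at hT1'
        rw [hT1, hT1'] at hT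
        norm_num at hT
      · exfalso
        obtain ⟨hb1, hb2⟩ := base_case hz _ hCnd.1 h3
        have hel : ∀ c ∈ cent1 (cent1 A' x') y', c = 1 ∨ c = z' :=
          two_elems hz' _ hCnd'.1 (by rw [← hcC, hb1])
        obtain ⟨-, hb2'⟩ := base_case hz' _ hCnd'.1 hel
        rw [h1, h2, eMM, hb2] at hT1
        rw [h1', h2', ePP, hb2'] at hT1'
        rw [hT1, hT1'] at hT
        norm_num at hT
      · rw [h1, h2, eMM] at hT1
        rw [h1', h2', eMM] at hT1'
        have hTC : T z (cent1 (cent1 A x) y) = T z' (cent1 (cent1 A' x') y') := by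
          rw [hT1, hT1'] at hT
          exact mul_right_cancel₀ (by norm_num) hT
        obtain ⟨f, hf⟩ := ih _ hlt _ _ hCnd hCnd' rfl hcC.symm hTC
        exact ext_split hz hz' A A' x y x' y' hx hy hx' hy' hA.1 hk hk' (by rw [h1, h1'])
          (by rw [h2, h2']) (by rw [hn, hn']) f hf

theorem T_top [Fintype E] {z : E} (hz : Amb z) :
    T z (⊤ : Subgroup E) = 2 * (Nat.card {x : E // x ^ 2 = 1} : ℤ) - (Nat.card E : ℤ) := by
  classical
  unfold T sumOn
  have h1 : ∀ g : E, Set.indicator ((⊤ : Subgroup E) : Set E) (fun g => ((Q z g : ℤˣ) : ℤ)) g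
      = 2 * (if g ^ 2 = 1 then 1 else 0) - 1 := by
    intro g
    rw [Set.indicator_of_mem (Subgroup.mem_top g)]
    by_cases hg : g ^ 2 = 1
    · rw [if_pos hg, (Q_eq_one_iff hz g).mpr (by rw [← pow_two]; exact hg)]; norm_num
    · have : Q z g = -1 := by
        rcases Int.units_eq_one_or (Q z g) with h | h
        · exfalso; apply hg; rw [pow_two]; exact (Q_eq_one_iff hz g).mp h
        · exact h
      rw [if_neg hg, this]; norm_num
  rw [Finset.sum_congr rfl (fun g _ => h1 g), Finset.sum_sub_distrib, ← Finset.mul_sum,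
    Finset.sum_boole]
  simp [Nat.card_eq_fintype_card, Fintype.card_subtype]

end Iso

end Cfsg.Agent.Helper19.ES2
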