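import Mathlib
import Cfsg.Agent.Helper19.ES2

/-!
Helper library (helper19): elementary abelian subgroups of extraspecial 2-groups
(continuation of `ES2`).
-/

set_option autoImplicit false

namespace Cfsg.Agent.Helper19.ES2

variable {E : Type*} [Group E]

theorem adj_aux (C : Subgroup E) (x : E) (hxc : ∀ c ∈ C, x * c = c * x) (u : E)
    (hu : u * x ∈ C) : x * u = u * x := by
  have h1 := hxc _ hu
  calc x * u = (x * (u * x)) * x⁻¹ := by group
    _ = (u * x * x) * x⁻¹ := by rw [h1]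
    _ = u * x := by group

/-- Adjoining a commuting involution to a subgroup. -/
def adj (C : Subgroup E) (x : E) (hx2 : x * x = 1) (hxc : ∀ c ∈ C, x * c = c * x) :
    Subgroup E where
  carrier := {g | g ∈ C ∨ g * x ∈ C}
  one_mem' := Or.inl C.one_mem
  mul_mem' := by
    intro g h hg hh
    rcases hg with hg | hg <;> rcases hh with hh | hh
    · exact Or.inl (C.mul_mem hg hh)
    · right
      have e : g * h * x = g * (h * x) := mul_assoc _ _ _
      show g * h * x ∈ C
      rw [e]; exact C.mul_mem hg hh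
    · right
      have e : g * h * x = (g * x) * h := by
        rw [mul_assoc, ← hxc h hh, ← mul_assoc]
      show g * h * x ∈ C
      rw [e]; exact C.mul_mem hg hh
    · left
      have e : g * h = (g * x) * (h * x) := by
        rw [← adj_aux C x hxc h hh, ← mul_assoc, mul_assoc g x x, hx2, mul_one]
      show g * h ∈ C
      rw [e]; exact C.mul_mem hg hh
  inv_mem' := by
    intro g hg
    rcases hg with hg | hg
    · exact Or.inl (C.inv_mem hg)
    · right
      have hxi : x⁻¹ = x := inv_eq_of_mul_eq_one_right hx2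
      have e : g⁻¹ * x = (g * x)⁻¹ := by
        rw [← adj_aux C x hxc g hg, mul_inv_rev, hxi]
      show g⁻¹ * x ∈ C
      rw [e]; exact C.inv_mem hg

theorem mem_adj (C : Subgroup E) (x : E) (hx2 : x * x = 1) (hxc : ∀ c ∈ C, x * c = c * x)
    (g : E) : g ∈ adj C x hx2 hxc ↔ g ∈ C ∨ g * x ∈ C := Iff.rfl

theorem adj_commute {z : E} (hz : Amb z) (C : Subgroup E) (x : E) (hx2 : x * x = 1)
    (hxc : ∀ c ∈ C, x * c = c * x) (hC : ∀ a ∈ C, ∀ b ∈ C, a * b = b * a) :
    ∀ a ∈ adj C x hx2 hxc, ∀ b ∈ adj C x hx2 hxc, a * b = b * a := by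
  have hkx : ∀ a ∈ adj C x hx2 hxc, kap z a x = 1 := by
    intro a ha
    rw [kap_eq_one_iff hz]
    rcases ha with ha | ha
    · exact (hxc a ha).symm
    · exact (adj_aux C x hxc a ha).symm
  have hkc : ∀ a ∈ adj C x hx2 hxc, ∀ c ∈ C, kap z a c = 1 := by
    intro a ha c hc
    rcases ha with ha | ha
    · exact (kap_eq_one_iff hz a c).mpr (hC a ha c hc)
    · have h1 : kap z (a * x) c = 1 := (kap_eq_one_iff hz _ c).mpr (hC _ ha c hc)
      have h2 : kap z x c = 1 := (kap_eq_one_iff hz x c).mpr (hxc c hc)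
      rw [kap_mul_left hz, h2, mul_one] at h1
      exact h1
  intro a ha b hb
  rw [← kap_eq_one_iff hz]
  rcases hb with hb | hb
  · exact hkc a ha b hb
  · have h1 := hkc a ha _ hb
    rw [kap_mul_right hz, hkx a ha, mul_one] at h1
    exact h1

theorem adj_invol {z : E} (hz : Amb z) (C : Subgroup E) (x : E) (hx2 : x * x = 1)
    (hxc : ∀ c ∈ C, x * c = c * x) (hC : ∀ a ∈ C, a * a = 1) :
    ∀ a ∈ adj C x hx2 hxc, a * a = 1 := by
  intro a ha
  rcases ha with ha | ha
  · exact hC a ha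
  · have h1 : Q z (a * x) = 1 := (Q_eq_one_iff hz _).mpr (hC _ ha)
    have h2 : Q z x = 1 := (Q_eq_one_iff hz x).mpr hx2
    have h3 : kap z x a = 1 := (kap_eq_one_iff hz x a).mpr (adj_aux C x hxc a ha)
    rw [Q_mul hz, h2, h3, mul_one, mul_one] at h1
    exact (Q_eq_one_iff hz a).mp h1

theorem card_adj [Fintype E] (C : Subgroup E) (x : E) (hx2 : x * x = 1)
    (hxc : ∀ c ∈ C, x * c = c * x) (hx : x ∉ C) :
    Nat.card (adj C x hx2 hxc) = 2 * Nat.card C := by
  have hxi : x⁻¹ = x := inv_eq_of_mul_eq_one_right hx2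
  have h1 : sumOn (adj C x hx2 hxc) (fun _ => (1 : ℤ)) = sumOn C (fun _ => 1)
      + sumOn C (fun _ => 1) :=
    sumOn_index_two C (adj C x hx2 hxc) x (fun g hg => Or.inl hg)
      (Or.inr (by rw [hx2]; exact C.one_mem)) hx
      (fun g hg => by rw [hxi]; exact hg) (fun _ => 1)
  rw [← card_eq_sumOn, ← card_eq_sumOn] at h1
  omega

/-- Existence of large elementary abelian subgroups. -/
theorem exists_ea [Fintype E] {z : E} (hz : Amb z) : ∀ n : ℕ, ∀ A : Subgroup E, ND z A →
    Nat.card A = n → ∃ B : Subgroup E, B ≤ A ∧ z ∈ B ∧ (∀ a ∈ B, ∀ b ∈ B, a * b = b * a) ∧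
      (∀ a ∈ B, a * a = 1) ∧ (0 < T z A → Nat.card B * Nat.card B = 2 * n) ∧
      (T z A < 0 → 2 * (Nat.card B * Nat.card B) = n) := by
  intro n
  induction n using Nat.strong_induction_on with
  | _ n ih =>
    intro A hA hn
    have ePP : (1 + ((1 : ℤˣ) : ℤ) + ((1 : ℤˣ) : ℤ) - ((1 : ℤˣ) : ℤ) * ((1 : ℤˣ) : ℤ)) = 2 := by
      norm_num
    have eMM : (1 + ((-1 : ℤˣ) : ℤ) + ((-1 : ℤˣ) : ℤ) - ((-1 : ℤˣ) : ℤ) * ((-1 : ℤˣ) : ℤ))
        = -2 := by norm_num
    by_cases hab : ∀ g ∈ A, ∀ h ∈ A, g * h = h * g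
    · have hAel : ∀ g ∈ A, g = 1 ∨ g = z := fun g hg => hA.2 g hg (hab g hg)
      obtain ⟨h1, h2⟩ := base_case hz A hA.1 hAel
      refine ⟨A, le_refl A, hA.1, hab, ?_, ?_, ?_⟩
      · intro a ha
        rcases hAel a ha with h | h
        · rw [h, mul_one]
        · rw [h, hz.z_sq]
      · intro _; rw [h1, ← hn, h1]
      · intro hT; rw [h2] at hT; omega
    · obtain ⟨x, hx, y, hy, hk, hcase⟩ := normal_form hz A hA hab
      have hc := split_card hz A x y hx hy hk
      have hT1 := split_T hz A x y hx hy hk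
      have hCnd := nd_cent hz A hA x y hx hy hk
      have hlt : Nat.card (cent1 (cent1 A x) y) < n := by
        have : 0 < Nat.card (cent1 (cent1 A x) y) := Nat.card_pos
        omega
      rcases hcase with ⟨h1, h2⟩ | ⟨h1, h2, h3⟩
      · rw [h1, h2, ePP] at hT1
        obtain ⟨B, hBC, hzB, hBc, hBi, hBp, hBn⟩ := ih _ hlt _ hCnd rfl
        have hx2 : x * x = 1 := (Q_eq_one_iff hz x).mp h1
        have hxc : ∀ c ∈ B, x * c = c * x := fun c hc => (hBC hc).1.2.symm
        have hxB : x ∉ B := fun h => not_mem_cent1 hz (cent1 A x) y x hk (hBC h)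
        have hcard := card_adj B x hx2 hxc hxB
        have e : Nat.card (adj B x hx2 hxc) * Nat.card (adj B x hx2 hxc)
            = 4 * (Nat.card B * Nat.card B) := by rw [hcard]; ring
        refine ⟨adj B x hx2 hxc, ?_, Or.inl hzB, adj_commute hz B x hx2 hxc hBc,
          adj_invol hz B x hx2 hxc hBi, ?_, ?_⟩
        · intro g hg
          rcases hg with hg | hg
          · exact (hBC hg).1.1
          · have := A.mul_mem (hBC hg).1.1 (A.inv_mem hx)
            rwa [mul_inv_cancel_right] at this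
        · intro hT
          rw [hT1] at hT
          have hT' : 0 < T z (cent1 (cent1 A x) y) := by linarith
          have := hBp hT'
          rw [e, this]; omega
        · intro hT
          rw [hT1] at hT
          have hT' : T z (cent1 (cent1 A x) y) < 0 := by linarith
          have := hBn hT'
          rw [e]; omega
      · rw [h1, h2, eMM] at hT1
        obtain ⟨hb1, hb2⟩ := base_case hz _ hCnd.1 h3
        refine ⟨cent1 (cent1 A x) y, fun g hg => hg.1.1, hCnd.1, ?_, ?_, ?_, ?_⟩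
        · intro a ha b hb
          rcases h3 a ha with e | e <;> rcases h3 b hb with e' | e'
          · rw [e, e']
          · rw [e, e', one_mul, mul_one]
          · rw [e, e', one_mul, mul_one]
          · rw [e, e']
        · intro a ha
          rcases h3 a ha with e | e
          · rw [e, mul_one]
          · rw [e, hz.z_sq]
        · intro hT; rw [hT1, hb2] at hT; norm_num at hT
        · intro _; rw [hb1]; omega

open Classical in
/-- Character sum over a subgroup against the commutator pairing. -/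
theorem sum_cent [Fintype E] {z : E} (hz : Amb z) (B : Subgroup E) [Fintype B] (f : E → ℤ) :
    ∑ g : E, f g * (∑ b : B, ((kap z g b : ℤˣ) : ℤ))
      = (Nat.card B : ℤ) * ∑ g : E, (if ∀ b ∈ B, g * b = b * g then f g else 0) := by
  classical
  rw [Finset.mul_sum]
  apply Finset.sum_congr rfl
  intro g _
  let χ : B →* ℤˣ :=
    { toFun := fun b => kap z g b
      map_one' := (kap_eq_one_iff hz g _).mpr (by simp)
      map_mul' := fun a b => kap_mul_right hz g a b }
  by_cases h : ∀ b ∈ B, g * b = b * g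
  · have hs : ∑ b : B, ((kap z g b : ℤˣ) : ℤ) = (Fintype.card B : ℤ) :=
      Gauss.sum_hom_one χ (fun b => (kap_eq_one_iff hz g b).mpr (h b b.2))
    rw [if_pos h, hs, Nat.card_eq_fintype_card]; ring
  · have hs : ∑ b : B, ((kap z g b : ℤˣ) : ℤ) = 0 :=
      Gauss.sum_hom_zero χ
        (fun hall => h (fun b hb => (kap_eq_one_iff hz g b).mp (hall ⟨b, hb⟩)))
    rw [if_neg h, hs]; ring

open Classical in
/-- `|B| · |C_E(B)| = 2 |E|` for a subgroup `B` containing `z`. -/
theorem card_mul_cent [Fintype E] {z : E} (hz : Amb z) (hND : ND z (⊤ : Subgroup E))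
    (B : Subgroup E) (hzB : z ∈ B) :
    (Nat.card B : ℤ) * ∑ g : E, (if ∀ b ∈ B, g * b = b * g then (1 : ℤ) else 0)
      = 2 * (Nat.card E : ℤ) := by
  classical
  haveI : Fintype B := Fintype.ofFinite B
  have h1 := sum_cent hz B (fun _ => 1)
  rw [← h1]
  simp only [one_mul]
  rw [Finset.sum_comm]
  have h2 : ∀ b : B, ∑ g : E, ((kap z g b : ℤˣ) : ℤ)
      = (if (b : E) = 1 then (Nat.card E : ℤ) else 0)
        + (if (b : E) = z then (Nat.card E : ℤ) else 0) := by
    intro b
    let ψ : E →* ℤˣ :=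
      { toFun := fun g => kap z g b
        map_one' := (kap_eq_one_iff hz _ _).mpr (by simp)
        map_mul' := fun g h => kap_mul_left hz g h b }
    by_cases hb : ∀ g : E, (b : E) * g = g * b
    · have hb' := hND.2 b (Subgroup.mem_top _) (fun h _ => hb h)
      have hs : ∑ g : E, ((kap z g b : ℤˣ) : ℤ) = (Fintype.card E : ℤ) :=
        Gauss.sum_hom_one ψ (fun g => (kap_eq_one_iff hz g b).mpr (hb g).symm)
      rw [hs, Nat.card_eq_fintype_card]
      rcases hb' with e | e
      · rw [if_pos e, if_neg (by rw [e]; exact hz.z_ne.symm), add_zero]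
      · rw [if_neg (by rw [e]; exact hz.z_ne), if_pos e, zero_add]
    · have hs : ∑ g : E, ((kap z g b : ℤˣ) : ℤ) = 0 :=
        Gauss.sum_hom_zero ψ
          (fun hall => hb (fun g => ((kap_eq_one_iff hz g b).mp (hall g)).symm))
      have hb1 : (b : E) ≠ 1 := fun e => hb (fun g => by rw [e, one_mul, mul_one])
      have hbz : (b : E) ≠ z := fun e => hb (fun g => by rw [e]; exact (hz.z_c g).symm)
      rw [hs, if_neg hb1, if_neg hbz, add_zero]
  rw [Finset.sum_congr rfl (fun b _ => h2 b), Finset.sum_add_distrib]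
  have e1 : ∑ b : B, (if (b : E) = 1 then (Nat.card E : ℤ) else 0) = Nat.card E := by
    rw [Finset.sum_eq_single (1 : B)]
    · simp
    · intro b _ hb
      rw [if_neg]
      intro h; exact hb (Subtype.ext h)
    · intro h; exact absurd (Finset.mem_univ _) h
  have e2 : ∑ b : B, (if (b : E) = z then (Nat.card E : ℤ) else 0) = Nat.card E := by
    rw [Finset.sum_eq_single (⟨z, hzB⟩ : B)]
    · simp
    · intro b _ hb
      rw [if_neg]
      intro h; exact hb (Subtype.ext h)
    · intro h; exact absurd (Finset.mem_univ _) h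
  rw [e1, e2]; ring

open Classical in
theorem ind_le_cent [Fintype E] (B : Subgroup E) (hBc : ∀ a ∈ B, ∀ b ∈ B, a * b = b * a)
    (g : E) : Set.indicator (B : Set E) (fun _ => (1 : ℤ)) g
      ≤ (if ∀ b ∈ B, g * b = b * g then (1 : ℤ) else 0) := by
  classical
  by_cases hg : g ∈ B
  · rw [Set.indicator_of_mem hg, if_pos (fun b hb => hBc g hg b hb)]
  · rw [Set.indicator_of_notMem hg]
    split_ifs <;> norm_num

/-- An abelian subgroup containing `z` has `|B|² ≤ 2 |E|`. -/
theorem card_sq_le [Fintype E] {z : E} (hz : Amb z) (hND : ND z (⊤ : Subgroup E))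
    (B : Subgroup E) (hzB : z ∈ B) (hBc : ∀ a ∈ B, ∀ b ∈ B, a * b = b * a) :
    Nat.card B * Nat.card B ≤ 2 * Nat.card E := by
  classical
  have h1 := card_mul_cent hz hND B hzB
  have h2 : (Nat.card B : ℤ) ≤ ∑ g : E, (if ∀ b ∈ B, g * b = b * g then (1 : ℤ) else 0) := by
    rw [card_eq_sumOn]
    unfold sumOn
    exact Finset.sum_le_sum (fun g _ => ind_le_cent B hBc g)
  have h3 : (0 : ℤ) ≤ Nat.card B := Nat.cast_nonneg _
  have h4 : (Nat.card B : ℤ) * (Nat.card B : ℤ) ≤ 2 * (Nat.card E : ℤ) := by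
    rw [← h1]
    exact mul_le_mul_of_nonneg_left h2 h3
  exact_mod_cast h4

/-- If an elementary abelian subgroup attains `|B|² = 2 |E|` then the sign sum is positive. -/
theorem T_pos_of_big [Fintype E] {z : E} (hz : Amb z) (hND : ND z (⊤ : Subgroup E))
    (B : Subgroup E) (hzB : z ∈ B) (hBc : ∀ a ∈ B, ∀ b ∈ B, a * b = b * a)
    (hBi : ∀ a ∈ B, a * a = 1) (hcard : Nat.card B * Nat.card B = 2 * Nat.card E) :
    0 < T z (⊤ : Subgroup E) := by
  classical
  haveI : Fintype B := Fintype.ofFinite B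
  have hTt : T z (⊤ : Subgroup E) = ∑ g : E, ((Q z g : ℤˣ) : ℤ) := by
    unfold T sumOn
    apply Finset.sum_congr rfl
    intro g _
    rw [Set.indicator_of_mem (Subgroup.mem_top g)]
  have hpos : (0 : ℤ) < Nat.card B := by exact_mod_cast Nat.card_pos
  have hU1 := card_mul_cent hz hND B hzB
  have hcardZ : (Nat.card B : ℤ) * (Nat.card B : ℤ) = 2 * (Nat.card E : ℤ) := by
    exact_mod_cast hcard
  have hsumC : ∑ g : E, (if ∀ b ∈ B, g * b = b * g then (1 : ℤ) else 0) = Nat.card B := by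
    rw [← hcardZ] at hU1
    exact mul_left_cancel₀ hpos.ne' hU1
  have hzero : ∑ g : E, ((if ∀ b ∈ B, g * b = b * g then (1 : ℤ) else 0)
      - Set.indicator (B : Set E) (fun _ => (1 : ℤ)) g) = 0 := by
    rw [Finset.sum_sub_distrib, hsumC]
    have := card_eq_sumOn B
    unfold sumOn at this
    rw [← this]; ring
  have heach := (Finset.sum_eq_zero_iff_of_nonneg
    (fun g _ => sub_nonneg.mpr (ind_le_cent B hBc g))).mp hzero
  have hCB : ∀ g : E, (∀ b ∈ B, g * b = b * g) → g ∈ B := by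
    intro g hg
    by_contra hgB
    have := heach g (Finset.mem_univ g)
    rw [if_pos hg, Set.indicator_of_notMem hgB] at this
    norm_num at this
  have hs := sum_cent hz B (fun g => ((Q z g : ℤˣ) : ℤ))
  have hL : ∑ g : E, ((Q z g : ℤˣ) : ℤ) * ∑ b : B, ((kap z g b : ℤˣ) : ℤ)
      = (Nat.card B : ℤ) * T z (⊤ : Subgroup E) := by
    rw [hTt]
    have e1 : ∀ g : E, ((Q z g : ℤˣ) : ℤ) * ∑ b : B, ((kap z g b : ℤˣ) : ℤ)
        = ∑ b : B, ((Q z g : ℤˣ) : ℤ) * ((kap z g b : ℤˣ) : ℤ) := fun g => Finset.mul_sum _ _ _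
    have e2 : ∀ b : B, ∑ g : E, ((Q z g : ℤˣ) : ℤ) * ((kap z g b : ℤˣ) : ℤ)
        = ∑ g : E, ((Q z g : ℤˣ) : ℤ) := by
      intro b
      rw [← Equiv.sum_comp (Equiv.mulRight (b : E)) (fun g => ((Q z g : ℤˣ) : ℤ))]
      apply Finset.sum_congr rfl
      intro g _
      show _ = ((Q z (g * b) : ℤˣ) : ℤ)
      rw [Q_mul hz, (Q_eq_one_iff hz b).mpr (hBi b b.2), mul_one, kap_symm hz b g]
      push_cast; ring
    rw [Finset.sum_congr rfl (fun g _ => e1 g), Finset.sum_comm,
      Finset.sum_congr rfl (fun b _ => e2 b), Finset.sum_const, Finset.card_univ, nsmul_eq_mul,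
      Nat.card_eq_fintype_card]
  have hR : ∑ g : E, (if ∀ b ∈ B, g * b = b * g then ((Q z g : ℤˣ) : ℤ) else 0)
      = Nat.card B := by
    rw [← hsumC]
    apply Finset.sum_congr rfl
    intro g _
    by_cases hg : ∀ b ∈ B, g * b = b * g
    · rw [if_pos hg, if_pos hg, (Q_eq_one_iff hz g).mpr (hBi g (hCB g hg))]; rfl
    · rw [if_neg hg, if_neg hg]
  rw [hL, hR] at hs
  have := mul_left_cancel₀ hpos.ne' hs
  rw [this]; exact hpos

/-- Enlarging an elementary abelian subgroup to contain `z`. -/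
theorem ea_enlarge [Fintype E] {z : E} (hz : Amb z) (B : Subgroup E)
    (hBc : ∀ a ∈ B, ∀ b ∈ B, a * b = b * a) (hBi : ∀ a ∈ B, a * a = 1) :
    ∃ B' : Subgroup E, z ∈ B' ∧ (∀ a ∈ B', ∀ b ∈ B', a * b = b * a) ∧
      (∀ a ∈ B', a * a = 1) ∧ Nat.card B ≤ Nat.card B' := by
  by_cases hzB : z ∈ B
  · exact ⟨B, hzB, hBc, hBi, le_refl _⟩
  · have hxc : ∀ c ∈ B, z * c = c * z := fun c _ => (hz.z_c c).symm
    refine ⟨adj B z hz.z_sq hxc, Or.inr (by rw [hz.z_sq]; exact B.one_mem),
      adj_commute hz B z hz.z_sq hxc hBc, adj_invol hz B z hz.z_sq hxc hBi, ?_⟩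
    rw [card_adj B z hz.z_sq hxc hzB]; omega

end Cfsg.Agent.Helper19.ES2
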