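import Mathlib
import Cfsg.Prelude.Def_CaseTheorems
import Cfsg.Agent.Helper19.BO8
import Cfsg.Agent.Helper9.HypGen
import Cfsg.Agent.Helper9.PReduced
import Cfsg.Agent.Helper23.QP5
import Cfsg.Agent.Helper6.PResidual

/-!
helper19: a `p`-subgroup `A` of a `p`-soluble group with `Φ(A) ≤ O_p` but `A ≰ O_p`: there is
`x ∈ O_{p,p'}` such that `L = ⟨A, A^x⟩` has the standard properties (Hall–Higman style reduction).
-/

set_option autoImplicit false
open Cfsg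

namespace Cfsg.Agent.Helper19.HH

open scoped commutatorElement

variable {M : Type*} [Group M]

/-- elements commuting with `B` modulo the normal subgroup `N` -/
def centMod (N B : Subgroup M) [N.Normal] : Subgroup M :=
  (Subgroup.centralizer ((B.map (QuotientGroup.mk' N) : Subgroup (M ⧸ N)) : Set (M ⧸ N))).comap
    (QuotientGroup.mk' N)

theorem mem_centMod {N B : Subgroup M} [N.Normal] {g : M} :
    g ∈ centMod N B ↔ ∀ b ∈ B, b * g * b⁻¹ * g⁻¹ ∈ N := by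
  unfold centMod
  rw [Subgroup.mem_comap, Subgroup.mem_centralizer_iff]
  constructor
  · intro h b hb
    have h1 := h (QuotientGroup.mk' N b) (Subgroup.mem_map_of_mem _ hb)
    rw [← QuotientGroup.eq_one_iff]
    show (QuotientGroup.mk' N) (b * g * b⁻¹ * g⁻¹) = 1
    rw [map_mul, map_mul, map_mul, map_inv, map_inv, h1]
    group
  · rintro h _ ⟨b, hb, rfl⟩
    have h2 : (QuotientGroup.mk' N) (b * g * b⁻¹ * g⁻¹) = 1 := (QuotientGroup.eq_one_iff _).2 (h b hb)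
    rw [map_mul, map_mul, map_mul, map_inv, map_inv] at h2
    calc (QuotientGroup.mk' N) b * (QuotientGroup.mk' N) g
        = ((QuotientGroup.mk' N) b * (QuotientGroup.mk' N) g * ((QuotientGroup.mk' N) b)⁻¹ *
            ((QuotientGroup.mk' N) g)⁻¹) * ((QuotientGroup.mk' N) g * (QuotientGroup.mk' N) b) := by
          group
      _ = (QuotientGroup.mk' N) g * (QuotientGroup.mk' N) b := by rw [h2, one_mul]

theorem mem_of_pow_mem_of_coprime [Finite M] {H : Subgroup M} {g : M} {n : ℕ} (h : g ^ n ∈ H)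
    (hc : (orderOf g).Coprime n) : g ∈ H := by
  by_cases h1 : orderOf g = 1
  · rw [orderOf_eq_one_iff] at h1
    rw [h1]
    exact H.one_mem
  · have hk : 1 < orderOf g := by
      have h2 := orderOf_pos g
      omega
    obtain ⟨s, -, hs⟩ := Nat.exists_mul_mod_eq_one_of_coprime hc.symm hk
    have e : g = (g ^ n) ^ s := by
      rw [← pow_mul, ← pow_mod_orderOf, hs, pow_one]
    rw [e]
    exact H.pow_mem h s

/-- powers of a product `h * a` with `a` normalizing `H` -/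
theorem pow_mul_mem {H : Subgroup M} {a : M} (ha : ∀ h ∈ H, a * h * a⁻¹ ∈ H) {h : M}
    (hh : h ∈ H) : ∀ k : ℕ, (h * a) ^ k * (a ^ k)⁻¹ ∈ H := by
  have hak : ∀ k : ℕ, ∀ h' ∈ H, a ^ k * h' * (a ^ k)⁻¹ ∈ H := by
    intro k
    induction k with
    | zero =>
      intro h' hh'
      simpa using hh'
    | succ k ih =>
      intro h' hh'
      have e : a ^ (k + 1) * h' * (a ^ (k + 1))⁻¹ = a * (a ^ k * h' * (a ^ k)⁻¹) * a⁻¹ := by
        rw [pow_succ']
        group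
      rw [e]
      exact ha _ (ih h' hh')
  intro k
  induction k with
  | zero => simp
  | succ k ih =>
    have e : (h * a) ^ (k + 1) * (a ^ (k + 1))⁻¹ =
        ((h * a) ^ k * (a ^ k)⁻¹) * (a ^ k * h * (a ^ k)⁻¹) := by
      rw [pow_succ, pow_succ]
      group
    rw [e]
    exact H.mul_mem ih (hak k h hh)

theorem coprime_mem_of_mem_sup [Finite M] {p : ℕ} [Fact p.Prime] {A H : Subgroup M}
    (hA : IsPGroup p A) (hH : ∀ a ∈ A, ∀ h ∈ H, a * h * a⁻¹ ∈ H) {g : M} (hg : g ∈ H ⊔ A)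
    (hc : (orderOf g).Coprime p) : g ∈ H := by
  obtain ⟨h, hh, a, ha, rfl⟩ := BO.mem_sup_of_norm hH hg
  obtain ⟨k, hk⟩ := IsPGroup.iff_card.1 hA
  have h1 := pow_mul_mem (hH a ha) hh (p ^ k)
  have h2 : a ^ p ^ k = 1 := by
    have h3 : (⟨a, ha⟩ : A) ^ Nat.card A = 1 := pow_card_eq_one'
    rw [hk] at h3
    simpa using congrArg Subtype.val h3
  rw [h2, inv_one, mul_one] at h1
  exact mem_of_pow_mem_of_coprime h1 (Nat.Coprime.pow_right k hc)

theorem core [Finite M] {p : ℕ} [Fact p.Prime] (N Q A B : Subgroup M) [N.Normal] [Q.Normal]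
    (hN : IsPGroup p N) (hNQ : N ≤ Q)
    (hQm : ∃ m : ℕ, m.Coprime p ∧ ∀ g ∈ Q, g ^ m ∈ N)
    (hA : IsPGroup p A) (hAA : ∀ a ∈ A, ∀ b ∈ A, a * b * a⁻¹ * b⁻¹ ∈ N)
    (hAp : ∀ a ∈ A, a ^ p ∈ N) (hBA : B ≤ A) (hBp : B.relIndex A = p)
    (q : M) (hq : q ∈ Q) (hqB : ∀ b ∈ B, b * q * b⁻¹ * q⁻¹ ∈ N) (a : M) (ha : a ∈ A)
    (haq : a * q * a⁻¹ * q⁻¹ ∉ N) :
    ∃ x ∈ Q,
      x ∈ (pResidual p ↥(A ⊔ A.map (MulAut.conj x).toMonoidHom)).map
        (A ⊔ A.map (MulAut.conj x).toMonoidHom).subtype ∧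
      (pResidual p ↥(A ⊔ A.map (MulAut.conj x).toMonoidHom)).map
        (A ⊔ A.map (MulAut.conj x).toMonoidHom).subtype ≤ Q ∧
      ⁅(pResidual p ↥(A ⊔ A.map (MulAut.conj x).toMonoidHom)).map
        (A ⊔ A.map (MulAut.conj x).toMonoidHom).subtype, A⁆ =
        (pResidual p ↥(A ⊔ A.map (MulAut.conj x).toMonoidHom)).map
          (A ⊔ A.map (MulAut.conj x).toMonoidHom).subtype ∧
      (A ⊓ (pCore p ↥(A ⊔ A.map (MulAut.conj x).toMonoidHom)).map
        (A ⊔ A.map (MulAut.conj x).toMonoidHom).subtype).relIndex A = p ∧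
      ⁅A ⊓ (pCore p ↥(A ⊔ A.map (MulAut.conj x).toMonoidHom)).map
        (A ⊔ A.map (MulAut.conj x).toMonoidHom).subtype,
        A ⊔ A.map (MulAut.conj x).toMonoidHom⁆ ≤ N := by
  classical
  have hpp := (Fact.out : p.Prime)
  obtain ⟨m, hmp, hm⟩ := hQm
  obtain ⟨π, hπ⟩ : ∃ π : M →* M ⧸ N, ∀ g, π g = 1 ↔ g ∈ N :=
    ⟨QuotientGroup.mk' N, fun g => QuotientGroup.eq_one_iff g⟩
  -- `p`-elements of `Q` lie in `N`
  have hQ1 : ∀ g ∈ Q, (∃ k : ℕ, g ^ p ^ k = 1) → g ∈ N := by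
    rintro g hg ⟨k, hk⟩
    apply mem_of_pow_mem_of_coprime (hm g hg)
    have h1 : orderOf g ∣ p ^ k := orderOf_dvd_of_pow_eq_one hk
    exact Nat.Coprime.coprime_dvd_left h1 (Nat.Coprime.pow_left k hmp.symm)
  -- the candidates
  obtain ⟨Lf, hLf⟩ : ∃ Lf : M → Subgroup M,
      ∀ y, Lf y = A ⊔ A.map (MulAut.conj y).toMonoidHom := ⟨_, fun y => rfl⟩
  have hex : ∃ n : ℕ, ∃ y ∈ Q, (∀ b ∈ B, b * y * b⁻¹ * y⁻¹ ∈ N) ∧ a * y * a⁻¹ * y⁻¹ ∉ N ∧
      Nat.card (Lf y) = n := ⟨_, q, hq, hqB, haq, rfl⟩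
  obtain ⟨x₀, hx₀Q, hx₀B, hx₀a, hx₀n⟩ := Nat.find_spec hex
  have hmin : ∀ y ∈ Q, (∀ b ∈ B, b * y * b⁻¹ * y⁻¹ ∈ N) → a * y * a⁻¹ * y⁻¹ ∉ N →
      Nat.card (Lf x₀) ≤ Nat.card (Lf y) := by
    intro y hy hyB hya
    rw [hx₀n]
    exact Nat.find_min' hex ⟨y, hy, hyB, hya, rfl⟩
  obtain ⟨c, hc⟩ : ∃ c, c = a * x₀ * a⁻¹ * x₀⁻¹ := ⟨_, rfl⟩
  have hcN : c ∉ N := hc ▸ hx₀a
  have hcQ : c ∈ Q := by
    rw [hc]
    have h1 : a * x₀ * a⁻¹ ∈ Q := Subgroup.Normal.conj_mem inferInstance x₀ hx₀Q a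
    exact Q.mul_mem h1 (Q.inv_mem hx₀Q)
  have haL : ∀ y, A ≤ Lf y := fun y => by
    rw [hLf]
    exact le_sup_left
  have hconjL : ∀ y, ∀ a' ∈ A, y * a' * y⁻¹ ∈ Lf y := fun y a' ha' => by
    rw [hLf]
    exact Subgroup.mem_sup_right ⟨a', ha', rfl⟩
  have hcL : c ∈ Lf x₀ := by
    have e : c = a * (x₀ * a * x₀⁻¹)⁻¹ := by
      rw [hc]
      group
    rw [e]
    exact (Lf x₀).mul_mem (haL x₀ ha) ((Lf x₀).inv_mem (hconjL x₀ a ha))
  -- the centralizer of `B` modulo `N`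
  have hAC : A ≤ centMod N B := by
    intro a' ha'
    rw [mem_centMod]
    intro b hb
    exact hAA b (hBA hb) a' ha'
  have hNC : N ≤ centMod N B := by
    intro n hn
    rw [mem_centMod]
    intro b hb
    exact N.mul_mem (Subgroup.Normal.conj_mem inferInstance n hn b) (N.inv_mem hn)
  have hx₀C : x₀ ∈ centMod N B := mem_centMod.2 hx₀B
  have hcC : c ∈ centMod N B := by
    rw [hc]
    exact (centMod N B).mul_mem ((centMod N B).mul_mem ((centMod N B).mul_mem (hAC ha) hx₀C)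
      ((centMod N B).inv_mem (hAC ha))) ((centMod N B).inv_mem hx₀C)
  -- `a` does not centralize `c` modulo `N`
  have hac : a * c * a⁻¹ * c⁻¹ ∉ N := by
    intro hcon
    apply hcN
    have h1 : π a * π c = π c * π a := by
      have h2 := (hπ _).2 hcon
      rw [map_mul, map_mul, map_mul, map_inv, map_inv] at h2
      calc π a * π c = (π a * π c * (π a)⁻¹ * (π c)⁻¹) * (π c * π a) := by group
        _ = π c * π a := by rw [h2, one_mul]
    have h3 : π a * π x₀ = π c * π x₀ * π a := by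
      rw [hc, map_mul, map_mul, map_mul, map_inv, map_inv]
      group
    have h4 : ∀ k : ℕ, π a ^ k * π x₀ = π c ^ k * π x₀ * π a ^ k := by
      intro k
      induction k with
      | zero => simp
      | succ k ih =>
        calc π a ^ (k + 1) * π x₀ = π a * (π a ^ k * π x₀) := by
              rw [pow_succ']
              group
          _ = π a * (π c ^ k * π x₀ * π a ^ k) := by rw [ih]
          _ = (π a * π c ^ k) * π x₀ * π a ^ k := by group
          _ = (π c ^ k * π a) * π x₀ * π a ^ k := by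
              rw [(Commute.pow_right (h1 : Commute (π a) (π c)) k).eq]
          _ = π c ^ k * (π a * π x₀) * π a ^ k := by group
          _ = π c ^ k * (π c * π x₀ * π a) * π a ^ k := by rw [h3]
          _ = π c ^ (k + 1) * π x₀ * π a ^ (k + 1) := by
              rw [pow_succ, pow_succ]
              group
    have h5 : π a ^ p = 1 := by
      rw [← map_pow]
      exact (hπ _).2 (hAp a ha)
    have h6 := h4 p
    rw [h5, one_mul, mul_one] at h6
    have h7 : π c ^ p = 1 := by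
      have h8 : π c ^ p * π x₀ = 1 * π x₀ := by
        rw [one_mul]
        exact h6.symm
      exact mul_right_cancel h8
    have hcpN : c ^ p ∈ N := by
      rw [← hπ, map_pow]
      exact h7
    obtain ⟨j, hj⟩ := hN ⟨c ^ p, hcpN⟩
    have hj' : (c ^ p) ^ p ^ j = 1 := by simpa using congrArg Subtype.val hj
    refine hQ1 c hcQ ⟨j + 1, ?_⟩
    rw [pow_succ', pow_mul]
    exact hj'
  -- the `p'`-part of `c`
  have hm1 : m ≠ 1 := by
    intro h
    apply hcN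
    have h2 := hm c hcQ
    rwa [h, pow_one] at h2
  have hm0 : m ≠ 0 := by
    intro h
    rw [h] at hmp
    exact hpp.one_lt.ne' ((Nat.coprime_zero_left p).1 hmp)
  obtain ⟨n, hn⟩ : ∃ n, n = Nat.card N := ⟨_, rfl⟩
  have hnm : Nat.Coprime n m := by
    obtain ⟨k, hk⟩ := IsPGroup.iff_card.1 hN
    rw [hn, hk]
    exact Nat.Coprime.pow_left k hmp.symm
  obtain ⟨j, -, hj⟩ := Nat.exists_mul_mod_eq_one_of_coprime hnm (by omega : 1 < m)
  obtain ⟨x, hx⟩ : ∃ x, x = c ^ (n * j) := ⟨_, rfl⟩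
  have hxQ : x ∈ Q := hx ▸ Q.pow_mem hcQ _
  have hxc : c⁻¹ * x ∈ N := by
    have e : n * j = 1 + m * (n * j / m) := by
      have h2 := Nat.mod_add_div (n * j) m
      omega
    rw [hx, e, pow_add, pow_one, inv_mul_cancel_left, pow_mul]
    exact N.pow_mem (hm c hcQ) _
  have hxm : x ^ m = 1 := by
    have e2 : n * j * m = m * j * n := by ring
    rw [hx, ← pow_mul, e2, pow_mul, pow_mul]
    have h1 : (c ^ m) ^ j ∈ N := N.pow_mem (hm c hcQ) j
    have h2 : (⟨(c ^ m) ^ j, h1⟩ : N) ^ Nat.card N = 1 := pow_card_eq_one'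
    rw [hn]
    have h3 := congrArg (fun z : N => (z : M)) h2
    simp only [Subgroup.coe_pow, Subgroup.coe_one] at h3
    exact h3
  have hxord : (orderOf x).Coprime p :=
    Nat.Coprime.coprime_dvd_left (orderOf_dvd_of_pow_eq_one hxm) hmp
  have hπxc : π x = π c := by
    have h1 := (hπ (c⁻¹ * x)).2 hxc
    rw [map_mul, map_inv] at h1
    exact (inv_mul_eq_one.1 h1).symm
  have hxC : x ∈ centMod N B := by
    have e : x = c * (c⁻¹ * x) := by group
    rw [e]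
    exact (centMod N B).mul_mem hcC (hNC hxc)
  have hxB : ∀ b ∈ B, b * x * b⁻¹ * x⁻¹ ∈ N := mem_centMod.1 hxC
  have hxa : a * x * a⁻¹ * x⁻¹ ∉ N := by
    intro hcon
    apply hac
    have h1 := (hπ _).2 hcon
    rw [← hπ]
    rw [map_mul, map_mul, map_mul, map_inv, map_inv] at h1 ⊢
    rw [← hπxc]
    exact h1
  have hxL₀ : x ∈ Lf x₀ := hx ▸ (Lf x₀).pow_mem hcL _
  have hLle : Lf x ≤ Lf x₀ := by
    rw [hLf x]
    refine sup_le (haL x₀) ?_
    rintro _ ⟨a', ha', rfl⟩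
    show x * a' * x⁻¹ ∈ Lf x₀
    exact (Lf x₀).mul_mem ((Lf x₀).mul_mem hxL₀ (haL x₀ ha')) ((Lf x₀).inv_mem hxL₀)
  have hLeq : Lf x = Lf x₀ := Subgroup.eq_of_le_of_card_ge hLle (hmin x hxQ hxB hxa)
  refine ⟨x, hxQ, ?_⟩
  rw [← hLf x]
  obtain ⟨L, hLdef⟩ : ∃ L, L = Lf x := ⟨_, rfl⟩
  rw [← hLdef]
  have hxL : x ∈ L := by
    rw [hLdef, hLeq]
    exact hxL₀
  have hAL : A ≤ L := hLdef ▸ haL x
  have hLgen : ∀ K : Subgroup M, A ≤ K → x ∈ K → L ≤ K := by
    intro K hAK hxK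
    rw [hLdef, hLf x]
    refine sup_le hAK ?_
    rintro _ ⟨a', ha', rfl⟩
    show x * a' * x⁻¹ ∈ K
    exact K.mul_mem (K.mul_mem hxK (hAK ha')) (K.inv_mem hxK)
  -- (1)
  have h1 : x ∈ (pResidual p ↥L).map L.subtype := by
    refine ⟨⟨x, hxL⟩, Subgroup.subset_closure ?_, rfl⟩
    show (orderOf (⟨x, hxL⟩ : L)).Coprime p
    rw [Subgroup.orderOf_mk]
    exact hxord
  have hRle : ∀ K : Subgroup M, (∀ g ∈ L, (orderOf g).Coprime p → g ∈ K) →
      (pResidual p ↥L).map L.subtype ≤ K := by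
    intro K hK
    rw [Subgroup.map_le_iff_le_comap]
    unfold pResidual
    rw [Subgroup.closure_le]
    intro g hg
    have hg' : (orderOf g).Coprime p := hg
    rw [← Subgroup.orderOf_coe] at hg'
    exact hK g g.2 hg'
  -- (2)
  have hLQ : L ≤ Q ⊔ A := hLgen _ le_sup_right (Subgroup.mem_sup_left hxQ)
  have h2 : (pResidual p ↥L).map L.subtype ≤ Q :=
    hRle Q (fun g hg hgc => coprime_mem_of_mem_sup hA
      (fun a' _ h hh => Subgroup.Normal.conj_mem inferInstance h hh a') (hLQ hg) hgc)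
  -- (3)
  have hRn : ∀ ℓ ∈ L, ∀ r ∈ (pResidual p ↥L).map L.subtype,
      ℓ * r * ℓ⁻¹ ∈ (pResidual p ↥L).map L.subtype := by
    rintro ℓ hℓ _ ⟨r, hr, rfl⟩
    exact ⟨⟨ℓ, hℓ⟩ * r * ⟨ℓ, hℓ⟩⁻¹,
      (Cfsg.Agent.Helper6.pResidual_normal p ↥L).conj_mem r hr ⟨ℓ, hℓ⟩, rfl⟩
  have h3a : ⁅(pResidual p ↥L).map L.subtype, A⁆ ≤ (pResidual p ↥L).map L.subtype := by
    rw [Subgroup.commutator_le]
    intro r hr a' ha'
    have e : ⁅r, a'⁆ = r * (a' * r⁻¹ * a'⁻¹) := by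
      rw [commutatorElement_def]
      group
    rw [e]
    exact Subgroup.mul_mem _ hr (hRn a' (hAL ha') _ (Subgroup.inv_mem _ hr))
  have hnorm3 : ∀ a' ∈ A, ∀ h ∈ ⁅(pResidual p ↥L).map L.subtype, A⁆,
      a' * h * a'⁻¹ ∈ ⁅(pResidual p ↥L).map L.subtype, A⁆ := by
    intro a' ha' h hh
    have h5 := BO.comm_normal_left A ((pResidual p ↥L).map L.subtype) ha'
    rw [Subgroup.commutator_comm] at h5
    exact (Subgroup.mem_normalizer_iff.1 h5 h).1 hh
  have hL3 : L ≤ ⁅(pResidual p ↥L).map L.subtype, A⁆ ⊔ A := by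
    rw [hLdef, hLf x, ← hLf x, ← hLdef]
    intro g hg
    rw [hLdef, hLf x] at hg
    revert g
    show A ⊔ A.map (MulAut.conj x).toMonoidHom ≤ _
    refine sup_le le_sup_right ?_
    rintro _ ⟨a', ha', rfl⟩
    have e : x * a' * x⁻¹ = ⁅x, a'⁆ * a' := by
      rw [commutatorElement_def]
      group
    show x * a' * x⁻¹ ∈ _
    rw [e]
    exact Subgroup.mul_mem _
      (Subgroup.mem_sup_left (Subgroup.commutator_mem_commutator h1 ha'))
      (Subgroup.mem_sup_right ha')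
  have h3b : (pResidual p ↥L).map L.subtype ≤ ⁅(pResidual p ↥L).map L.subtype, A⁆ :=
    hRle _ (fun g hg hgc => coprime_mem_of_mem_sup hA hnorm3 (hL3 hg) hgc)
  -- (4), (5)
  have hLC : L ≤ centMod N B := hLgen _ hAC hxC
  have hPLp : IsPGroup p ↥((pCore p ↥L).map L.subtype) :=
    (Cfsg.Agent.Helper23.pCore_isPGroup p).map _
  have hPLn : ∀ ℓ ∈ L, ∀ r ∈ (pCore p ↥L).map L.subtype,
      ℓ * r * ℓ⁻¹ ∈ (pCore p ↥L).map L.subtype := by
    rintro ℓ hℓ _ ⟨r, hr, rfl⟩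
    exact ⟨⟨ℓ, hℓ⟩ * r * ⟨ℓ, hℓ⟩⁻¹,
      (Cfsg.Agent.Helper23.pCore_normal_fin (G := ↥L) p).conj_mem r hr ⟨ℓ, hℓ⟩, rfl⟩
  have hBP : B ≤ (pCore p ↥L).map L.subtype := by
    have hNBp : IsPGroup p ↥(B ⊔ N) := IsPGroup.to_sup_of_normal_right (hA.to_le hBA) hN
    have hn' : ((B ⊔ N).subgroupOf L).Normal := by
      constructor
      intro g hg ℓ
      rw [Subgroup.mem_subgroupOf] at hg ⊢
      obtain ⟨b, hb, n', hn', hbn⟩ := Subgroup.mem_sup_of_normal_right.1 hg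
      have h5 := mem_centMod.1 (hLC ℓ.2) b hb
      have e : ((ℓ * g * ℓ⁻¹ : L) : M) =
          (b * ℓ * b⁻¹ * (ℓ : M)⁻¹)⁻¹ * b * (ℓ * n' * (ℓ : M)⁻¹) := by
        rw [Subgroup.coe_mul, Subgroup.coe_mul, Subgroup.coe_inv, ← hbn]
        group
      rw [e]
      exact Subgroup.mul_mem _ (Subgroup.mul_mem _ (Subgroup.mem_sup_right (N.inv_mem h5))
        (Subgroup.mem_sup_left hb))
        (Subgroup.mem_sup_right (Subgroup.Normal.conj_mem inferInstance n' hn' ℓ))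
    have hp' : IsPGroup p ↥((B ⊔ N).subgroupOf L) := hNBp.comap_subtype
    have hle := Cfsg.Agent.Helper23.le_pCore hn' hp'
    intro b hb
    have hbL : b ∈ L := hAL (hBA hb)
    exact ⟨⟨b, hbL⟩, hle (Subgroup.mem_subgroupOf.2 (Subgroup.mem_sup_left hb)), rfl⟩
  have haP : a ∉ (pCore p ↥L).map L.subtype := by
    intro haP
    apply hxa
    have h5 : a * (x * a⁻¹ * x⁻¹) ∈ (pCore p ↥L).map L.subtype :=
      Subgroup.mul_mem _ haP (hPLn x hxL _ (Subgroup.inv_mem _ haP))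
    obtain ⟨k, hk⟩ := hPLp ⟨_, h5⟩
    have hk' : (a * (x * a⁻¹ * x⁻¹)) ^ p ^ k = 1 := by simpa using congrArg Subtype.val hk
    have e : a * x * a⁻¹ * x⁻¹ = a * (x * a⁻¹ * x⁻¹) := by group
    rw [e]
    refine hQ1 _ ?_ ⟨k, hk'⟩
    rw [← e]
    have h6 : a * x * a⁻¹ ∈ Q := Subgroup.Normal.conj_mem inferInstance x hxQ a
    exact Q.mul_mem h6 (Q.inv_mem hxQ)
  have hBK : B ≤ A ⊓ (pCore p ↥L).map L.subtype := le_inf hBA hBP
  have hmul := Subgroup.relIndex_mul_relIndex B (A ⊓ (pCore p ↥L).map L.subtype) A hBK inf_le_left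
  rw [hBp] at hmul
  have hdvd : (A ⊓ (pCore p ↥L).map L.subtype).relIndex A ∣ p := Dvd.intro_left _ hmul
  have h4 : (A ⊓ (pCore p ↥L).map L.subtype).relIndex A = p := by
    rcases (Nat.dvd_prime hpp).1 hdvd with h | h
    · exfalso
      rw [Subgroup.relIndex_eq_one] at h
      exact haP (h ha).2
    · exact h
  have hKB : A ⊓ (pCore p ↥L).map L.subtype ≤ B := by
    rw [h4] at hmul
    have h5 : B.relIndex (A ⊓ (pCore p ↥L).map L.subtype) = 1 :=
      Nat.eq_of_mul_eq_mul_right hpp.pos (hmul.trans (one_mul p).symm)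
    exact Subgroup.relIndex_eq_one.1 h5
  have h5 : ⁅A ⊓ (pCore p ↥L).map L.subtype, L⁆ ≤ N := by
    rw [Subgroup.commutator_le]
    intro g hg ℓ hℓ
    have h6 := mem_centMod.1 (hLC hℓ) g (hKB hg)
    rw [commutatorElement_def]
    exact h6
  exact ⟨h1, h2, le_antisymm h3a h3b, h4, h5⟩

/-- the data for `core` in a `p`-soluble group -/
theorem exists_core_data [Finite M] {p : ℕ} [Fact p.Prime] (hM : IsPSolvable p M)
    (A : Subgroup M) (hA : IsPGroup p A)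
    (hΦ : (frattini ↥A).map A.subtype ≤ pCore p M) (hnot : ¬ A ≤ pCore p M) :
    (∀ a ∈ A, ∀ b ∈ A, a * b * a⁻¹ * b⁻¹ ∈ pCore p M) ∧ (∀ a ∈ A, a ^ p ∈ pCore p M) ∧
    ∃ B : Subgroup M, B ≤ A ∧ B.relIndex A = p ∧
      ∃ q ∈ (pPrimeCore p (M ⧸ pCore p M)).comap (QuotientGroup.mk' (pCore p M)),
        (∀ b ∈ B, b * q * b⁻¹ * q⁻¹ ∈ pCore p M) ∧ ∃ a ∈ A, a * q * a⁻¹ * q⁻¹ ∉ pCore p M := by
  classical
  have hpp := (Fact.out : p.Prime)
  have hNp : IsPGroup p (pCore p M) := Cfsg.Agent.Helper23.pCore_isPGroup p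
  have hcomm : ∀ a ∈ A, ∀ b ∈ A, a * b * a⁻¹ * b⁻¹ ∈ pCore p M := by
    intro a ha b hb
    have h1 := Cfsg.Agent.Helper23.QP.commutator_mem_frattini hA (⟨a, ha⟩ : A) ⟨b, hb⟩
    have h2 : ((⁅(⟨a, ha⟩ : A), ⟨b, hb⟩⁆ : A) : M) ∈ (frattini ↥A).map A.subtype :=
      ⟨_, h1, rfl⟩
    have h3 := hΦ h2
    rw [commutatorElement_def] at h3
    exact h3
  have hpow : ∀ a ∈ A, a ^ p ∈ pCore p M := by
    intro a ha
    have h1 := Cfsg.Agent.Helper23.QP.pow_mem_frattini hA (⟨a, ha⟩ : A)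
    have h2 : (((⟨a, ha⟩ : A) ^ p : A) : M) ∈ (frattini ↥A).map A.subtype := ⟨_, h1, rfl⟩
    exact hΦ h2
  refine ⟨hcomm, hpow, ?_⟩
  obtain ⟨π, hπ, hπs, hπe⟩ : ∃ π : M →* M ⧸ pCore p M, (∀ g, π g = 1 ↔ g ∈ pCore p M) ∧
      Function.Surjective π ∧ π = QuotientGroup.mk' (pCore p M) :=
    ⟨QuotientGroup.mk' _, fun g => QuotientGroup.eq_one_iff g, QuotientGroup.mk'_surjective _,
      rfl⟩
  have hsolq : IsPSolvable p (M ⧸ pCore p M) := Cfsg.Agent.Helper23.isPSolvable_quotient hM _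
  have hO : pCore p (M ⧸ pCore p M) = ⊥ := by
    rw [Cfsg.Agent.Helper9.pCore_quotient_eq_bot_iff]
    intro D hD hDp
    apply Cfsg.Agent.Helper23.le_pCore hD
    intro d
    obtain ⟨k, hk⟩ := hDp d d.2
    obtain ⟨j, hj⟩ := hNp ⟨_, hk⟩
    have h3 := congrArg (fun z : pCore p M => (z : M)) hj
    simp only [Subgroup.coe_pow, Subgroup.coe_one] at h3
    refine ⟨k + j, Subtype.ext ?_⟩
    rw [Subgroup.coe_pow, Subgroup.coe_one, pow_add, pow_mul]
    exact h3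
  have hXc : (Nat.card (pPrimeCore p (M ⧸ pCore p M))).Coprime p :=
    Cfsg.Agent.Helper23.pPrimeCore_coprime p
  have hHH := Cfsg.Agent.Helper19.SD.hall_higman_dual hsolq hO
  have hAbar : IsElementaryAbelian p (A.map π) := by
    rw [Cfsg.Agent.Helper3.isElementaryAbelian_iff]
    refine ⟨?_, ?_⟩
    · rintro _ ⟨a, ha, rfl⟩ _ ⟨b, hb, rfl⟩
      have h1 := (hπ _).2 (hcomm a ha b hb)
      rw [map_mul, map_mul, map_mul, map_inv, map_inv] at h1
      calc π a * π b = (π a * π b * (π a)⁻¹ * (π b)⁻¹) * (π b * π a) := by group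
        _ = π b * π a := by rw [h1, one_mul]
    · rintro _ ⟨a, ha, rfl⟩
      rw [← map_pow]
      exact (hπ _).2 (hpow a ha)
  have hXp : ¬ p ∣ Nat.card (pPrimeCore p (M ⧸ pCore p M)) :=
    fun h => hpp.one_lt.ne' (hXc.symm.eq_one_of_dvd h)
  have hAX : A.map π ≤ Subgroup.normalizer
      ((pPrimeCore p (M ⧸ pCore p M) : Subgroup (M ⧸ pCore p M)) : Set (M ⧸ pCore p M)) := by
    rw [Subgroup.normalizer_eq_top]
    exact le_top
  have hgen := Cfsg.Agent.Helper9.hyperplane_generation p (A.map π)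
    (pPrimeCore p (M ⧸ pCore p M)) hAbar hXp hAX
  obtain ⟨Bb, hBb⟩ : ∃ Bb : {B : Subgroup (M ⧸ pCore p M) //
        B ≤ A.map π ∧ B.relIndex (A.map π) ≤ p},
      ¬ (pPrimeCore p (M ⧸ pCore p M) ⊓ Subgroup.centralizer
        ((Bb : Subgroup (M ⧸ pCore p M)) : Set (M ⧸ pCore p M)) ≤
        Subgroup.centralizer ((A.map π : Subgroup (M ⧸ pCore p M)) : Set (M ⧸ pCore p M))) := by
    by_contra hcon
    push Not at hcon
    apply hnot
    have h1 : pPrimeCore p (M ⧸ pCore p M) ≤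
        Subgroup.centralizer ((A.map π : Subgroup (M ⧸ pCore p M)) : Set (M ⧸ pCore p M)) := by
      intro g hg
      rw [hgen] at hg
      exact (iSup_le hcon) hg
    have h2 : A.map π ≤ pPrimeCore p (M ⧸ pCore p M) :=
      (Subgroup.le_centralizer_iff.1 h1).trans hHH
    intro a ha
    rw [← hπ]
    have h3 := h2 (Subgroup.mem_map_of_mem π ha)
    have h4 : orderOf (π a) ∣ Nat.card (pPrimeCore p (M ⧸ pCore p M)) :=
      Subgroup.orderOf_dvd_natCard _ h3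
    obtain ⟨k, hk⟩ := hA ⟨a, ha⟩
    have hk' : a ^ p ^ k = 1 := by
      have h6 := congrArg (fun z : A => (z : M)) hk
      simp only [Subgroup.coe_pow, Subgroup.coe_one] at h6
      exact h6
    have h5 : orderOf (π a) ∣ p ^ k := by
      apply orderOf_dvd_of_pow_eq_one
      rw [← map_pow, hk', map_one]
    have h6 : orderOf (π a) = 1 :=
      Nat.eq_one_of_dvd_coprimes (Nat.Coprime.pow_right k hXc) h4 h5
    exact orderOf_eq_one_iff.1 h6
  obtain ⟨qb, hqb, hqbA⟩ := SetLike.not_le_iff_exists.1 hBb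
  obtain ⟨hqbX, hqbB⟩ := Subgroup.mem_inf.1 hqb
  obtain ⟨q, rfl⟩ := hπs qb
  obtain ⟨a, ha, haq⟩ : ∃ a ∈ A, π a * π q ≠ π q * π a := by
    by_contra hcon
    push Not at hcon
    apply hqbA
    rw [Subgroup.mem_centralizer_iff]
    rintro _ ⟨a, ha, rfl⟩
    exact hcon a ha
  refine ⟨A ⊓ (Bb : Subgroup (M ⧸ pCore p M)).comap π, inf_le_left, ?_, q, ?_, ?_, a, ha, ?_⟩
  · rw [Subgroup.inf_relIndex_left, Subgroup.relIndex_comap]
    have hidx := Bb.2.2
    have hne1 : (Bb : Subgroup (M ⧸ pCore p M)).relIndex (A.map π) ≠ 1 := by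
      intro h
      rw [Subgroup.relIndex_eq_one] at h
      exact haq (Subgroup.mem_centralizer_iff.1 hqbB _ (h (Subgroup.mem_map_of_mem π ha)))
    have hdvd : (Bb : Subgroup (M ⧸ pCore p M)).relIndex (A.map π) ∣ Nat.card (A.map π) :=
      Subgroup.relIndex_dvd_card _ _
    obtain ⟨k, hk⟩ := IsPGroup.iff_card.1 (hA.map π)
    rw [hk] at hdvd
    obtain ⟨j, hj, hjeq⟩ := (Nat.dvd_prime_pow hpp).1 hdvd
    rw [hjeq] at hidx hne1 ⊢
    have hj1 : j = 1 := by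
      rcases j with _ | _ | j
      · exact absurd (pow_zero p) hne1
      · rfl
      · exfalso
        have h7 : p ^ 2 ≤ p ^ (j + 1 + 1) := Nat.pow_le_pow_right hpp.pos (by omega)
        have h8 : p < p ^ 2 := by nlinarith [hpp.one_lt]
        omega
    rw [hj1, pow_one]
  · rw [← hπe]
    exact hqbX
  · intro b hb
    have hb' : π b ∈ (Bb : Subgroup (M ⧸ pCore p M)) := (Subgroup.mem_inf.1 hb).2
    have h1 := Subgroup.mem_centralizer_iff.1 hqbB (π b) hb'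
    rw [← hπ, map_mul, map_mul, map_mul, map_inv, map_inv, h1]
    group
  · intro hcon
    apply haq
    have h1 := (hπ _).2 hcon
    rw [map_mul, map_mul, map_mul, map_inv, map_inv] at h1
    calc π a * π q = (π a * π q * (π a)⁻¹ * (π q)⁻¹) * (π q * π a) := by group
      _ = π q * π a := by rw [h1, one_mul]

end Cfsg.Agent.Helper19.HH
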