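import Mathlib
import Cfsg.Agent.Helper19.HH1
import Cfsg.Agent.Helper19.HH2
import Cfsg.Agent.Lead.Coprime
import Cfsg.Agent.Helper23.S4Sec
import Cfsg.Agent.Helper10.NpcMin
import Cfsg.Agent.Helper23.PSolv

/-!
helper19: a cyclic subgroup normalized by a Sylow `p`-subgroup lies in `O_p` (when `O_{p'} = 1`),
Huppert-style, via transvections on `Q/Φ(Q)` and the Schur–Zassenhaus theorem.
-/

set_option autoImplicit false

namespace Cfsg.Agent.Helper19.HH

open Cfsg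

/-- Iterated conjugation when the commutator commutes with the acting element. -/
theorem conj_pow_of_comm {X : Type*} [Group X] (g u w : X) (hgu : g * u * g⁻¹ = u * w)
    (hc : Commute g w) : ∀ k : ℕ, g ^ k * u * (g ^ k)⁻¹ = u * w ^ k := by
  intro k
  induction k with
  | zero => simp
  | succ k ih =>
    have h1 : g ^ (k + 1) * u * (g ^ (k + 1))⁻¹ = g * (g ^ k * u * (g ^ k)⁻¹) * g⁻¹ := by
      rw [pow_succ']; group
    rw [h1, ih]
    have h2 : g * (u * w ^ k) * g⁻¹ = (g * u * g⁻¹) * (g * w ^ k * g⁻¹) := by group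
    rw [h2, hgu, (hc.pow_right k).eq, mul_inv_cancel_right, mul_assoc, ← pow_succ']

/-- Coprime action, relative form: if `g ^ m` fixes `u` and the commutator `w` of `u` with `g`
commutes with `g` and satisfies `w ^ p = 1` with `m`, `p` coprime, then `g` fixes `u`. -/
theorem fix_of_comm_coprime' {X : Type*} [Group X] (g u : X) (m p : ℕ) (hmp : Nat.Coprime m p)
    (hgm : g ^ m * u * (g ^ m)⁻¹ = u) (hwp : (u⁻¹ * (g * u * g⁻¹)) ^ p = 1)
    (hwg : g * (u⁻¹ * (g * u * g⁻¹)) = (u⁻¹ * (g * u * g⁻¹)) * g) : g * u * g⁻¹ = u := by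
  obtain ⟨w, hw⟩ : ∃ w, w = u⁻¹ * (g * u * g⁻¹) := ⟨_, rfl⟩
  rw [← hw] at hwp hwg
  have hgu : g * u * g⁻¹ = u * w := by rw [hw]; group
  have h3 := conj_pow_of_comm g u w hgu hwg m
  rw [hgm] at h3
  have h4 : w ^ m = 1 := by
    have h5 : u * w ^ m = u * 1 := by rw [mul_one]; exact h3.symm
    exact mul_left_cancel h5
  have hd : orderOf w ∣ Nat.gcd m p :=
    Nat.dvd_gcd (orderOf_dvd_of_pow_eq_one h4) (orderOf_dvd_of_pow_eq_one hwp)
  have hg1 : Nat.gcd m p = 1 := hmp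
  rw [hg1, Nat.dvd_one] at hd
  have hw1 : w = 1 := orderOf_eq_one_iff.mp hd
  rw [hgu, hw1, mul_one]

/-- Powers of `υ * α` when `α` acts on `υ` quadratically. -/
theorem pow_mul_of_quad {X : Type*} [Group X] (α υ γ : X) (h1 : α * υ * α⁻¹ = υ * γ)
    (h2 : Commute α γ) (h3 : Commute υ γ) :
    ∀ k : ℕ, (υ * α) ^ k = υ ^ k * γ ^ (∑ i ∈ Finset.range k, i) * α ^ k := by
  intro k
  induction k with
  | zero => simp
  | succ k ih =>
    have h4 := conj_pow_of_comm α υ γ h1 h2 k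
    have h5 : α ^ k * υ = υ * γ ^ k * α ^ k := by
      rw [← h4]; group
    have h6 : γ ^ (∑ i ∈ Finset.range k, i) * υ = υ * γ ^ (∑ i ∈ Finset.range k, i) :=
      ((h3.pow_right _).eq).symm
    rw [pow_succ, ih, Finset.sum_range_succ]
    calc υ ^ k * γ ^ (∑ i ∈ Finset.range k, i) * α ^ k * (υ * α)
        = υ ^ k * γ ^ (∑ i ∈ Finset.range k, i) * (α ^ k * υ) * α := by group
      _ = υ ^ k * γ ^ (∑ i ∈ Finset.range k, i) * (υ * γ ^ k * α ^ k) * α := by rw [h5]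
      _ = υ ^ k * (γ ^ (∑ i ∈ Finset.range k, i) * υ) * γ ^ k * α ^ k * α := by group
      _ = υ ^ k * (υ * γ ^ (∑ i ∈ Finset.range k, i)) * γ ^ k * α ^ k * α := by rw [h6]
      _ = υ ^ (k + 1) * γ ^ (∑ i ∈ Finset.range k, i + k) * α ^ (k + 1) := by
        rw [pow_succ, pow_succ, pow_add]; group

/-- A `p`-element outside a subgroup: its powers lying in the subgroup are `p`-th powers. -/
theorem cyc_dvd {H : Type*} [Group H] [Finite H] {p : ℕ} [Fact p.Prime] (S : Subgroup H) (a : H)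
    (e : ℕ) (he : orderOf a = p ^ e) (ha : a ∉ S) (k : ℕ) (hk : a ^ k ∈ S) : p ∣ k := by
  by_contra h
  apply ha
  refine mem_of_pow_mem_of_coprime hk ?_
  rw [he]
  exact Nat.Coprime.pow_left e ((Nat.Prime.coprime_iff_not_dvd Fact.out).2 h)

/-- Schur–Zassenhaus in an ambient group: a complement to a normal Hall subgroup `Q` of `K`. -/
theorem exists_complement_amb {H : Type*} [Group H] [Finite H] (Q K : Subgroup H) [Q.Normal]
    (hQK : Q ≤ K) (hcop : (Nat.card Q).Coprime (Q.relIndex K)) :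
    ∃ R : Subgroup H, R ≤ K ∧ R ⊓ Q = ⊥ ∧ (∀ x ∈ K, ∃ r ∈ R, ∃ q ∈ Q, x = r * q) ∧
      Nat.card R = Q.relIndex K := by
  have hNn : (Q.subgroupOf K).Normal := inferInstance
  have hcardN : Nat.card (Q.subgroupOf K) = Nat.card Q :=
    Nat.card_congr (Subgroup.subgroupOfEquivOfLe hQK).toEquiv
  have hcop' : (Nat.card (Q.subgroupOf K)).Coprime (Q.subgroupOf K).index := by
    rw [hcardN]; exact hcop
  obtain ⟨R₀, hR₀⟩ := Subgroup.exists_left_complement'_of_coprime hcop'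
  refine ⟨R₀.map K.subtype, Subgroup.map_subtype_le R₀, ?_, ?_, ?_⟩
  · rw [eq_bot_iff]
    rintro x ⟨⟨y, hy, rfl⟩, hxQ⟩
    have h1 : y ∈ R₀ ⊓ Q.subgroupOf K := Subgroup.mem_inf.mpr ⟨hy, Subgroup.mem_subgroupOf.mpr hxQ⟩
    rw [hR₀.disjoint.eq_bot, Subgroup.mem_bot] at h1
    rw [h1]; exact Subgroup.one_mem _
  · intro x hx
    obtain ⟨⟨⟨r, hr⟩, ⟨q, hq⟩⟩, h⟩ := (hR₀.existsUnique ⟨x, hx⟩).exists
    refine ⟨(r : H), ⟨r, hr, rfl⟩, (q : H), Subgroup.mem_subgroupOf.mp hq, ?_⟩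
    have h2 := congrArg Subtype.val h
    exact h2.symm
  · have h1 : Nat.card (R₀.map K.subtype) = Nat.card R₀ :=
      Nat.card_congr (R₀.equivMapOfInjective K.subtype K.subtype_injective).symm.toEquiv
    rw [h1, ← hR₀.index_eq_card]
    rfl

/-- Involvement passes from a quotient to the group. -/
theorem involves_of_quot {G : Type*} [Group G] {L : Type*} [Group L] (M : Subgroup G)
    [M.Normal] (h : Involves L (G ⧸ M)) : Involves L G := by
  obtain ⟨K', f, hf⟩ := Cfsg.Agent.Helper26.exists_surj_of_involves h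
  exact Cfsg.Agent.Helper26.involves_of_span (K'.comap (QuotientGroup.mk' M)).subtype
    (Subgroup.subtype_injective _) (f.comp ((QuotientGroup.mk' M).subgroupComap K'))
    (hf.comp ((QuotientGroup.mk' M).subgroupComap_surjective_of_surjective K'
      (QuotientGroup.mk'_surjective M)))

/-- In a `p`-solvable group, a `p`-element centralizing `O_{p,p'}(H)/O_p(H)` lies in `O_p(H)`. -/
theorem mem_pCore_of_comm {H : Type*} [Group H] [Finite H] {p : ℕ} [Fact p.Prime]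
    (hsol : IsPSolvable p H) (g : H) (hg : ∃ e : ℕ, orderOf g = p ^ e)
    (h : ∀ x ∈ (pPrimeCore p (H ⧸ pCore p H)).comap (QuotientGroup.mk' (pCore p H)),
      g * x * g⁻¹ * x⁻¹ ∈ pCore p H) : g ∈ pCore p H := by
  have hpp := (Fact.out : p.Prime)
  have hsolq : IsPSolvable p (H ⧸ pCore p H) :=
    Cfsg.Agent.Helper23.isPSolvable_quotient hsol (pCore p H)
  have hdual := SD.hall_higman_dual hsolq Cfsg.Agent.Helper10.pCore_quot_pCore
  have hmem : (QuotientGroup.mk' (pCore p H)) g ∈ pPrimeCore p (H ⧸ pCore p H) := by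
    apply hdual
    rw [Subgroup.mem_centralizer_iff]
    intro k hk
    obtain ⟨x, rfl⟩ := QuotientGroup.mk'_surjective (pCore p H) k
    have h1 := h x (Subgroup.mem_comap.mpr hk)
    have h2 : (QuotientGroup.mk' (pCore p H)) (g * x * g⁻¹ * x⁻¹) = 1 :=
      (QuotientGroup.eq_one_iff _).2 h1
    rw [map_mul, map_mul, map_mul, map_inv, map_inv] at h2
    have h3 : (QuotientGroup.mk' (pCore p H)) x * (QuotientGroup.mk' (pCore p H)) g
        = ((QuotientGroup.mk' (pCore p H)) g * (QuotientGroup.mk' (pCore p H)) x *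
          ((QuotientGroup.mk' (pCore p H)) g)⁻¹ * ((QuotientGroup.mk' (pCore p H)) x)⁻¹)⁻¹ *
          ((QuotientGroup.mk' (pCore p H)) g * (QuotientGroup.mk' (pCore p H)) x) := by group
    rw [h3, h2, inv_one, one_mul]
  obtain ⟨e, he⟩ := hg
  have hd1 : orderOf ((QuotientGroup.mk' (pCore p H)) g) ∣ p ^ e := by
    rw [← he]; exact orderOf_map_dvd _ g
  have hd2 : orderOf ((QuotientGroup.mk' (pCore p H)) g) ∣ Nat.card (pPrimeCore p (H ⧸ pCore p H)) :=
    Subgroup.orderOf_dvd_natCard _ hmem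
  have hcop : (Nat.card (pPrimeCore p (H ⧸ pCore p H))).Coprime (p ^ e) :=
    Nat.Coprime.pow_right e (Cfsg.Agent.Helper23.pPrimeCore_coprime p)
  have h1 : orderOf ((QuotientGroup.mk' (pCore p H)) g) = 1 :=
    Nat.eq_one_of_dvd_coprimes hcop hd2 hd1
  have h2 := orderOf_eq_one_iff.mp h1
  exact (QuotientGroup.eq_one_iff g).1 h2

/-- **Cyclic subgroups normalized by a Sylow subgroup.** Let `Q` be a normal `p`-subgroup of `H`
such that `H/Q` acts faithfully on `Q/Φ(Q)` and every `p`-element centralizing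
`O_{p'}(H/Q)` lies in `Q`. If `a` lies in a Sylow `p`-subgroup `P` which normalizes `⟨a⟩`, then
`a ∈ Q`, unless `p = 2` and `S₄` is involved in `H`. -/
theorem cyclic_normal_core {H : Type*} [Group H] [Finite H] {p : ℕ} [Fact p.Prime]
    (Q : Subgroup H) [hQn : Q.Normal] (hQp : IsPGroup p Q)
    (hfaith : ∀ g : H, (∀ x ∈ Q, g * x * g⁻¹ * x⁻¹ ∈ (frattini ↥Q).map Q.subtype) → g ∈ Q)
    (hS12 : ∀ g : H, (∃ e : ℕ, orderOf g = p ^ e) →
      (∀ x ∈ (pPrimeCore p (H ⧸ Q)).comap (QuotientGroup.mk' Q), g * x * g⁻¹ * x⁻¹ ∈ Q) → g ∈ Q)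
    (P : Sylow p H) (a : H) (haP : a ∈ (P : Subgroup H))
    (hnorm : ∀ g ∈ (P : Subgroup H), ∃ k : ℕ, g * a * g⁻¹ = a ^ k) :
    a ∈ Q ∨ (p = 2 ∧ Involves (Equiv.Perm (Fin 4)) H) := by
  classical
  have hpp := (Fact.out : p.Prime)
  by_contra hcontra
  push Not at hcontra
  obtain ⟨haQ, hno4⟩ := hcontra
  have hQP : Q ≤ (P : Subgroup H) := hQp.le_sylow_of_normal P
  obtain ⟨e, he⟩ : ∃ e : ℕ, orderOf a = p ^ e := by
    obtain ⟨k, hk⟩ := P.isPGroup' ⟨a, haP⟩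
    have h1 := congrArg (fun z : ↥(P : Subgroup H) => (z : H)) hk
    simp only [Subgroup.coe_pow, Subgroup.coe_one] at h1
    obtain ⟨j, -, hj⟩ := (Nat.dvd_prime_pow hpp).mp (orderOf_dvd_of_pow_eq_one h1)
    exact ⟨j, hj⟩
  obtain ⟨Φ, hΦ⟩ : ∃ Φ, Φ = (frattini ↥Q).map Q.subtype := ⟨_, rfl⟩
  rw [← hΦ] at hfaith
  have hΦn : Φ.Normal := by rw [hΦ]; infer_instance
  have hΦQ : Φ ≤ Q := hΦ ▸ Subgroup.map_subtype_le _
  have hcommΦ : ∀ x ∈ Q, ∀ y ∈ Q, x * y * x⁻¹ * y⁻¹ ∈ Φ := by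
    intro x hx y hy
    have h1 := Cfsg.Agent.Helper23.QP.commutator_mem_frattini hQp (⟨x, hx⟩ : Q) ⟨y, hy⟩
    rw [hΦ]
    exact ⟨_, h1, by simp [commutatorElement_def]⟩
  have hpowΦ : ∀ x ∈ Q, x ^ p ∈ Φ := by
    intro x hx
    have h1 := Cfsg.Agent.Helper23.QP.pow_mem_frattini hQp (⟨x, hx⟩ : Q)
    rw [hΦ]
    exact ⟨_, h1, by simp⟩
  -- `b = a ^ p` and the transvection property
  obtain ⟨b, hb⟩ : ∃ b, b = a ^ p := ⟨_, rfl⟩
  have hab : Commute a b := hb ▸ (Commute.refl a).pow_right p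
  have hT : ∀ q ∈ Q, ∃ i : ℕ, a * q * a⁻¹ = q * b ^ i := by
    intro q hq
    obtain ⟨k, hk⟩ := hnorm q⁻¹ (hQP (Q.inv_mem hq))
    rw [inv_inv] at hk
    have hk0 : k ≠ 0 := by
      intro hk0
      rw [hk0, pow_zero] at hk
      apply haQ
      have h1 : a = 1 := by
        have h2 : a = q * (q⁻¹ * a * q) * q⁻¹ := by group
        rw [h2, hk]; group
      rw [h1]; exact Q.one_mem
    have h3 : a ^ (k - 1) ∈ Q := by
      have h4 : a ^ (k - 1) = a⁻¹ * (q⁻¹ * a * q) := by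
        rw [hk]
        have h5 : a ^ k = a * a ^ (k - 1) := by
          rw [← pow_succ']
          congr 1; omega
        rw [h5, inv_mul_cancel_left]
      rw [h4]
      have h5 : a⁻¹ * (q⁻¹ * a * q) = (a⁻¹ * q⁻¹ * a⁻¹⁻¹) * q := by group
      rw [h5]
      exact Q.mul_mem (hQn.conj_mem _ (Q.inv_mem hq) a⁻¹) hq
    obtain ⟨i, hi⟩ := cyc_dvd Q a e he haQ (k - 1) h3
    refine ⟨i, ?_⟩
    have h7 : a ^ k = a * b ^ i := by
      rw [hb, ← pow_mul, ← hi, ← pow_succ']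
      congr 1; omega
    rw [h7] at hk
    have h8 : a * q = q * (a * b ^ i) := by rw [← hk]; group
    calc a * q * a⁻¹ = q * (a * b ^ i) * a⁻¹ := by rw [h8]
      _ = q * (b ^ i * a) * a⁻¹ := by rw [(hab.pow_right i).eq]
      _ = q * b ^ i := by group
  have hbiQ : ∀ q ∈ Q, ∀ i : ℕ, a * q * a⁻¹ = q * b ^ i → b ^ i ∈ Q := by
    intro q hq i h
    have h1 : b ^ i = q⁻¹ * (a * q * a⁻¹) := by rw [h]; group
    rw [h1]
    exact Q.mul_mem (Q.inv_mem hq) (hQn.conj_mem q hq a)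
  have hbQ : b ∈ Q := by
    apply hfaith
    intro q hq
    obtain ⟨i, hi⟩ := hT q hq
    have h1 := conj_pow_of_comm a q (b ^ i) hi (hab.pow_right i) p
    rw [← hb] at h1
    have h2 : b * q * b⁻¹ * q⁻¹ = q * (b ^ i) ^ p * q⁻¹ := by rw [h1]
    rw [h2]
    exact hΦn.conj_mem _ (hpowΦ _ (hbiQ q hq i hi)) q
  -- the quotient map modulo `Φ`
  obtain ⟨π, hπ⟩ : ∃ π : H →* H ⧸ Φ, π = QuotientGroup.mk' Φ := ⟨_, rfl⟩
  have hπsurj : Function.Surjective π := by rw [hπ]; exact QuotientGroup.mk'_surjective Φ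
  have hπker : ∀ x : H, π x = 1 ↔ x ∈ Φ := by
    intro x; rw [hπ]; exact QuotientGroup.eq_one_iff x
  have hπc : ∀ x ∈ Q, ∀ y ∈ Q, Commute (π x) (π y) := by
    intro x hx y hy
    have h1 := (hπker _).2 (hcommΦ x hx y hy)
    rw [map_mul, map_mul, map_mul, map_inv, map_inv] at h1
    show π x * π y = π y * π x
    have h2 : π x * π y = (π x * π y * (π x)⁻¹ * (π y)⁻¹) * (π y * π x) := by group
    rw [h2, h1, one_mul]
  have hπp : ∀ x ∈ Q, (π x) ^ p = 1 := by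
    intro x hx
    rw [← map_pow]; exact (hπker _).2 (hpowΦ x hx)
  obtain ⟨β, hβ⟩ : ∃ β, β = π b := ⟨_, rfl⟩
  have hβp : β ^ p = 1 := hβ ▸ hπp b hbQ
  have hαβ : Commute (π a) β := by rw [hβ]; exact hab.map π
  -- the subgroup `K = O_{p,p'}` and a complement `R` to `Q` in `K`
  obtain ⟨K, hK⟩ : ∃ K, K = (pPrimeCore p (H ⧸ Q)).comap (QuotientGroup.mk' Q) := ⟨_, rfl⟩
  rw [← hK] at hS12
  have hKn : K.Normal := by
    rw [hK]
    exact Subgroup.Normal.comap (Cfsg.Agent.Helper23.pPrimeCore_normal_fin (G := H ⧸ Q) p) _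
  have hQK : Q ≤ K := by
    intro x hx
    rw [hK, Subgroup.mem_comap]
    have h1 : (QuotientGroup.mk' Q) x = 1 := (QuotientGroup.eq_one_iff x).2 hx
    rw [h1]; exact Subgroup.one_mem _
  obtain ⟨m, hm⟩ : ∃ m, m = Nat.card (pPrimeCore p (H ⧸ Q)) := ⟨_, rfl⟩
  have hmp : m.Coprime p := hm ▸ Cfsg.Agent.Helper23.pPrimeCore_coprime p
  have hKm : ∀ x ∈ K, x ^ m ∈ Q := by
    intro x hx
    rw [hK, Subgroup.mem_comap] at hx
    have h1 : (⟨_, hx⟩ : pPrimeCore p (H ⧸ Q)) ^ m = 1 := by rw [hm]; exact pow_card_eq_one'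
    have h2 := congrArg (fun z : ↥(pPrimeCore p (H ⧸ Q)) => (z : H ⧸ Q)) h1
    simp only [Subgroup.coe_pow, Subgroup.coe_one] at h2
    rw [← map_pow] at h2
    exact (QuotientGroup.eq_one_iff _).1 h2
  have hrel : Q.relIndex K = m := by
    have h1 := Subgroup.relIndex_comap (⊥ : Subgroup (H ⧸ Q)) (QuotientGroup.mk' Q) K
    rw [MonoidHom.comap_bot, QuotientGroup.ker_mk', Subgroup.relIndex_bot_left] at h1
    rw [h1, hK, Subgroup.map_comap_eq_self_of_surjective (QuotientGroup.mk'_surjective Q), hm]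
  obtain ⟨jQ, hjQ⟩ := IsPGroup.iff_card.mp hQp
  obtain ⟨R, hRK, hRQ, hRdec, hRcard⟩ := exists_complement_amb Q K hQK (by
    rw [hrel, hjQ]; exact Nat.Coprime.pow_left jQ hmp.symm)
  have hRcop : (Nat.card R).Coprime (Nat.card Q) := by
    rw [hRcard, hrel, hjQ]; exact Nat.Coprime.pow_right jQ hmp
  -- the conjugate complement
  obtain ⟨B, hB⟩ : ∃ B, B = R.map (MulAut.conj a).toMonoidHom := ⟨_, rfl⟩
  have hBmem : ∀ x, x ∈ B ↔ a⁻¹ * x * a ∈ R := by
    intro x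
    rw [hB]
    constructor
    · rintro ⟨r, hr, rfl⟩
      simp only [MulEquiv.coe_toMonoidHom, MulAut.conj_apply]
      have h1 : a⁻¹ * (a * r * a⁻¹) * a = r := by group
      rw [h1]; exact hr
    · intro h
      refine ⟨a⁻¹ * x * a, h, ?_⟩
      simp only [MulEquiv.coe_toMonoidHom, MulAut.conj_apply]
      group
  have hsupR : R ⊔ Q = K := by
    apply le_antisymm (sup_le hRK hQK)
    intro x hx
    obtain ⟨r, hr, q, hq, rfl⟩ := hRdec x hx
    exact Subgroup.mul_mem _ (Subgroup.mem_sup_left hr) (Subgroup.mem_sup_right hq)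
  have hsupB : B ⊔ Q = K := by
    apply le_antisymm
    · apply sup_le
      · intro x hx
        have h1 := hRK ((hBmem x).1 hx)
        have h2 := hKn.conj_mem _ h1 a
        have h3 : a * (a⁻¹ * x * a) * a⁻¹ = x := by group
        rwa [h3] at h2
      · exact hQK
    · intro x hx
      have h1 : a⁻¹ * x * a ∈ K := by
        have h2 := hKn.conj_mem x hx a⁻¹
        rwa [inv_inv] at h2
      obtain ⟨r, hr, q, hq, h3⟩ := hRdec _ h1
      have h4 : x = (a * r * a⁻¹) * (a * q * a⁻¹) := by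
        have h5 : x = a * (a⁻¹ * x * a) * a⁻¹ := by group
        rw [h5, h3]; group
      rw [h4]
      refine Subgroup.mul_mem _ (Subgroup.mem_sup_left ?_)
        (Subgroup.mem_sup_right (hQn.conj_mem q hq a))
      rw [hBmem]
      have h6 : a⁻¹ * (a * r * a⁻¹) * a = r := by group
      rw [h6]; exact hr
  have hBcard : Nat.card B = Nat.card R := by
    rw [hB]
    exact Nat.card_congr (R.equivMapOfInjective _ (MulAut.conj a).injective).symm.toEquiv
  haveI : Group.IsNilpotent ↥Q := hQp.isNilpotent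
  obtain ⟨n, hnQ, hconj⟩ := Cfsg.Agent.Lead.conj_complement R Q B
    (fun r _ => by
      rw [Subgroup.mem_normalizer_iff]
      intro h
      constructor
      · intro hh; exact hQn.conj_mem h hh r
      · intro hh
        have h1 := hQn.conj_mem _ hh r⁻¹
        have h2 : r⁻¹ * (r * h * r⁻¹) * r⁻¹⁻¹ = h := by group
        rwa [h2] at h1)
    hRcop (Or.inr inferInstance) (by rw [hsupB, hsupR]) (by rw [hBcard]; exact hRcop)
  obtain ⟨u, hu⟩ : ∃ u, u = n⁻¹ := ⟨_, rfl⟩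
  have huQ : u ∈ Q := hu ▸ Q.inv_mem hnQ
  obtain ⟨n₁, hn₁⟩ : ∃ n₁, n₁ = u * a := ⟨_, rfl⟩
  have hn₁R : ∀ r ∈ R, n₁ * r * n₁⁻¹ ∈ R := by
    intro r hr
    have h1 : a * r * a⁻¹ ∈ B := by
      rw [hBmem]
      have h2 : a⁻¹ * (a * r * a⁻¹) * a = r := by group
      rw [h2]; exact hr
    have h2 := (hconj (a * r * a⁻¹)).1 h1
    have h3 : n₁ * r * n₁⁻¹ = n⁻¹ * (a * r * a⁻¹) * n := by rw [hn₁, hu]; group
    rw [h3]; exact h2
  have hn₁Rpow : ∀ k : ℕ, ∀ r ∈ R, n₁ ^ k * r * (n₁ ^ k)⁻¹ ∈ R := by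
    intro k
    induction k with
    | zero => intro r hr; simpa using hr
    | succ k ih =>
      intro r hr
      have h1 : n₁ ^ (k + 1) * r * (n₁ ^ (k + 1))⁻¹ = n₁ * (n₁ ^ k * r * (n₁ ^ k)⁻¹) * n₁⁻¹ := by
        rw [pow_succ']; group
      rw [h1]; exact hn₁R _ (ih r hr)
  -- a power of `n₁` lying in `Q` and normalizing `R` commutes with `R`
  have hcommR : ∀ k : ℕ, n₁ ^ k ∈ Q → ∀ r ∈ R, Commute (n₁ ^ k) r := by
    intro k hkQ r hr
    have h1 : n₁ ^ k * r * (n₁ ^ k)⁻¹ ∈ R := hn₁Rpow k r hr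
    have h2 : n₁ ^ k * r * (n₁ ^ k)⁻¹ * r⁻¹ ∈ R ⊓ Q := by
      refine Subgroup.mem_inf.mpr ⟨R.mul_mem h1 (R.inv_mem hr), ?_⟩
      have h3 : n₁ ^ k * r * (n₁ ^ k)⁻¹ * r⁻¹ = n₁ ^ k * (r * (n₁ ^ k)⁻¹ * r⁻¹) := by group
      rw [h3]
      exact Q.mul_mem hkQ (hQn.conj_mem _ (Q.inv_mem hkQ) r)
    rw [hRQ, Subgroup.mem_bot] at h2
    show n₁ ^ k * r = r * n₁ ^ k
    have h4 : n₁ ^ k * r = (n₁ ^ k * r * (n₁ ^ k)⁻¹ * r⁻¹) * (r * n₁ ^ k) := by group
    rw [h4, h2, one_mul]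
  -- the `p`-th power of `n₁` modulo `Φ`
  obtain ⟨i₀, hi₀⟩ := hT u huQ
  have hquad := pow_mul_of_quad (π a) (π u) (β ^ i₀)
    (by rw [← map_inv, ← map_mul, ← map_mul, hi₀, map_mul, map_pow, hβ])
    (hαβ.pow_right i₀)
    (by rw [hβ, ← map_pow]; exact hπc u huQ _ (hbiQ u huQ i₀ hi₀)) p
  have hπn₁ : π (n₁ ^ p) = (β ^ i₀) ^ (∑ i ∈ Finset.range p, i) * β := by
    rw [map_pow, hn₁, map_mul, hquad, hπp u huQ, one_mul, ← map_pow, ← hb, hβ]
  have hcase : π (n₁ ^ p) = β ∨ (p = 2 ∧ π (n₁ ^ p) = 1) := by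
    by_cases hp2 : p = 2
    · have hs : ∑ i ∈ Finset.range p, i = 1 := by rw [hp2]; decide
      have hβ2 : β ^ 2 = 1 := by rw [← hp2]; exact hβp
      rw [hs, pow_one] at hπn₁
      rcases Nat.even_or_odd i₀ with ⟨j, hj⟩ | ⟨j, hj⟩
      · left
        rw [hπn₁, hj, ← two_mul, pow_mul, hβ2, one_pow, one_mul]
      · right
        refine ⟨hp2, ?_⟩
        rw [hπn₁, hj, pow_succ, pow_mul, hβ2, one_pow, one_mul, ← pow_two, hβ2]
    · left
      have hodd : p ∣ ∑ i ∈ Finset.range p, i := by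
        have h1 := Finset.sum_range_id_mul_two p
        have h2 : p ∣ (∑ i ∈ Finset.range p, i) * 2 := by rw [h1]; exact dvd_mul_right p _
        exact (Nat.Coprime.dvd_mul_right ((Nat.coprime_primes hpp Nat.prime_two).2 hp2)).1 h2
      obtain ⟨t, ht⟩ := hodd
      rw [hπn₁, ht, ← pow_mul, show i₀ * (p * t) = p * (i₀ * t) by ring, pow_mul, hβp, one_pow,
        one_mul]
  rcases hcase with hc1 | ⟨hp2, hc2⟩
  · -- Case 1: `n₁ ^ p ≡ b` modulo `Φ`
    have hb'Q : n₁ ^ p ∈ Q := by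
      have h1 : π (b⁻¹ * n₁ ^ p) = 1 := by rw [map_mul, map_inv, hc1, hβ, inv_mul_cancel]
      have h2 := hΦQ ((hπker _).1 h1)
      have h3 := Q.mul_mem hbQ h2
      rwa [mul_inv_cancel_left] at h3
    have hβR : ∀ r ∈ R, Commute (π r) β := by
      intro r hr
      rw [← hc1]
      exact ((hcommR p hb'Q r hr).map π).symm
    have hβQ : ∀ q ∈ Q, Commute (π q) β := fun q hq => hβ ▸ hπc q hq b hbQ
    have hβK : ∀ x ∈ K, Commute (π x) β := by
      intro x hx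
      obtain ⟨r, hr, q, hq, rfl⟩ := hRdec x hx
      rw [map_mul]
      exact (hβR r hr).mul_left (hβQ q hq)
    obtain ⟨T, hT'⟩ : ∃ T : Subgroup H, ∀ g, g ∈ T ↔ (Commute (π g) β ∧
        ∀ q ∈ Q, π (q⁻¹ * (g * q * g⁻¹)) ∈ Subgroup.zpowers β) := by
      refine ⟨{ carrier := {g | Commute (π g) β ∧
                  ∀ q ∈ Q, π (q⁻¹ * (g * q * g⁻¹)) ∈ Subgroup.zpowers β}
                mul_mem' := ?_
                one_mem' := ?_
                inv_mem' := ?_ }, fun _ => Iff.rfl⟩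
      · rintro g₁ g₂ ⟨h1c, h1⟩ ⟨h2c, h2⟩
        refine ⟨by rw [map_mul]; exact h1c.mul_left h2c, ?_⟩
        intro q hq
        have e1 : q⁻¹ * (g₁ * g₂ * q * (g₁ * g₂)⁻¹) =
            (q⁻¹ * (g₁ * q * g₁⁻¹)) * (g₁ * (q⁻¹ * (g₂ * q * g₂⁻¹)) * g₁⁻¹) := by group
        rw [e1, map_mul]
        apply Subgroup.mul_mem _ (h1 q hq)
        obtain ⟨j, hj⟩ := Subgroup.mem_zpowers_iff.mp (h2 q hq)
        rw [map_mul, map_mul, map_inv, ← hj, (h1c.zpow_right j).eq, mul_inv_cancel_right]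
        exact Subgroup.zpow_mem_zpowers β j
      · refine ⟨by rw [map_one]; exact Commute.one_left β, ?_⟩
        intro q hq
        have e1 : q⁻¹ * (1 * q * (1 : H)⁻¹) = 1 := by group
        rw [e1, map_one]; exact Subgroup.one_mem _
      · rintro g ⟨hc, h⟩
        refine ⟨by rw [map_inv]; exact hc.inv_left, ?_⟩
        intro q hq
        have hq' : g⁻¹ * q * g ∈ Q := by
          have h1 := hQn.conj_mem q hq g⁻¹
          rwa [inv_inv] at h1
        have e1 : q⁻¹ * (g⁻¹ * q * g⁻¹⁻¹) =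
            ((g⁻¹ * q * g)⁻¹ * (g * (g⁻¹ * q * g) * g⁻¹))⁻¹ := by group
        rw [e1, map_inv]
        exact Subgroup.inv_mem _ (h _ hq')
    have haT : a ∈ T := by
      rw [hT']
      refine ⟨hαβ, ?_⟩
      intro q hq
      obtain ⟨i, hi⟩ := hT q hq
      rw [hi, inv_mul_cancel_left, map_pow, ← hβ]
      exact Subgroup.npow_mem_zpowers β i
    have hTK : ∀ x ∈ K, ∀ g ∈ T, x * g * x⁻¹ ∈ T := by
      intro x hx g hg
      rw [hT'] at hg ⊢
      obtain ⟨hgc, hg2⟩ := hg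
      have hxβ := hβK x hx
      refine ⟨by rw [map_mul, map_mul, map_inv]; exact (hxβ.mul_left hgc).mul_left hxβ.inv_left,
        ?_⟩
      intro q hq
      have hq' : x⁻¹ * q * x ∈ Q := by
        have h1 := hQn.conj_mem q hq x⁻¹
        rwa [inv_inv] at h1
      have e1 : q⁻¹ * (x * g * x⁻¹ * q * (x * g * x⁻¹)⁻¹) =
          x * ((x⁻¹ * q * x)⁻¹ * (g * (x⁻¹ * q * x) * g⁻¹)) * x⁻¹ := by group
      rw [e1]
      obtain ⟨j, hj⟩ := Subgroup.mem_zpowers_iff.mp (hg2 _ hq')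
      rw [map_mul, map_mul, map_inv, ← hj, (hxβ.zpow_right j).eq, mul_inv_cancel_right]
      exact Subgroup.zpow_mem_zpowers β j
    have hcomQ : ∀ x ∈ K, a * x * a⁻¹ * x⁻¹ ∈ Q := by
      intro x hx
      obtain ⟨c, hc⟩ : ∃ c, c = a * x * a⁻¹ * x⁻¹ := ⟨_, rfl⟩
      rw [← hc]
      have hcK : c ∈ K := by
        rw [hc]
        exact K.mul_mem (hKn.conj_mem x hx a) (K.inv_mem hx)
      have hcT : c ∈ T := by
        have h1 : c = a * (x * a⁻¹ * x⁻¹) := by rw [hc]; group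
        rw [h1]
        exact T.mul_mem haT (hTK x hx _ (T.inv_mem haT))
      obtain ⟨hcβ, hc2⟩ := (hT' c).1 hcT
      apply hfaith
      intro q hq
      obtain ⟨j, hj⟩ := Subgroup.mem_zpowers_iff.mp (hc2 q hq)
      have hw : (π q)⁻¹ * (π c * π q * (π c)⁻¹) = β ^ j := by
        rw [hj, map_mul, map_mul, map_mul, map_inv, map_inv]
      have h1 : π c * π q * (π c)⁻¹ = π q := by
        refine fix_of_comm_coprime' (π c) (π q) m p hmp ?_ ?_ ?_
        · rw [← map_pow]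
          have h2 := hπc _ (hKm c hcK) q hq
          rw [h2.eq, mul_inv_cancel_right]
        · rw [hw, ← zpow_natCast, ← zpow_mul, mul_comm, zpow_mul, zpow_natCast, hβp, one_zpow]
        · rw [hw]; exact (hcβ.zpow_right j).eq
      rw [← hπker, map_mul, map_mul, map_mul, map_inv, map_inv, h1, mul_inv_cancel]
    exact haQ (hS12 a ⟨e, he⟩ hcomQ)
  · -- Case 2: `p = 2` and `n₁ ^ 2 ∈ Φ`
    apply hno4 hp2
    have hβ2 : β ^ 2 = 1 := by rw [← hp2]; exact hβp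
    have hπ2 : ∀ x ∈ Q, (π x) ^ 2 = 1 := by rw [← hp2]; exact hπp
    have hn₁2Q : n₁ ^ p ∈ Q := hΦQ ((hπker _).1 hc2)
    have hn₁2R : ∀ r ∈ R, Commute (n₁ ^ p) r := hcommR p hn₁2Q
    obtain ⟨r, hr, hrn⟩ : ∃ r ∈ R, n₁ * r * n₁⁻¹ ≠ r := by
      by_contra hall
      push Not at hall
      apply haQ
      apply hS12 a ⟨e, he⟩
      intro x hx
      obtain ⟨r, hr, q, hq, rfl⟩ := hRdec x hx
      have h1 : a = u⁻¹ * n₁ := by rw [hn₁]; group
      have h2 : a * (r * q) * a⁻¹ * (r * q)⁻¹ =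
          u⁻¹ * ((n₁ * r * n₁⁻¹) * ((n₁ * q * n₁⁻¹) * u * q⁻¹) * r⁻¹) := by
        rw [h1]; group
      rw [h2, hall r hr]
      exact Q.mul_mem (Q.inv_mem huQ) (hQn.conj_mem _
        (Q.mul_mem (Q.mul_mem (hQn.conj_mem q hq n₁) huQ) (Q.inv_mem hq)) r)
    obtain ⟨k, hk⟩ : ∃ k, k = r⁻¹ * (n₁ * r * n₁⁻¹) := ⟨_, rfl⟩
    have hkR : k ∈ R := hk ▸ R.mul_mem (R.inv_mem hr) (hn₁R r hr)
    have hk1 : k ≠ 1 := by
      intro h
      rw [hk] at h
      exact hrn (inv_mul_eq_one.mp h).symm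
    have hkinv : n₁ * k * n₁⁻¹ = k⁻¹ := by
      have h1 : n₁ * (r⁻¹ * (n₁ * r * n₁⁻¹)) * n₁⁻¹ =
          (n₁ * r * n₁⁻¹)⁻¹ * ((n₁ * n₁) * r * (n₁ * n₁)⁻¹) := by group
      have h2 : n₁ * n₁ = n₁ ^ p := by rw [hp2, pow_two]
      rw [hk, h1, h2, (hn₁2R r hr).eq, mul_inv_cancel_right]; group
    have hVn : (Q.map π).Normal := Subgroup.Normal.map hQn π hπsurj
    have hVc : ∀ x y : ↥(Q.map π), x * y = y * x := by
      rintro ⟨_, x', hx', rfl⟩ ⟨_, y', hy', rfl⟩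
      exact Subtype.ext (hπc x' hx' y' hy').eq
    have hVe : ∀ v : ↥(Q.map π), v * v = 1 := by
      rintro ⟨_, x', hx', rfl⟩
      apply Subtype.ext
      have h1 := hπ2 x' hx'
      rw [pow_two] at h1
      exact h1
    obtain ⟨t, ht⟩ : ∃ t : MulAut ↥(Q.map π), t = MulAut.conjNormal (π n₁) := ⟨_, rfl⟩
    obtain ⟨s, hs⟩ : ∃ s : MulAut ↥(Q.map π), s = MulAut.conjNormal (π k) := ⟨_, rfl⟩
    have htv : ∀ v : ↥(Q.map π), ((t v : ↥(Q.map π)) : H ⧸ Φ) = π n₁ * v * (π n₁)⁻¹ := by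
      intro v; rw [ht]; exact MulAut.conjNormal_apply _ _
    have hsv : ∀ v : ↥(Q.map π), ((s v : ↥(Q.map π)) : H ⧸ Φ) = π k * v * (π k)⁻¹ := by
      intro v; rw [hs]; exact MulAut.conjNormal_apply _ _
    have hzmem : β ∈ Q.map π := hβ ▸ Subgroup.mem_map_of_mem π hbQ
    have htz : ∀ v : ↥(Q.map π), t v = v ∨ t v = v * ⟨β, hzmem⟩ := by
      rintro ⟨_, q, hq, rfl⟩
      obtain ⟨i, hi⟩ := hT q hq
      have h1 : π n₁ * π q * (π n₁)⁻¹ = π q * β ^ i := by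
        have h2 : n₁ * q * n₁⁻¹ = u * (a * q * a⁻¹) * u⁻¹ := by rw [hn₁]; group
        have hqb : q * b ^ i ∈ Q := Q.mul_mem hq (hbiQ q hq i hi)
        rw [← map_inv, ← map_mul, ← map_mul, h2, hi, map_mul, map_mul, map_inv,
          (hπc u huQ _ hqb).eq, mul_inv_cancel_right, map_mul, map_pow, hβ]
      rcases Nat.even_or_odd i with ⟨j, hj⟩ | ⟨j, hj⟩
      · left
        apply Subtype.ext
        rw [htv]
        show π n₁ * π q * (π n₁)⁻¹ = π q
        rw [h1, hj, ← two_mul, pow_mul, hβ2, one_pow, mul_one]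
      · right
        apply Subtype.ext
        rw [htv]
        show π n₁ * π q * (π n₁)⁻¹ = π q * β
        rw [h1, hj, pow_succ, pow_mul, hβ2, one_pow, one_mul]
    have hτk : π n₁ * π k * (π n₁)⁻¹ = (π k)⁻¹ := by
      rw [← map_inv, ← map_mul, ← map_mul, hkinv, map_inv]
    have hts : t * s * t⁻¹ = s⁻¹ := by
      rw [ht, hs]
      have h1 : MulAut.conjNormal (H := Q.map π) (π n₁) * MulAut.conjNormal (H := Q.map π) (π k) *
          (MulAut.conjNormal (H := Q.map π) (π n₁))⁻¹ =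
          MulAut.conjNormal (H := Q.map π) (π n₁ * π k * (π n₁)⁻¹) := by
        rw [map_mul, map_mul, map_inv]
      rw [h1, hτk, map_inv]
    have hs1 : s ≠ 1 := by
      intro h
      apply hk1
      have hkQ : k ∈ Q := by
        apply hfaith
        intro q hq
        have h1 := hsv ⟨π q, Subgroup.mem_map_of_mem π hq⟩
        rw [h] at h1
        have h2 : π k * π q * (π k)⁻¹ = π q := h1.symm
        rw [← hπker, map_mul, map_mul, map_mul, map_inv, map_inv, h2, mul_inv_cancel]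
      have h3 : k ∈ R ⊓ Q := Subgroup.mem_inf.mpr ⟨hkR, hkQ⟩
      rw [hRQ] at h3
      exact Subgroup.mem_bot.mp h3
    have hodd : Odd (orderOf k) := by
      rw [← Nat.not_even_iff_odd]
      intro he2
      have h1 : orderOf k ∣ Nat.card R := Subgroup.orderOf_dvd_natCard R hkR
      have h2 : 2 ∣ Nat.card R := dvd_trans (even_iff_two_dvd.mp he2) h1
      rw [hRcard, hrel] at h2
      have h3 := Nat.Coprime.eq_one_of_dvd (hp2 ▸ hmp.symm) h2
      omega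
    have hsn : s ^ orderOf k = 1 := by
      rw [hs, ← map_pow, ← map_pow, pow_orderOf_eq_one, map_one, map_one]
    have h4 := Cfsg.Agent.Helper23.involves_s4_of_aut (Q.map π) hVc hVe (π k) (π n₁) t s hsv htv
      ⟨β, hzmem⟩ htz hts hτk hs1 (orderOf k) hodd hsn
    exact involves_of_quot Φ h4

end Cfsg.Agent.Helper19.HH
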