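import Mathlib
import Cfsg.Agent.Helper19.HH3
import Cfsg.Agent.Lead.PChain
import Cfsg.Agent.S0023

/-!
helper19: the abelian case of Hall–Higman's Theorem B (norm averaging), and the bound
`p`-length `≤ n` for `p`-soluble groups with abelian Sylow `q`-subgroups (`q ≠ p`) and Sylow
`p`-subgroups of exponent dividing `p ^ n`.
-/

set_option autoImplicit false

namespace Cfsg.Agent.Helper19.HH

open Cfsg

/-- For `A` abelian and `g` normalizing `A`, the map `b ↦ g⁻¹ b g b⁻¹` is multiplicative. -/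
theorem e_mul {Γ : Type*} [Group Γ] (A : Subgroup Γ) (hAc : ∀ a ∈ A, ∀ b ∈ A, a * b = b * a)
    (g : Γ) (hg : ∀ a ∈ A, g⁻¹ * a * g ∈ A) (b c : Γ) (hb : b ∈ A) (hc : c ∈ A) :
    g⁻¹ * (b * c) * g * (b * c)⁻¹ = (g⁻¹ * b * g * b⁻¹) * (g⁻¹ * c * g * c⁻¹) := by
  have h1 : g⁻¹ * c * g * c⁻¹ ∈ A := A.mul_mem (hg c hc) (A.inv_mem hc)
  have h2 : (g⁻¹ * c * g * c⁻¹) * b⁻¹ = b⁻¹ * (g⁻¹ * c * g * c⁻¹) := hAc _ h1 _ (A.inv_mem hb)
  calc g⁻¹ * (b * c) * g * (b * c)⁻¹ = (g⁻¹ * b * g) * ((g⁻¹ * c * g * c⁻¹) * b⁻¹) := by group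
    _ = (g⁻¹ * b * g) * (b⁻¹ * (g⁻¹ * c * g * c⁻¹)) := by rw [h2]
    _ = (g⁻¹ * b * g * b⁻¹) * (g⁻¹ * c * g * c⁻¹) := by group

/-- Commutators with a power of `g` are commutators with `g` (in an abelian normalized `A`). -/
theorem e_pow {Γ : Type*} [Group Γ] (A : Subgroup Γ) (hAc : ∀ a ∈ A, ∀ b ∈ A, a * b = b * a)
    (g : Γ) (hg : ∀ a ∈ A, g⁻¹ * a * g ∈ A) :
    ∀ t : ℕ, ∀ b ∈ A, ∃ b' ∈ A, (g ^ t)⁻¹ * b * g ^ t * b⁻¹ = g⁻¹ * b' * g * b'⁻¹ := by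
  intro t
  induction t with
  | zero => intro b hb; exact ⟨1, A.one_mem, by simp⟩
  | succ t ih =>
    intro b hb
    obtain ⟨b', hb', h⟩ := ih b hb
    refine ⟨(g⁻¹ * b' * g) * b, A.mul_mem (hg b' hb') hb, ?_⟩
    rw [e_mul A hAc g hg _ _ (hg b' hb') hb]
    have h1 : (g ^ (t + 1))⁻¹ * b * g ^ (t + 1) * b⁻¹ =
        g⁻¹ * ((g ^ t)⁻¹ * b * g ^ t * b⁻¹) * g * (g⁻¹ * b * g * b⁻¹) := by
      rw [pow_succ]; group
    rw [h1, h]; group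

theorem conj_pow_inv_mem {Γ : Type*} [Group Γ] (A : Subgroup Γ) (x : Γ)
    (hxA : ∀ a ∈ A, x⁻¹ * a * x ∈ A) : ∀ i : ℕ, ∀ a ∈ A, (x ^ i)⁻¹ * a * x ^ i ∈ A := by
  intro i
  induction i with
  | zero => intro a ha; simpa using ha
  | succ i ih =>
    intro a ha
    have h1 : (x ^ (i + 1))⁻¹ * a * x ^ (i + 1) = x⁻¹ * ((x ^ i)⁻¹ * a * x ^ i) * x := by
      rw [pow_succ]; group
    rw [h1]; exact hxA _ (ih a ha)

/-- **Norm averaging.** If all the "norms" along the conjugates `b x b⁻¹` (`b ∈ A`, `A` abelian,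
normalized by `x`) kill `v₁ = w₀⁻¹ · d₀ w₀`, where `d₀` is a commutator with every `x ^ i`,
`0 < i < N`, then `v₁ ^ |A| = 1`. -/
theorem norm_average {Γ M : Type*} [Group Γ] [CommGroup M] (φ : Γ →* MulAut M) (A : Subgroup Γ)
    [Finite A] (hAc : ∀ a ∈ A, ∀ b ∈ A, a * b = b * a) (x : Γ)
    (hxA : ∀ a ∈ A, x⁻¹ * a * x ∈ A) (N : ℕ) (hN : 1 ≤ N) (d₀ : Γ)
    (hd₀ : ∀ i, 1 ≤ i → i < N → ∃ b₀ ∈ A, d₀ = (x ^ i)⁻¹ * b₀ * x ^ i * b₀⁻¹)
    (w₀ : M)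
    (hnorm : ∀ b ∈ A, ∏ i ∈ Finset.range N, φ ((b * x * b⁻¹) ^ i) (w₀⁻¹ * φ d₀ w₀) = 1) :
    (w₀⁻¹ * φ d₀ w₀) ^ Nat.card A = 1 := by
  classical
  haveI := Fintype.ofFinite ↥A
  obtain ⟨v₁, hv₁⟩ : ∃ v₁, v₁ = w₀⁻¹ * φ d₀ w₀ := ⟨_, rfl⟩
  rw [← hv₁] at hnorm ⊢
  have hxi := conj_pow_inv_mem A x hxA
  have h1 : ∏ b : ↥A, ∏ i ∈ Finset.range N, φ (((b : Γ) * x * (b : Γ)⁻¹) ^ i) v₁ = 1 :=
    Finset.prod_eq_one (fun b _ => hnorm b b.2)
  rw [Finset.prod_comm] at h1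
  have h2 : ∀ i ∈ Finset.range N, ∏ b : ↥A, φ (((b : Γ) * x * (b : Γ)⁻¹) ^ i) v₁ =
      if i = 0 then v₁ ^ Nat.card A else 1 := by
    intro i hi
    by_cases hi0 : i = 0
    · rw [if_pos hi0, hi0]
      simp only [pow_zero, map_one, MulAut.one_apply, Finset.prod_const, Finset.card_univ]
      rw [Nat.card_eq_fintype_card]
    · rw [if_neg hi0]
      obtain ⟨b₀, hb₀, hdb⟩ := hd₀ i (Nat.one_le_iff_ne_zero.mpr hi0) (Finset.mem_range.mp hi)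
      obtain ⟨E, hE⟩ : ∃ E : Γ → Γ, ∀ b, E b = (x ^ i)⁻¹ * b * x ^ i * b⁻¹ :=
        ⟨fun b => (x ^ i)⁻¹ * b * x ^ i * b⁻¹, fun _ => rfl⟩
      have hEmul : ∀ b ∈ A, E (b * b₀) = E b * d₀ := by
        intro b hb
        rw [hE, hE, hdb]
        exact e_mul A hAc (x ^ i) (hxi i) b b₀ hb hb₀
      have h3 : ∀ b : ↥A, φ (((b : Γ) * x * (b : Γ)⁻¹) ^ i) v₁ =
          φ (x ^ i) ((φ (E b) w₀)⁻¹ * φ (E ((b : Γ) * b₀)) w₀) := by
        intro b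
        have h4 : ((b : Γ) * x * (b : Γ)⁻¹) ^ i = x ^ i * E b := by rw [conj_pow, hE]; group
        have e1 : φ (x ^ i * E b) v₁ = φ (x ^ i) (φ (E b) v₁) := by rw [map_mul]; rfl
        have e2 : φ (E b) v₁ = (φ (E b) w₀)⁻¹ * φ (E b) (φ d₀ w₀) := by
          rw [hv₁, map_mul, map_inv]
        have e3 : φ (E b) (φ d₀ w₀) = φ (E ((b : Γ) * b₀)) w₀ := by
          rw [hEmul b b.2, map_mul]; rfl
        rw [h4, e1, e2, e3]
      have hre : ∏ b : ↥A, φ (E ((b : Γ) * b₀)) w₀ = ∏ b : ↥A, φ (E (b : Γ)) w₀ :=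
        Fintype.prod_equiv (Equiv.mulRight (⟨b₀, hb₀⟩ : ↥A)) _ _ (fun b => rfl)
      rw [Finset.prod_congr rfl (fun b _ => h3 b), ← map_prod, Finset.prod_mul_distrib,
        Finset.prod_inv_distrib, hre, inv_mul_cancel, map_one]
  rw [Finset.prod_congr rfl h2, Finset.prod_ite_eq' (Finset.range N) 0 (fun _ => v₁ ^ Nat.card A),
    if_pos (Finset.mem_range.mpr hN)] at h1
  exact h1

/-- **Hall–Higman Theorem B, abelian case.** Let `Q` be a normal `p`-subgroup with `H/Q` acting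
faithfully on `Q/Φ(Q)`, `A` an abelian `p'`-subgroup normalized by `x` with `x ^ (p ^ m) = 1` and
`x ^ (p ^ (m-1))` not centralizing `A`. Then some element `v · (b x b⁻¹)` with `v ∈ Q`, `b ∈ A`
has a nontrivial `p ^ m`-th power. -/
theorem hhb_abelian {H : Type*} [Group H] [Finite H] {p : ℕ} [Fact p.Prime] (Q : Subgroup H)
    [hQn : Q.Normal] (hQp : IsPGroup p Q)
    (hfaith : ∀ g : H, (∀ x ∈ Q, g * x * g⁻¹ * x⁻¹ ∈ (frattini ↥Q).map Q.subtype) → g ∈ Q)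
    (A : Subgroup H) (hAc : ∀ a ∈ A, ∀ b ∈ A, a * b = b * a) (hAcop : (Nat.card A).Coprime p)
    (x : H) (hxA : x ∈ Subgroup.normalizer (A : Set H)) (m : ℕ) (hm : 1 ≤ m)
    (hxm : x ^ p ^ m = 1) (a₀ : H) (ha₀ : a₀ ∈ A)
    (hy : x ^ p ^ (m - 1) * a₀ * (x ^ p ^ (m - 1))⁻¹ ≠ a₀) :
    ∃ v ∈ Q, ∃ b ∈ A, (v * (b * x * b⁻¹)) ^ p ^ m ≠ 1 := by
  classical
  have hpp := (Fact.out : p.Prime)
  by_contra hall
  push Not at hall
  obtain ⟨y, hyd⟩ : ∃ y, y = x ^ p ^ (m - 1) := ⟨_, rfl⟩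
  rw [← hyd] at hy
  have hyp : y ^ p = 1 := by
    rw [hyd, ← pow_mul, ← pow_succ]
    have h1 : m - 1 + 1 = m := by omega
    rw [h1]; exact hxm
  have hy1 : y ≠ 1 := by
    intro h
    rw [h] at hy
    apply hy
    group
  have hyord : orderOf y = p := orderOf_eq_prime hyp hy1
  have hxinv : ∀ a ∈ A, x⁻¹ * a * x ∈ A := by
    intro a ha
    have h1 := (Subgroup.mem_normalizer_iff.mp (Subgroup.inv_mem _ hxA) a).mp ha
    rwa [inv_inv] at h1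
  have hxi := conj_pow_inv_mem A x hxinv
  obtain ⟨d₀, hd₀⟩ : ∃ d₀, d₀ = y⁻¹ * a₀ * y * a₀⁻¹ := ⟨_, rfl⟩
  have hyA : ∀ a ∈ A, y⁻¹ * a * y ∈ A := by
    intro a ha; rw [hyd]; exact hxi _ a ha
  have hd₀A : d₀ ∈ A := hd₀ ▸ A.mul_mem (hyA a₀ ha₀) (A.inv_mem ha₀)
  have hd₀1 : d₀ ≠ 1 := by
    intro h
    apply hy
    rw [hd₀] at h
    have h1 : y⁻¹ * a₀ * y = a₀ := mul_inv_eq_one.mp h
    calc y * a₀ * y⁻¹ = y * (y⁻¹ * a₀ * y) * y⁻¹ := by rw [h1]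
      _ = a₀ := by group
  obtain ⟨jQ, hjQ⟩ := IsPGroup.iff_card.mp hQp
  have hd₀Q : d₀ ∉ Q := by
    intro h
    apply hd₀1
    have h1 : orderOf d₀ ∣ Nat.card A := Subgroup.orderOf_dvd_natCard A hd₀A
    have h2 : orderOf d₀ ∣ Nat.card Q := Subgroup.orderOf_dvd_natCard Q h
    rw [hjQ] at h2
    have h3 : orderOf d₀ = 1 := Nat.eq_one_of_dvd_coprimes (Nat.Coprime.pow_right jQ hAcop) h1 h2
    exact orderOf_eq_one_iff.mp h3
  have hdi : ∀ i, 1 ≤ i → i < p ^ m → ∃ b₀ ∈ A, d₀ = (x ^ i)⁻¹ * b₀ * x ^ i * b₀⁻¹ := by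
    intro i hi1 hilt
    obtain ⟨j, i', hi', hi⟩ := Nat.exists_eq_pow_mul_and_not_dvd (n := i) (by omega) p hpp.ne_one
    have hjm : j < m := by
      have h1 : p ^ j ≤ i := by
        rw [hi]
        exact Nat.le_mul_of_pos_right _ (Nat.pos_of_ne_zero (fun h => hi' (h ▸ dvd_zero p)))
      exact (Nat.pow_lt_pow_iff_right hpp.one_lt).mp (lt_of_le_of_lt h1 hilt)
    have h2 : (x ^ i) ^ p ^ (m - 1 - j) = y ^ i' := by
      rw [hyd, ← pow_mul, ← pow_mul, hi]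
      congr 1
      have h3 : p ^ (m - 1) = p ^ j * p ^ (m - 1 - j) := by
        rw [← pow_add]; congr 1; omega
      rw [h3]; ring
    have h3 : y ∈ Subgroup.zpowers (x ^ i) := by
      have h4 : y ^ i' ∈ Subgroup.zpowers (x ^ i) := by
        rw [← h2]; exact Subgroup.npow_mem_zpowers _ _
      exact mem_of_pow_mem_of_coprime h4
        (by rw [hyord]; exact (Nat.Prime.coprime_iff_not_dvd hpp).2 hi')
    rw [← mem_powers_iff_mem_zpowers] at h3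
    obtain ⟨t, ht⟩ := (Submonoid.mem_powers_iff _ _).mp h3
    obtain ⟨b', hb', h5⟩ := e_pow A hAc (x ^ i) (hxi i) t a₀ ha₀
    exact ⟨b', hb', by rw [hd₀, ← ht]; exact h5⟩
  obtain ⟨q₀, hq₀, hq₀Φ⟩ : ∃ q₀ ∈ Q, d₀ * q₀ * d₀⁻¹ * q₀⁻¹ ∉ (frattini ↥Q).map Q.subtype := by
    by_contra hcon
    push Not at hcon
    exact hd₀Q (hfaith d₀ hcon)
  -- the action on the abelianization of `Q`
  have hofs : Function.Surjective (Abelianization.of : ↥Q → Abelianization ↥Q) :=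
    QuotientGroup.mk_surjective
  obtain ⟨φ, hφ⟩ : ∃ φ : H →* MulAut (Abelianization ↥Q), ∀ (g : H) (q : ↥Q),
      φ g (Abelianization.of q) = Abelianization.of (MulAut.conjNormal g q) := by
    refine ⟨{ toFun := fun g => (MulAut.conjNormal g : ↥Q ≃* ↥Q).abelianizationCongr
              map_one' := ?_
              map_mul' := ?_ }, fun g q => ?_⟩
    · apply MulEquiv.ext
      intro w
      obtain ⟨q, rfl⟩ := hofs w
      rw [abelianizationCongr_of, map_one]; rfl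
    · intro g h
      apply MulEquiv.ext
      intro w
      obtain ⟨q, rfl⟩ := hofs w
      rw [abelianizationCongr_of, map_mul]
      show _ = (MulAut.conjNormal g : ↥Q ≃* ↥Q).abelianizationCongr
        ((MulAut.conjNormal h : ↥Q ≃* ↥Q).abelianizationCongr (Abelianization.of q))
      rw [abelianizationCongr_of, abelianizationCongr_of]; rfl
    · exact abelianizationCongr_of _ _
  -- expansion of powers
  have hP : ∀ (v ξ : H) (hv : v ∈ Q), ∀ k : ℕ, ∃ P : ↥Q, (v * ξ) ^ k = (P : H) * ξ ^ k ∧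
      Abelianization.of P = ∏ i ∈ Finset.range k, φ (ξ ^ i) (Abelianization.of ⟨v, hv⟩) := by
    intro v ξ hv k
    induction k with
    | zero => exact ⟨1, by simp, by simp⟩
    | succ k ih =>
      obtain ⟨P, h1, h2⟩ := ih
      refine ⟨P * MulAut.conjNormal (ξ ^ k) ⟨v, hv⟩, ?_, ?_⟩
      · have e : ((MulAut.conjNormal (ξ ^ k) (⟨v, hv⟩ : ↥Q) : ↥Q) : H) = ξ ^ k * v * (ξ ^ k)⁻¹ :=
          MulAut.conjNormal_apply _ _
        rw [pow_succ, h1, Subgroup.coe_mul, e, pow_succ]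
        group
      · rw [map_mul, h2, Finset.prod_range_succ, hφ]
  obtain ⟨w₀, hw₀⟩ : ∃ w₀ : Abelianization ↥Q, w₀ = Abelianization.of ⟨q₀, hq₀⟩ := ⟨_, rfl⟩
  have hq₁Q : q₀⁻¹ * (d₀ * q₀ * d₀⁻¹) ∈ Q :=
    Q.mul_mem (Q.inv_mem hq₀) (hQn.conj_mem q₀ hq₀ d₀)
  have hv₁ : w₀⁻¹ * φ d₀ w₀ = Abelianization.of ⟨q₀⁻¹ * (d₀ * q₀ * d₀⁻¹), hq₁Q⟩ := by
    rw [hw₀, hφ, ← map_inv, ← map_mul]
    congr 1
  have hnorm : ∀ b ∈ A, ∏ i ∈ Finset.range (p ^ m),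
      φ ((b * x * b⁻¹) ^ i) (w₀⁻¹ * φ d₀ w₀) = 1 := by
    intro b hb
    rw [hv₁]
    obtain ⟨P, h1, h2⟩ := hP (q₀⁻¹ * (d₀ * q₀ * d₀⁻¹)) (b * x * b⁻¹) hq₁Q (p ^ m)
    rw [← h2]
    have h3 : (b * x * b⁻¹) ^ p ^ m = 1 := by rw [conj_pow, hxm]; group
    rw [hall _ hq₁Q b hb, h3, mul_one] at h1
    have h4 : P = 1 := Subtype.ext h1.symm
    rw [h4, map_one]
  have hkey := norm_average φ A hAc x hxinv (p ^ m) (Nat.one_le_pow _ _ hpp.pos) d₀ hdi w₀ hnorm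
  have hv1 : w₀⁻¹ * φ d₀ w₀ = 1 := by
    have h1 : (w₀⁻¹ * φ d₀ w₀) ^ p ^ jQ = 1 := by
      rw [hv₁, ← map_pow]
      have h2 : (⟨q₀⁻¹ * (d₀ * q₀ * d₀⁻¹), hq₁Q⟩ : ↥Q) ^ p ^ jQ = 1 := by
        rw [← hjQ]; exact pow_card_eq_one'
      rw [h2, map_one]
    have hd : orderOf (w₀⁻¹ * φ d₀ w₀) ∣ Nat.gcd (Nat.card A) (p ^ jQ) :=
      Nat.dvd_gcd (orderOf_dvd_of_pow_eq_one hkey) (orderOf_dvd_of_pow_eq_one h1)
    have hg : Nat.gcd (Nat.card A) (p ^ jQ) = 1 := Nat.Coprime.pow_right jQ hAcop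
    rw [hg, Nat.dvd_one] at hd
    exact orderOf_eq_one_iff.mp hd
  apply hq₀Φ
  rw [hv₁] at hv1
  have h1 : (⟨q₀⁻¹ * (d₀ * q₀ * d₀⁻¹), hq₁Q⟩ : ↥Q) ∈ commutator ↥Q :=
    (QuotientGroup.eq_one_iff (N := commutator ↥Q) (⟨q₀⁻¹ * (d₀ * q₀ * d₀⁻¹), hq₁Q⟩ : ↥Q)).1 hv1
  have h2 : commutator ↥Q ≤ frattini ↥Q := by
    rw [commutator_def, Subgroup.commutator_le]
    intro a _ b _
    exact Cfsg.Agent.Helper23.QP.commutator_mem_frattini hQp a b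
  have h3 : q₀⁻¹ * (d₀ * q₀ * d₀⁻¹) ∈ (frattini ↥Q).map Q.subtype := ⟨_, h2 h1, rfl⟩
  have hΦn : ((frattini ↥Q).map Q.subtype).Normal := inferInstance
  have h4 := hΦn.conj_mem _ h3 q₀
  have h5 : q₀ * (q₀⁻¹ * (d₀ * q₀ * d₀⁻¹)) * q₀⁻¹ = d₀ * q₀ * d₀⁻¹ * q₀⁻¹ := by group
  rwa [h5] at h4

/-- An element with a `p`-power lying in the `p`-group `Q` is a `p`-element. -/
theorem isP_of_pow_mem {H : Type*} [Group H] [Finite H] {p : ℕ} [Fact p.Prime] (Q : Subgroup H)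
    (hQp : IsPGroup p Q) (g : H) (N : ℕ) (h : g ^ p ^ N ∈ Q) : ∃ k : ℕ, orderOf g = p ^ k := by
  have hpp := (Fact.out : p.Prime)
  obtain ⟨j, hj⟩ := IsPGroup.iff_card.mp hQp
  have h2 : (g ^ p ^ N) ^ p ^ j = 1 := by
    have h3 : (⟨_, h⟩ : ↥Q) ^ p ^ j = 1 := by rw [← hj]; exact pow_card_eq_one'
    have h4 := congrArg (fun z : ↥Q => (z : H)) h3
    simp only [Subgroup.coe_pow, Subgroup.coe_one] at h4
    exact h4
  rw [← pow_mul, ← pow_add] at h2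
  obtain ⟨k, -, hk⟩ := (Nat.dvd_prime_pow hpp).mp (orderOf_dvd_of_pow_eq_one h2)
  exact ⟨k, hk⟩

/-- Schur–Zassenhaus with an operator: a complement `R` to `Q` in `O_{p,p'}` and an element
`u ∈ Q` such that `u * x` normalizes `R`. -/
theorem exists_invariant_complement {H : Type*} [Group H] [Finite H] {p : ℕ} [Fact p.Prime]
    (Q : Subgroup H) [hQn : Q.Normal] (hQp : IsPGroup p Q) (x : H) :
    ∃ R : Subgroup H, R ≤ (pPrimeCore p (H ⧸ Q)).comap (QuotientGroup.mk' Q) ∧ R ⊓ Q = ⊥ ∧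
      (∀ k ∈ (pPrimeCore p (H ⧸ Q)).comap (QuotientGroup.mk' Q), ∃ r ∈ R, ∃ q ∈ Q, k = r * q) ∧
      (Nat.card R).Coprime p ∧ ∃ u ∈ Q, ∀ r ∈ R, (u * x) * r * (u * x)⁻¹ ∈ R := by
  classical
  have hpp := (Fact.out : p.Prime)
  obtain ⟨K, hK⟩ : ∃ K, K = (pPrimeCore p (H ⧸ Q)).comap (QuotientGroup.mk' Q) := ⟨_, rfl⟩
  rw [← hK]
  have hKn : K.Normal := by
    rw [hK]
    exact Subgroup.Normal.comap (Cfsg.Agent.Helper23.pPrimeCore_normal_fin (G := H ⧸ Q) p) _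
  have hQK : Q ≤ K := by
    intro z hz
    rw [hK, Subgroup.mem_comap]
    have h1 : (QuotientGroup.mk' Q) z = 1 := (QuotientGroup.eq_one_iff z).2 hz
    rw [h1]; exact Subgroup.one_mem _
  obtain ⟨m, hm⟩ : ∃ m, m = Nat.card (pPrimeCore p (H ⧸ Q)) := ⟨_, rfl⟩
  have hmp : m.Coprime p := hm ▸ Cfsg.Agent.Helper23.pPrimeCore_coprime p
  have hrel : Q.relIndex K = m := by
    have h1 := Subgroup.relIndex_comap (⊥ : Subgroup (H ⧸ Q)) (QuotientGroup.mk' Q) K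
    rw [MonoidHom.comap_bot, QuotientGroup.ker_mk', Subgroup.relIndex_bot_left] at h1
    rw [h1, hK, Subgroup.map_comap_eq_self_of_surjective (QuotientGroup.mk'_surjective Q), hm]
  obtain ⟨jQ, hjQ⟩ := IsPGroup.iff_card.mp hQp
  obtain ⟨R, hRK, hRQ, hRdec, hRcard⟩ := exists_complement_amb Q K hQK (by
    rw [hrel, hjQ]; exact Nat.Coprime.pow_left jQ hmp.symm)
  have hRcop : (Nat.card R).Coprime (Nat.card Q) := by
    rw [hRcard, hrel, hjQ]; exact Nat.Coprime.pow_right jQ hmp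
  obtain ⟨B, hB⟩ : ∃ B, B = R.map (MulAut.conj x).toMonoidHom := ⟨_, rfl⟩
  have hBmem : ∀ z, z ∈ B ↔ x⁻¹ * z * x ∈ R := by
    intro z
    rw [hB]
    constructor
    · rintro ⟨r, hr, rfl⟩
      simp only [MulEquiv.coe_toMonoidHom, MulAut.conj_apply]
      have h1 : x⁻¹ * (x * r * x⁻¹) * x = r := by group
      rw [h1]; exact hr
    · intro h
      refine ⟨x⁻¹ * z * x, h, ?_⟩
      simp only [MulEquiv.coe_toMonoidHom, MulAut.conj_apply]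
      group
  have hsupR : R ⊔ Q = K := by
    apply le_antisymm (sup_le hRK hQK)
    intro z hz
    obtain ⟨r, hr, q, hq, rfl⟩ := hRdec z hz
    exact Subgroup.mul_mem _ (Subgroup.mem_sup_left hr) (Subgroup.mem_sup_right hq)
  have hsupB : B ⊔ Q = K := by
    apply le_antisymm
    · apply sup_le
      · intro z hz
        have h1 := hRK ((hBmem z).1 hz)
        have h2 := hKn.conj_mem _ h1 x
        have h3 : x * (x⁻¹ * z * x) * x⁻¹ = z := by group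
        rwa [h3] at h2
      · exact hQK
    · intro z hz
      have h1 : x⁻¹ * z * x ∈ K := by
        have h2 := hKn.conj_mem z hz x⁻¹
        rwa [inv_inv] at h2
      obtain ⟨r, hr, q, hq, h3⟩ := hRdec _ h1
      have h4 : z = (x * r * x⁻¹) * (x * q * x⁻¹) := by
        have h5 : z = x * (x⁻¹ * z * x) * x⁻¹ := by group
        rw [h5, h3]; group
      rw [h4]
      refine Subgroup.mul_mem _ (Subgroup.mem_sup_left ?_)
        (Subgroup.mem_sup_right (hQn.conj_mem q hq x))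
      rw [hBmem]
      have h6 : x⁻¹ * (x * r * x⁻¹) * x = r := by group
      rw [h6]; exact hr
  have hBcard : Nat.card B = Nat.card R := by
    rw [hB]
    exact Nat.card_congr (R.equivMapOfInjective _ (MulAut.conj x).injective).symm.toEquiv
  haveI : Group.IsNilpotent ↥Q := hQp.isNilpotent
  obtain ⟨n, hnQ, hconj⟩ := Cfsg.Agent.Lead.conj_complement R Q B
    (fun r _ => by
      rw [Subgroup.mem_normalizer_iff]
      intro h
      constructor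
      · intro hh; exact hQn.conj_mem h hh r
      · intro hh
        have h1 := hQn.conj_mem _ hh r⁻¹
        have h2 : r⁻¹ * (r * h * r⁻¹) * r⁻¹⁻¹ = h := by group
        rwa [h2] at h1)
    hRcop (Or.inr inferInstance) (by rw [hsupB, hsupR]) (by rw [hBcard]; exact hRcop)
  refine ⟨R, hRK, hRQ, hRdec, ?_, n⁻¹, Q.inv_mem hnQ, ?_⟩
  · rw [hRcard, hrel]; exact hmp
  · intro r hr
    have h1 : x * r * x⁻¹ ∈ B := by
      rw [hBmem]
      have h2 : x⁻¹ * (x * r * x⁻¹) * x = r := by group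
      rw [h2]; exact hr
    have h2 := (hconj (x * r * x⁻¹)).1 h1
    have h3 : (n⁻¹ * x) * r * (n⁻¹ * x)⁻¹ = n⁻¹ * (x * r * x⁻¹) * n := by group
    rw [h3]; exact h2

/-- **Exponent reduction.** Under the hypotheses of the abelian case of Theorem B, if every
`p`-element has order dividing `p ^ (n + 1)`, then `x ^ (p ^ n) ∈ Q` for every `p`-element `x`. -/
theorem pow_mem_of_exp {H : Type*} [Group H] [Finite H] {p : ℕ} [Fact p.Prime]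
    (Q : Subgroup H) [hQn : Q.Normal] (hQp : IsPGroup p Q)
    (hfaith : ∀ g : H, (∀ x ∈ Q, g * x * g⁻¹ * x⁻¹ ∈ (frattini ↥Q).map Q.subtype) → g ∈ Q)
    (hS12 : ∀ g : H, (∃ e : ℕ, orderOf g = p ^ e) →
      (∀ x ∈ (pPrimeCore p (H ⧸ Q)).comap (QuotientGroup.mk' Q), g * x * g⁻¹ * x⁻¹ ∈ Q) → g ∈ Q)
    (hab : ∀ (q : ℕ) [Fact q.Prime], q ≠ p → ∀ S : Sylow q H,
      ∀ a ∈ (S : Subgroup H), ∀ b ∈ (S : Subgroup H), a * b = b * a)
    (n : ℕ) (hexp : ∀ g : H, (∃ k : ℕ, orderOf g = p ^ k) → g ^ p ^ (n + 1) = 1)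
    (x : H) (hx : ∃ k : ℕ, orderOf x = p ^ k) : x ^ p ^ n ∈ Q := by
  classical
  have hpp := (Fact.out : p.Prime)
  by_contra hyQ
  obtain ⟨R, hRK, hRQ, hRdec, hRcop, u, huQ, hn₁R⟩ := exists_invariant_complement Q hQp x
  obtain ⟨n₁, hn₁⟩ : ∃ n₁, n₁ = u * x := ⟨_, rfl⟩
  rw [← hn₁] at hn₁R
  have hpowQ : ∀ k : ℕ, n₁ ^ k * (x ^ k)⁻¹ ∈ Q := by
    intro k
    rw [hn₁]
    exact pow_mul_mem (fun h hh => hQn.conj_mem h hh x) huQ k
  have hxpn : x ^ p ^ (n + 1) = 1 := hexp x hx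
  have hn₁p : ∃ k : ℕ, orderOf n₁ = p ^ k := by
    have h1 := hpowQ (p ^ (n + 1))
    rw [hxpn, inv_one, mul_one] at h1
    exact isP_of_pow_mem Q hQp n₁ (n + 1) h1
  have hn₁pn : n₁ ^ p ^ (n + 1) = 1 := hexp n₁ hn₁p
  obtain ⟨y₁, hy₁⟩ : ∃ y₁, y₁ = n₁ ^ p ^ n := ⟨_, rfl⟩
  have hy₁Q : y₁ ∉ Q := by
    intro h
    apply hyQ
    have h1 := hpowQ (p ^ n)
    rw [← hy₁] at h1
    have h2 := Q.mul_mem (Q.inv_mem h1) h
    have h3 : (y₁ * (x ^ p ^ n)⁻¹)⁻¹ * y₁ = x ^ p ^ n := by group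
    rwa [h3] at h2
  have hy₁p : ∃ k : ℕ, orderOf y₁ = p ^ k := by
    obtain ⟨k, hk⟩ := hn₁p
    have h1 : y₁ ^ p ^ k = 1 := by
      rw [hy₁, ← pow_mul, mul_comm, pow_mul, ← hk, pow_orderOf_eq_one, one_pow]
    obtain ⟨j, -, hj⟩ := (Nat.dvd_prime_pow hpp).mp (orderOf_dvd_of_pow_eq_one h1)
    exact ⟨j, hj⟩
  have hnc : ¬ R ≤ Subgroup.centralizer ({y₁} : Set H) := by
    intro hcen
    apply hy₁Q
    apply hS12 y₁ hy₁p
    intro k hk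
    obtain ⟨r, hr, q, hq, rfl⟩ := hRdec k hk
    have h1 : y₁ * r = r * y₁ :=
      (Subgroup.mem_centralizer_iff.mp (hcen hr) y₁ (Set.mem_singleton _))
    have h2 : y₁ * (r * q) * y₁⁻¹ * (r * q)⁻¹ = r * (y₁ * q * y₁⁻¹ * q⁻¹) * r⁻¹ := by
      have h3 : y₁ * (r * q) * y₁⁻¹ * (r * q)⁻¹ = (y₁ * r) * (q * y₁⁻¹ * q⁻¹) * r⁻¹ := by group
      rw [h3, h1]; group
    rw [h2]
    exact hQn.conj_mem _ (Q.mul_mem (hQn.conj_mem q hq y₁) (Q.inv_mem hq)) r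
  have hn₁N : n₁ ∈ Subgroup.normalizer (R : Set H) :=
    Cfsg.Agent.Helper9.mem_normalizer_of_conj_le R n₁ hn₁R
  have hzsolv : Group.IsSolvable ↥(Subgroup.zpowers n₁) := by
    apply isSolvable_of_comm
    intro a b
    obtain ⟨i, hi⟩ := Subgroup.mem_zpowers_iff.mp a.2
    obtain ⟨j, hj⟩ := Subgroup.mem_zpowers_iff.mp b.2
    apply Subtype.ext
    show (a : H) * (b : H) = (b : H) * (a : H)
    rw [← hi, ← hj]
    exact (Commute.zpow_zpow_self n₁ i j).eq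
  have hzcop : (Nat.card (Subgroup.zpowers n₁)).Coprime (Nat.card R) := by
    obtain ⟨k, hk⟩ := hn₁p
    rw [Nat.card_zpowers, hk]
    exact Nat.Coprime.pow_left k hRcop.symm
  obtain ⟨q, hqprime, Sq, hSqn, hSqc⟩ : ∃ (q : ℕ) (hq : Fact q.Prime), ∃ S : Sylow q ↥R,
      Subgroup.zpowers n₁ ≤
        Subgroup.normalizer (((S : Subgroup ↥R).map R.subtype : Subgroup H) : Set H) ∧
      ¬ (S : Subgroup ↥R).map R.subtype ≤ Subgroup.centralizer ({y₁} : Set H) := by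
    by_contra hcon
    push Not at hcon
    apply hnc
    apply Cfsg.Agent.Helper9.le_of_forall_sylow_le R
    intro q hqf
    obtain ⟨S, hS⟩ := Cfsg.Agent.S0023.result (Subgroup.zpowers n₁) R
      ((Subgroup.zpowers_le).mpr hn₁N) hzcop (Or.inl hzsolv) q
    exact ⟨S, hcon q hqf S hS⟩
  haveI := hqprime
  obtain ⟨A, hA⟩ : ∃ A : Subgroup H, A = (Sq : Subgroup ↥R).map R.subtype := ⟨_, rfl⟩
  rw [← hA] at hSqn hSqc
  have hAR : A ≤ R := hA ▸ Subgroup.map_subtype_le _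
  have hAq : IsPGroup q A := by rw [hA]; exact Sq.isPGroup'.map _
  have hAcop : (Nat.card A).Coprime p :=
    Nat.Coprime.coprime_dvd_left (Subgroup.card_dvd_of_le hAR) hRcop
  have hqp : q ≠ p := by
    intro h
    apply hSqc
    have h1 : Nat.card A = 1 := by
      obtain ⟨j, hj⟩ := IsPGroup.iff_card.mp hAq
      rw [h] at hj
      rw [hj] at hAcop ⊢
      rcases Nat.eq_zero_or_pos j with h0 | hpos
      · rw [h0, pow_zero]
      · exfalso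
        have h2 := Nat.Coprime.eq_one_of_dvd hAcop.symm (dvd_pow_self p hpos.ne')
        exact hpp.one_lt.ne' h2
    rw [Subgroup.eq_bot_of_card_eq A h1]
    exact bot_le
  obtain ⟨S', hS'⟩ := hAq.exists_le_sylow
  have hAc : ∀ a ∈ A, ∀ b ∈ A, a * b = b * a :=
    fun a ha b hb => hab q hqp S' a (hS' ha) b (hS' hb)
  obtain ⟨a₀, ha₀, ha₀y⟩ : ∃ a₀ ∈ A, y₁ * a₀ * y₁⁻¹ ≠ a₀ := by
    by_contra hcon
    push Not at hcon
    apply hSqc
    intro a ha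
    rw [Subgroup.mem_centralizer_iff]
    intro h hh
    rw [Set.mem_singleton_iff] at hh
    rw [hh]
    have h1 := hcon a ha
    calc y₁ * a = y₁ * a * y₁⁻¹ * y₁ := by group
      _ = a * y₁ := by rw [h1]
  obtain ⟨v, hv, b, hb, hne⟩ := hhb_abelian Q hQp hfaith A hAc hAcop n₁
    (hSqn (Subgroup.mem_zpowers n₁)) (n + 1) (by omega) hn₁pn a₀ ha₀ (by
      have h1 : n + 1 - 1 = n := by omega
      rw [h1, ← hy₁]; exact ha₀y)
  apply hne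
  apply hexp
  have h1 := pow_mul_mem (H := Q) (a := b * n₁ * b⁻¹) (fun h hh => hQn.conj_mem h hh _) hv
    (p ^ (n + 1))
  have e : ((b * n₁ * b⁻¹) ^ p ^ (n + 1))⁻¹ = 1 := by rw [conj_pow, hn₁pn]; group
  rw [e, mul_one] at h1
  exact isP_of_pow_mem Q hQp _ (n + 1) h1

end Cfsg.Agent.Helper19.HH
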