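import Mathlib
import Cfsg.Agent.S3380
import Cfsg.Agent.Helper19.LinP1

/-!
Helper library (helper19): finite `p`-groups of linear maps in characteristic different from `p`:
the `(Nat.log 2 n + 1)`-st derived subgroup acts trivially on a space of dimension `n`.
-/

set_option autoImplicit false

namespace Cfsg.Agent.Helper19.LinP

universe u v w

open scoped commutatorElement

section rep2
variable {F : Type w} [Field F] {V : Type v} [AddCommGroup V] [Module F V] {G : Type u} [Group G]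
  (ρ : G →* (V →ₗ[F] V))

theorem fixed_pow (g : G) (w : V) (h : ρ g w = w) (m : ℕ) : ρ (g ^ m) w = w := by
  induction m with
  | zero => rw [pow_zero, rone]
  | succ m ih => rw [pow_succ, rmul, h, ih]

theorem sum_fixed (p : ℕ) (g : G) (hg : g ^ p = 1) (v : V) :
    ρ g (∑ k ∈ Finset.range p, ρ (g ^ k) v) = ∑ k ∈ Finset.range p, ρ (g ^ k) v := by
  rw [map_sum]
  have h1 : ∀ k, ρ g (ρ (g ^ k) v) = ρ (g ^ (k + 1)) v := by
    intro k; rw [← rmul, ← pow_succ']
  simp only [h1]
  have h2 := Finset.sum_range_succ (fun k => ρ (g ^ k) v) p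
  have h3 := Finset.sum_range_succ' (fun k => ρ (g ^ k) v) p
  rw [h2] at h3
  simp only [hg, pow_zero] at h3
  exact (add_right_cancel h3).symm

theorem smul_p_eq_zero (p : ℕ) (hp0 : (p : F) ≠ 0) (v : V) (h : p • v = 0) : v = 0 := by
  have h1 : (p : F) • v = 0 := by rw [Nat.cast_smul_eq_nsmul]; exact h
  have h2 : v = (p : F)⁻¹ • ((p : F) • v) := by
    rw [smul_smul, inv_mul_cancel₀ hp0, one_smul]
  rw [h2, h1, smul_zero]

theorem kill (p : ℕ) [Fact p.Prime] (z : G) (hz : z ^ p = 1) (hfix : ∀ v : V, ρ z v = v → v = 0)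
    (e : ℕ) (he : Nat.Coprime e p) (v : V) : ∑ k ∈ Finset.range p, ρ ((z ^ e) ^ k) v = 0 := by
  apply hfix
  have h1 : (z ^ e) ^ p = 1 := by rw [← pow_mul, mul_comm, pow_mul, hz, one_pow]
  have h2 := sum_fixed ρ p (z ^ e) h1 v
  obtain ⟨m, -, hm⟩ := Nat.exists_mul_mod_eq_one_of_coprime he (Fact.out : p.Prime).one_lt
  have h3 : (z ^ e) ^ m = z := by
    rw [← pow_mul, pow_eq_pow_mod (e * m) hz, hm, pow_one]
  have h4 := fixed_pow ρ (z ^ e) _ h2 m
  rw [h3] at h4
  exact h4

theorem sum_all (p : ℕ) [Fact p.Prime] (z y : G) (hzy : z * y = y * z) (hz : z ^ p = 1)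
    (hfix : ∀ v : V, ρ z v = v → v = 0) (v : V) :
    ∑ i ∈ Finset.range p, ∑ k ∈ Finset.range p, ρ ((y * z ^ i) ^ k) v = p • v := by
  rw [Finset.sum_comm]
  have hp := (Fact.out : p.Prime)
  have h1 : ∀ k ∈ Finset.range p, ∑ i ∈ Finset.range p, ρ ((y * z ^ i) ^ k) v
      = ρ (y ^ k) (∑ i ∈ Finset.range p, ρ ((z ^ k) ^ i) v) := by
    intro k _
    rw [map_sum]
    apply Finset.sum_congr rfl
    intro i _
    rw [Cfsg.Agent.S3380.pow_u z y hzy, rmul]
  rw [Finset.sum_congr rfl h1]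
  rw [Finset.sum_eq_single 0]
  · simp only [pow_zero, one_pow, rone]
    rw [Finset.sum_const, Finset.card_range]
  · intro k hk hk0
    have hkp : k < p := Finset.mem_range.mp hk
    have hcop : Nat.Coprime k p := by
      apply Nat.Coprime.symm
      rw [Nat.Prime.coprime_iff_not_dvd hp]
      intro hd
      exact absurd (Nat.le_of_dvd (Nat.pos_of_ne_zero hk0) hd) (not_le.mpr hkp)
    rw [kill ρ p z hz hfix k hcop v, map_zero]
  · intro h0
    exact absurd (Finset.mem_range.mpr hp.pos) h0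

theorem fix_mem (g : G) (v : V) :
    v ∈ LinearMap.eqLocus (ρ g) LinearMap.id ↔ ρ g v = v := by
  rw [LinearMap.mem_eqLocus]; rfl

theorem sup_top (p : ℕ) [Fact p.Prime] (hp0 : (p : F) ≠ 0) (z y : G) (hzy : z * y = y * z)
    (hz : z ^ p = 1) (hy : y ^ p = 1) (hfix : ∀ v : V, ρ z v = v → v = 0) :
    (⨆ i : Fin p, LinearMap.eqLocus (ρ (y * z ^ (i : ℕ))) LinearMap.id) = ⊤ := by
  rw [eq_top_iff]
  intro v _
  have h1 := sum_all ρ p z y hzy hz hfix v
  have h2 : p • v ∈ (⨆ i : Fin p, LinearMap.eqLocus (ρ (y * z ^ (i : ℕ))) LinearMap.id) := by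
    rw [← h1, ← Fin.sum_univ_eq_sum_range
      (fun i => ∑ k ∈ Finset.range p, ρ ((y * z ^ i) ^ k) v) p]
    apply Submodule.sum_mem
    intro i _
    apply Submodule.mem_iSup_of_mem i
    rw [fix_mem]
    apply sum_fixed
    rw [Cfsg.Agent.S3380.pow_u z y hzy, hy, hz, one_pow, one_mul]
  have h3 : v = (p : F)⁻¹ • (p • v) := by
    rw [← Nat.cast_smul_eq_nsmul F, smul_smul, inv_mul_cancel₀ hp0, one_smul]
  rw [h3]
  exact Submodule.smul_mem _ _ h2

theorem indep (p : ℕ) [Fact p.Prime] (hp0 : (p : F) ≠ 0) (z y : G) (hzy : z * y = y * z)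
    (hz : z ^ p = 1) (hfix : ∀ v : V, ρ z v = v → v = 0) :
    iSupIndep (fun i : Fin p => LinearMap.eqLocus (ρ (y * z ^ (i : ℕ))) LinearMap.id) := by
  intro i
  rw [Submodule.disjoint_def]
  intro w hwi hws
  rw [fix_mem] at hwi
  obtain ⟨T, hT⟩ : ∃ T : V →ₗ[F] V,
      ∀ v, T v = ∑ k ∈ Finset.range p, ρ ((y * z ^ (i : ℕ)) ^ k) v :=
    ⟨∑ k ∈ Finset.range p, ρ ((y * z ^ (i : ℕ)) ^ k),
      fun v => by rw [LinearMap.sum_apply]⟩
  have h1 : T w = p • w := by
    rw [hT, Finset.sum_congr rfl (fun k _ => fixed_pow ρ _ w hwi k), Finset.sum_const,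
      Finset.card_range]
  have h2 : (⨆ j, ⨆ (_ : j ≠ i), LinearMap.eqLocus (ρ (y * z ^ (j : ℕ))) LinearMap.id)
      ≤ LinearMap.ker T := by
    apply iSup_le; intro j; apply iSup_le; intro hj
    intro x hx
    rw [fix_mem] at hx
    rw [LinearMap.mem_ker, hT]
    obtain ⟨e, he⟩ : ∃ e : ℕ, e = (i : ℕ) + (p - (j : ℕ)) := ⟨_, rfl⟩
    have hji : (j : ℕ) ≠ (i : ℕ) := fun h => hj (Fin.ext h)
    have hjp : (j : ℕ) < p := j.2
    have hip : (i : ℕ) < p := i.2
    have hcop : Nat.Coprime e p := by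
      apply Nat.Coprime.symm
      rw [Nat.Prime.coprime_iff_not_dvd Fact.out]
      rintro ⟨c, hc⟩
      rcases Nat.lt_or_ge c 2 with hc2 | hc2
      · interval_cases c
        · omega
        · omega
      · have := Nat.mul_le_mul_left p hc2
        omega
    have hui : y * z ^ (i : ℕ) = (y * z ^ (j : ℕ)) * z ^ e := by
      rw [mul_assoc, ← pow_add, he]
      have h5 : (j : ℕ) + ((i : ℕ) + (p - (j : ℕ))) = (i : ℕ) + p := by omega
      rw [h5, pow_add, hz, mul_one]
    have hcomm : Commute (y * z ^ (j : ℕ)) (z ^ e) := by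
      have h5 : Commute z (y * z ^ (j : ℕ)) :=
        (show Commute z y from hzy).mul_right ((Commute.refl z).pow_right _)
      exact (h5.pow_left e).symm
    have hk : ∀ k, ρ ((y * z ^ (i : ℕ)) ^ k) x = ρ ((z ^ e) ^ k) x := by
      intro k
      rw [hui, hcomm.mul_pow, (hcomm.pow_pow k k).eq, rmul, fixed_pow ρ _ x hx k]
    rw [Finset.sum_congr rfl (fun k _ => hk k)]
    exact kill ρ p z hz hfix e hcop x
  have h3 : T w = 0 := LinearMap.mem_ker.mp (h2 hws)
  rw [h1] at h3
  exact smul_p_eq_zero p hp0 w h3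

/-- Restriction of a representation to an invariant subspace. -/
def restr (U : Submodule F V) (hU : ∀ g : G, ∀ v ∈ U, ρ g v ∈ U) :
    G →* (↥U →ₗ[F] ↥U) where
  toFun g := (ρ g).restrict (hU g)
  map_one' := by
    apply LinearMap.ext; intro v; apply Subtype.ext
    show ρ 1 v.1 = v.1
    rw [rone]
  map_mul' := by
    intro a b
    apply LinearMap.ext; intro v; apply Subtype.ext
    show ρ (a * b) v.1 = ρ a (ρ b v.1)
    rw [rmul]

theorem restr_apply (U : Submodule F V) (hU : ∀ g : G, ∀ v ∈ U, ρ g v ∈ U) (g : G) (v : ↥U) :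
    ((restr ρ U hU g) v : V) = ρ g v.1 := rfl

theorem comm_rep (h : ∀ a b : V →ₗ[F] V, a * b = b * a) :
    ∀ x ∈ derivedSeries G 1, ρ x = 1 := by
  intro x hx
  rw [derivedSeries_succ, derivedSeries_zero] at hx
  have h1 : ⁅(⊤ : Subgroup G), ⊤⁆ ≤ ρ.ker := by
    rw [Subgroup.commutator_le]
    intro a _ b _
    have e1 : a * b * a⁻¹ * b⁻¹ = (a * b) * (a⁻¹ * b⁻¹) := by group
    have e2 : (b * a) * (a⁻¹ * b⁻¹) = 1 := by group
    rw [MonoidHom.mem_ker, commutatorElement_def, e1, map_mul, map_mul ρ a b, h (ρ a) (ρ b),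
      ← map_mul ρ b a, ← map_mul, e2, map_one]
  exact MonoidHom.mem_ker.mp (h1 hx)

end rep2

theorem end_comm {F : Type w} [Field F] {V : Type v} [AddCommGroup V] [Module F V]
    [FiniteDimensional F V] (h : Module.finrank F V ≤ 1) (f g : V →ₗ[F] V) : f * g = g * f := by
  rcases Nat.lt_or_ge (Module.finrank F V) 1 with h0 | h1
  · have hs : Subsingleton V := by
      exact (Module.finrank_zero_iff (R := F)).mp (by omega)
    apply LinearMap.ext; intro w; exact Subsingleton.elim _ _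
  · have h2 : Module.finrank F V = 1 := le_antisymm h h1
    obtain ⟨v, hv0, hv⟩ := finrank_eq_one_iff'.mp h2
    obtain ⟨a, ha⟩ := hv (f v)
    obtain ⟨b, hb⟩ := hv (g v)
    apply LinearMap.ext; intro w
    obtain ⟨c, rfl⟩ := hv w
    have e1 : f (g (c • v)) = (c * b * a) • v := by
      rw [map_smul, map_smul, ← hb, map_smul, ← ha, smul_smul, smul_smul]
    have e2 : g (f (c • v)) = (c * a * b) • v := by
      rw [map_smul, map_smul, ← ha, map_smul, ← hb, smul_smul, smul_smul]
    show f (g (c • v)) = g (f (c • v))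
    rw [e1, e2, mul_assoc, mul_comm b a, ← mul_assoc]

theorem ds1_of_comm {Q : Type u} [Group Q] (h : ∀ a b : Q, a * b = b * a) :
    derivedSeries Q 1 = ⊥ := by
  rw [derivedSeries_succ, derivedSeries_zero, eq_bot_iff, Subgroup.commutator_le]
  intro a _ b _
  rw [Subgroup.mem_bot, commutatorElement_eq_one_iff_commute]
  exact h a b

theorem ds2_of_index_two {Q : Type u} [Group Q] [Finite Q] (x : Q)
    (hx : 2 * orderOf x = Nat.card Q) : derivedSeries Q 2 = ⊥ := by
  obtain ⟨N, hN⟩ : ∃ N : Subgroup Q, N = Subgroup.zpowers x := ⟨_, rfl⟩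
  have hNc : Nat.card N = orderOf x := by rw [hN, Nat.card_zpowers]
  have hidx : N.index = 2 := by
    have h1 := Subgroup.card_mul_index N
    rw [hNc, ← hx] at h1
    have h2 : 0 < orderOf x := orderOf_pos x
    exact Nat.eq_of_mul_eq_mul_left h2 (h1.trans (mul_comm _ _))
  haveI : N.Normal := Subgroup.normal_of_index_eq_two hidx
  have hq : Nat.card (Q ⧸ N) = 2 := by rw [← Subgroup.index_eq_card]; exact hidx
  haveI : Fact (Nat.Prime 2) := ⟨Nat.prime_two⟩
  haveI : IsCyclic (Q ⧸ N) := isCyclic_of_prime_card hq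
  have h1 : derivedSeries Q 1 ≤ N := by
    rw [derivedSeries_succ, derivedSeries_zero, Subgroup.commutator_le]
    intro a _ b _
    have h3 : (QuotientGroup.mk' N) ⁅a, b⁆ = 1 := by
      rw [map_commutatorElement, commutatorElement_eq_one_iff_commute]
      letI := IsCyclic.commGroup (α := Q ⧸ N)
      exact mul_comm _ _
    exact (QuotientGroup.eq_one_iff _).mp h3
  show derivedSeries Q (1 + 1) = ⊥
  rw [derivedSeries_succ, eq_bot_iff, Subgroup.commutator_le]
  intro a ha b hb
  rw [Subgroup.mem_bot, commutatorElement_eq_one_iff_commute]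
  have ha' := h1 ha
  have hb' := h1 hb
  rw [hN] at ha' hb'
  obtain ⟨i, rfl⟩ := Subgroup.mem_zpowers_iff.mp ha'
  obtain ⟨j, rfl⟩ := Subgroup.mem_zpowers_iff.mp hb'
  exact (Commute.refl x).zpow_zpow i j

theorem small_ds2 {Q : Type u} [Group Q] [Finite Q]
    (h : IsCyclic Q ∨ (∃ n : ℕ, Nonempty (Q ≃* QuaternionGroup n)) ∨
      (∃ n : ℕ, Nonempty (Q ≃* DihedralGroup n)) ∨ Cfsg.IsQuasiDihedral Q) :
    derivedSeries Q 2 = ⊥ := by
  rcases h with h | ⟨n, ⟨e⟩⟩ | ⟨n, ⟨e⟩⟩ | ⟨n, hn, hc, x, y, hx, hy, hxy⟩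
  · have hc : ∀ a b : Q, a * b = b * a := by
      letI := IsCyclic.commGroup (α := Q)
      exact fun a b => mul_comm a b
    have h1 := ds1_of_comm hc
    have h2 := derivedSeries_antitone Q (show 1 ≤ 2 by norm_num)
    rw [h1] at h2
    exact le_bot_iff.mp h2
  · have h1 : orderOf (e.symm (QuaternionGroup.a 1)) = 2 * n := by
      rw [MulEquiv.orderOf_eq, QuaternionGroup.orderOf_a_one]
    have hn0 : n ≠ 0 := by
      intro h0
      have h2 := orderOf_pos (e.symm (QuaternionGroup.a 1))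
      omega
    haveI : NeZero n := ⟨hn0⟩
    apply ds2_of_index_two (e.symm (QuaternionGroup.a 1))
    rw [h1, Nat.card_congr e.toEquiv, Nat.card_eq_fintype_card, QuaternionGroup.card]
    ring
  · apply ds2_of_index_two (e.symm (DihedralGroup.r 1))
    rw [MulEquiv.orderOf_eq, DihedralGroup.orderOf_r_one, Nat.card_congr e.toEquiv,
      DihedralGroup.nat_card]
  · apply ds2_of_index_two x
    rw [hx, hc, pow_succ]
    ring

theorem ds_sub {Q : Type u} [Group Q] (H : Subgroup Q) (h : derivedSeries Q 1 ≤ H) (k : ℕ) :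
    derivedSeries Q (k + 1) ≤ (derivedSeries ↥H k).map H.subtype := by
  induction k with
  | zero =>
    rw [derivedSeries_zero, ← MonoidHom.range_eq_map, Subgroup.range_subtype]
    exact h
  | succ k ih =>
    rw [derivedSeries_succ Q (k + 1), derivedSeries_succ ↥H k, Subgroup.map_commutator]
    exact Subgroup.commutator_mono ih ih

/-- The inductive claim. -/
def Claim (p : ℕ) (F : Type w) [Field F] (m : ℕ) : Prop :=
  ∀ (P : Type u) [Group P] [Finite P], IsPGroup p P → ∀ (V : Type v) [AddCommGroup V]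
    [Module F V] [FiniteDimensional F V], Module.finrank F V = m →
    ∀ ρ : P →* (V →ₗ[F] V), ∀ x ∈ derivedSeries P (Nat.log 2 m + 1), ρ x = 1

theorem cover {ι : Type*} (p : ℕ) {F : Type w} [Field F] (n : ℕ)
    (ih : ∀ m < n, Claim.{u, v, w} p F m)
    {Q : Type u} [Group Q] [Finite Q] (hQ : IsPGroup p Q) {V : Type v} [AddCommGroup V]
    [Module F V] [FiniteDimensional F V] (hn : Module.finrank F V = n) (τ : Q →* (V →ₗ[F] V))
    (U : ι → Submodule F V) (hU : ∀ i, ∀ g : Q, ∀ v ∈ U i, τ g v ∈ U i) (hne : ∀ i, U i ≠ ⊤)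
    (hsup : ⨆ i, U i = ⊤) :
    ∀ x ∈ derivedSeries Q (Nat.log 2 n + 1), τ x = 1 := by
  intro x hx
  have h1 : ∀ i, U i ≤ LinearMap.eqLocus (τ x) LinearMap.id := by
    intro i v hv
    rw [fix_mem]
    have hlt0 : Module.finrank F ↥(U i) < n := by
      rw [← hn]; exact Submodule.finrank_lt (hne i)
    obtain ⟨m, hm⟩ : ∃ m : ℕ, Module.finrank F ↥(U i) = m := ⟨_, rfl⟩
    have hlt : m < n := by rw [← hm]; exact hlt0
    have hx' : x ∈ derivedSeries Q (Nat.log 2 m + 1) :=
      derivedSeries_antitone Q (Nat.succ_le_succ (Nat.log_mono_right hlt.le)) hx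
    have h2 := ih m hlt Q hQ ↥(U i) hm (restr τ (U i) (hU i)) x hx'
    have h3 := congrArg (fun f : ↥(U i) →ₗ[F] ↥(U i) => (f ⟨v, hv⟩ : V)) h2
    exact h3
  have h2 : (⊤ : Submodule F V) ≤ LinearMap.eqLocus (τ x) LinearMap.id := by
    rw [← hsup]; exact iSup_le h1
  apply LinearMap.ext
  intro v
  exact (fix_mem τ x v).mp (h2 Submodule.mem_top)

theorem main_faithful (p : ℕ) [Fact p.Prime] {F : Type w} [Field F] (hp0 : (p : F) ≠ 0) (n : ℕ)
    (ih : ∀ m < n, Claim.{u, v, w} p F m)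
    {Q : Type u} [Group Q] [Finite Q] (hQ : IsPGroup p Q) {V : Type v} [AddCommGroup V]
    [Module F V] [FiniteDimensional F V] (hn : Module.finrank F V = n) (τ : Q →* (V →ₗ[F] V))
    (hτ : Function.Injective τ) :
    derivedSeries Q (Nat.log 2 n + 1) = ⊥ := by
  classical
  have hp := (Fact.out : p.Prime)
  have hbot : (∀ x ∈ derivedSeries Q (Nat.log 2 n + 1), τ x = 1) →
      derivedSeries Q (Nat.log 2 n + 1) = ⊥ := by
    intro h
    rw [eq_bot_iff]
    intro x hx
    rw [Subgroup.mem_bot]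
    apply hτ
    rw [h x hx, map_one]
  rcases Nat.lt_or_ge n 2 with hn2 | hn2
  · apply hbot
    have hlog : Nat.log 2 n = 0 := Nat.log_of_lt hn2
    rw [hlog]
    exact comm_rep τ (end_comm (by omega))
  have hlog : 1 ≤ Nat.log 2 n := Nat.log_pos (by norm_num) hn2
  by_cases hsmall : IsCyclic Q ∨ (∃ n : ℕ, Nonempty (Q ≃* QuaternionGroup n)) ∨
      (∃ n : ℕ, Nonempty (Q ≃* DihedralGroup n)) ∨ Cfsg.IsQuasiDihedral Q
  · have h1 := small_ds2 hsmall
    have h2 := derivedSeries_antitone Q (show 2 ≤ Nat.log 2 n + 1 by omega)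
    rw [h1] at h2
    exact le_bot_iff.mp h2
  have hnc : ¬ IsCyclic Q := fun h => hsmall (Or.inl h)
  have hnq : ∀ n : ℕ, ¬ Nonempty (Q ≃* QuaternionGroup n) :=
    fun n h => hsmall (Or.inr (Or.inl ⟨n, h⟩))
  have hnd : ∀ n : ℕ, ¬ Nonempty (Q ≃* DihedralGroup n) :=
    fun n h => hsmall (Or.inr (Or.inr (Or.inl ⟨n, h⟩)))
  have hnsd : ¬ Cfsg.IsQuasiDihedral Q := fun h => hsmall (Or.inr (Or.inr (Or.inr h)))
  obtain ⟨z, y, hzc, hz1, hzp, hyp, hyz, hcomm⟩ :=
    Cfsg.Agent.S3380.exists_zy p hQ hnc hnq hnd hnsd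
  have hzall : ∀ g : Q, g * z = z * g := Subgroup.mem_center_iff.mp hzc
  have hzy : z * y = y * z := (hzall y).symm
  have hzne : τ z ≠ 1 := by
    intro h; apply hz1; apply hτ; rw [h, map_one]
  by_cases hfixz : ∃ v : V, v ≠ 0 ∧ τ z v = v
  · obtain ⟨v0, hv0, hzv0⟩ := hfixz
    apply hbot
    obtain ⟨T, hT⟩ : ∃ T : V →ₗ[F] V, ∀ v, T v = ∑ k ∈ Finset.range p, τ (z ^ k) v :=
      ⟨∑ k ∈ Finset.range p, τ (z ^ k), fun v => by rw [LinearMap.sum_apply]⟩
    obtain ⟨U1, hU1⟩ : ∃ U1 : Submodule F V, U1 = LinearMap.eqLocus (τ z) LinearMap.id :=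
      ⟨_, rfl⟩
    obtain ⟨U2, hU2⟩ : ∃ U2 : Submodule F V, U2 = LinearMap.ker T := ⟨_, rfl⟩
    have hmem1 : ∀ v, v ∈ U1 ↔ τ z v = v := by intro v; rw [hU1, fix_mem]
    have hmem2 : ∀ v, v ∈ U2 ↔ T v = 0 := by intro v; rw [hU2, LinearMap.mem_ker]
    have hinv1 : ∀ g : Q, ∀ v ∈ U1, τ g v ∈ U1 := by
      intro g v hv
      rw [hmem1] at hv ⊢
      rw [← rmul, ← hzall g, rmul, hv]
    have hTcomm : ∀ g : Q, ∀ v, T (τ g v) = τ g (T v) := by
      intro g v
      rw [hT, hT, map_sum]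
      apply Finset.sum_congr rfl
      intro k _
      have hc : z ^ k * g = g * z ^ k :=
        ((show Commute g z from hzall g).pow_right k).eq.symm
      rw [← rmul, hc, rmul]
    have hinv2 : ∀ g : Q, ∀ v ∈ U2, τ g v ∈ U2 := by
      intro g v hv
      rw [hmem2] at hv ⊢
      rw [hTcomm, hv, map_zero]
    have hTfix : ∀ v, τ z v = v → T v = p • v := by
      intro v hv
      rw [hT, Finset.sum_congr rfl (fun k _ => fixed_pow τ z v hv k), Finset.sum_const,
        Finset.card_range]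
    have hne1 : U1 ≠ ⊤ := by
      intro h
      apply hzne
      apply LinearMap.ext
      intro v
      have hv : v ∈ U1 := by rw [h]; exact Submodule.mem_top
      exact (hmem1 v).mp hv
    have hne2 : U2 ≠ ⊤ := by
      intro h
      have hv : v0 ∈ U2 := by rw [h]; exact Submodule.mem_top
      rw [hmem2, hTfix v0 hzv0] at hv
      exact hv0 (smul_p_eq_zero p hp0 v0 hv)
    have hsup : U1 ⊔ U2 = ⊤ := by
      rw [eq_top_iff]
      intro w _
      have hTw : τ z (T w) = T w := by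
        rw [hT]; exact sum_fixed τ p z hzp w
      have h1 : T w ∈ U1 := (hmem1 _).mpr hTw
      have h2 : p • w - T w ∈ U2 := by
        rw [hmem2, map_sub, map_nsmul, hTfix (T w) hTw, sub_self]
      have h3 : p • w ∈ U1 ⊔ U2 := by
        have e : p • w = T w + (p • w - T w) := by abel
        rw [e]
        exact Submodule.add_mem _ (Submodule.mem_sup_left h1) (Submodule.mem_sup_right h2)
      have h4 : w = (p : F)⁻¹ • (p • w) := by
        rw [← Nat.cast_smul_eq_nsmul F, smul_smul, inv_mul_cancel₀ hp0, one_smul]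
      rw [h4]
      exact Submodule.smul_mem _ _ h3
    apply cover p n ih hQ hn τ (fun b : Bool => cond b U1 U2)
    · intro b; cases b
      · exact hinv2
      · exact hinv1
    · intro b; cases b
      · exact hne2
      · exact hne1
    · rw [iSup_bool_eq]; exact hsup
  · have hfix : ∀ v : V, τ z v = v → v = 0 := by
      intro v hv; by_contra h0; exact hfixz ⟨v, h0, hv⟩
    obtain ⟨W, hW⟩ : ∃ W : Fin p → Submodule F V,
        W = fun i : Fin p => LinearMap.eqLocus (τ (y * z ^ (i : ℕ))) LinearMap.id := ⟨_, rfl⟩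
    have hWmem : ∀ i v, v ∈ W i ↔ τ (y * z ^ (i : ℕ)) v = v := by
      intro i v; rw [hW]; exact fix_mem τ _ v
    have htop : ⨆ i, W i = ⊤ := by rw [hW]; exact sup_top τ p hp0 z y hzy hzp hyp hfix
    have hind : iSupIndep W := by rw [hW]; exact indep τ p hp0 z y hzy hzp hfix
    have hyzi : ∀ i : ℕ, y * z ^ i ≠ 1 := by
      intro i h1
      apply hyz
      have h2 : y = (z ^ i)⁻¹ := eq_inv_of_mul_eq_one_left h1
      rw [h2]
      exact Subgroup.inv_mem _ (Subgroup.pow_mem _ (Subgroup.mem_zpowers z) _)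
    have hWne : ∀ i, W i ≠ ⊤ := by
      intro i h
      apply hyzi (i : ℕ)
      apply hτ
      rw [map_one]
      apply LinearMap.ext
      intro v
      have hv : v ∈ W i := by rw [h]; exact Submodule.mem_top
      exact (hWmem i v).mp hv
    have hWinv : ∀ g : Q, g * y = y * g → ∀ i, ∀ v ∈ W i, τ g v ∈ W i := by
      intro g hg i v hv
      rw [hWmem] at hv ⊢
      have hc : (y * z ^ (i : ℕ)) * g = g * (y * z ^ (i : ℕ)) := by
        have h1 : Commute g (y * z ^ (i : ℕ)) :=
          (show Commute g y from hg).mul_right ((show Commute g z from hzall g).pow_right _)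
        exact h1.eq.symm
      rw [← rmul, hc, rmul, hv]
    by_cases hycen : ∀ g : Q, g * y = y * g
    · apply hbot
      exact cover p n ih hQ hn τ W (fun i g => hWinv g (hycen g) i) hWne htop
    · obtain ⟨g0, hg0⟩ := not_forall.mp hycen
      obtain ⟨Z1, hZ1⟩ : ∃ Z1 : Subgroup Q, Z1 = Subgroup.zpowers z := ⟨_, rfl⟩
      have hZ1cen : ∀ t ∈ Z1, ∀ g : Q, g * t = t * g := by
        intro t ht g
        rw [hZ1] at ht
        exact Subgroup.mem_center_iff.mp ((Subgroup.zpowers_le.mpr hzc) ht) g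
      have hcomm' : ∀ g : Q, g * y * g⁻¹ * y⁻¹ ∈ Z1 := by rw [hZ1]; exact hcomm
      obtain ⟨f, hf⟩ : ∃ f : Q →* ↥Z1, ∀ g, (f g : Q) = g * y * g⁻¹ * y⁻¹ := by
        refine ⟨MonoidHom.mk' (fun g => ⟨g * y * g⁻¹ * y⁻¹, hcomm' g⟩) ?_, fun g => rfl⟩
        intro a b
        apply Subtype.ext
        show a * b * y * (a * b)⁻¹ * y⁻¹ = (a * y * a⁻¹ * y⁻¹) * (b * y * b⁻¹ * y⁻¹)
        have ht := hZ1cen _ (hcomm' b)
        calc a * b * y * (a * b)⁻¹ * y⁻¹
            = (a * (b * y * b⁻¹ * y⁻¹)) * (y * a⁻¹ * y⁻¹) := by group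
          _ = ((b * y * b⁻¹ * y⁻¹) * a) * (y * a⁻¹ * y⁻¹) := by rw [ht a]
          _ = (b * y * b⁻¹ * y⁻¹) * (a * y * a⁻¹ * y⁻¹) := by group
          _ = (a * y * a⁻¹ * y⁻¹) * (b * y * b⁻¹ * y⁻¹) := (ht _).symm
      have hHmem : ∀ h : Q, h ∈ f.ker ↔ h * y = y * h := by
        intro h
        rw [MonoidHom.mem_ker]
        constructor
        · intro h1
          have h2 := congrArg Subtype.val h1
          rw [hf] at h2
          have h3 : h * y * h⁻¹ * y⁻¹ = 1 := h2
          calc h * y = (h * y * h⁻¹ * y⁻¹) * (y * h) := by group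
            _ = y * h := by rw [h3, one_mul]
        · intro h1
          apply Subtype.ext
          rw [hf, h1]
          show y * h * h⁻¹ * y⁻¹ = 1
          group
      obtain ⟨H, hH⟩ : ∃ H : Subgroup Q, H = f.ker := ⟨_, rfl⟩
      have hHle : H ≤ f.ker := le_of_eq hH
      have hD1 : derivedSeries Q 1 ≤ H := by
        rw [hH, derivedSeries_succ, derivedSeries_zero, Subgroup.commutator_le]
        intro a _ b _
        rw [MonoidHom.mem_ker, map_commutatorElement, commutatorElement_eq_one_iff_commute]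
        apply Subtype.ext
        exact hZ1cen _ (f b).2 _
      have hfg : (f g0 : Q) ∈ Subgroup.zpowers z := by rw [← hZ1]; exact (f g0).2
      obtain ⟨k0, hk0⟩ := (Submonoid.mem_powers_iff _ _).mp (mem_powers_iff_mem_zpowers.mpr hfg)
      obtain ⟨k, hkdef⟩ : ∃ k : ℕ, k = k0 % p := ⟨_, rfl⟩
      have hkp : k < p := by rw [hkdef]; exact Nat.mod_lt _ hp.pos
      have hzk : z ^ k = g0 * y * g0⁻¹ * y⁻¹ := by
        rw [hkdef, ← pow_eq_pow_mod k0 hzp, hk0, hf]
      have hk0' : k ≠ 0 := by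
        intro h0
        apply hg0
        rw [h0, pow_zero] at hzk
        calc g0 * y = (g0 * y * g0⁻¹ * y⁻¹) * (y * g0) := by group
          _ = y * g0 := by rw [← hzk, one_mul]
      have hconj : ∀ i : ℕ, g0 * (y * z ^ i) * g0⁻¹ = y * z ^ (i + k) := by
        intro i
        have h1 : g0 * y * g0⁻¹ = z ^ k * y := by rw [hzk]; group
        have h2 : g0 * z ^ i * g0⁻¹ = z ^ i := by
          have h3 : Commute g0 (z ^ i) := (show Commute g0 z from hzall g0).pow_right i
          rw [h3.eq, mul_inv_cancel_right]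
        calc g0 * (y * z ^ i) * g0⁻¹ = (g0 * y * g0⁻¹) * (g0 * z ^ i * g0⁻¹) := by group
          _ = z ^ k * y * z ^ i := by rw [h1, h2]
          _ = y * z ^ k * z ^ i := by rw [((show Commute z y from hzy).pow_left k).eq]
          _ = y * z ^ (i + k) := by rw [mul_assoc, ← pow_add, add_comm]
      have hdim : ∀ i : Fin p, 2 * Module.finrank F ↥(W i) ≤ n := by
        intro i
        obtain ⟨j, hj⟩ : ∃ j : Fin p, (j : ℕ) = ((i : ℕ) + k) % p :=
          ⟨⟨((i : ℕ) + k) % p, Nat.mod_lt _ hp.pos⟩, rfl⟩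
        have hji : j ≠ i := by
          intro h
          rw [h] at hj
          have hip : (i : ℕ) < p := i.2
          rcases Nat.lt_or_ge ((i : ℕ) + k) p with h1 | h1
          · rw [Nat.mod_eq_of_lt h1] at hj; omega
          · have h2 : ((i : ℕ) + k) % p = (i : ℕ) + k - p := by
              rw [Nat.mod_eq_sub_mod h1, Nat.mod_eq_of_lt (by omega)]
            omega
        have hu : y * z ^ (j : ℕ) = g0 * (y * z ^ (i : ℕ)) * g0⁻¹ := by
          rw [hj, ← pow_eq_pow_mod _ hzp, hconj]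
        have hmap : (W i).map (τ g0) ≤ W j := by
          intro w hw
          obtain ⟨v, hv, rfl⟩ := Submodule.mem_map.mp hw
          rw [hWmem] at hv ⊢
          rw [hu, ← rmul, inv_mul_cancel_right, rmul, hv]
        have hinj : Function.Injective (τ g0) := by
          intro a b hab
          have h1 := congrArg (τ g0⁻¹) hab
          rw [← rmul, ← rmul, inv_mul_cancel, rone, rone] at h1
          exact h1
        have h1 : Module.finrank F ↥((W i).map (τ g0)) = Module.finrank F ↥(W i) :=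
          (LinearEquiv.finrank_eq (Submodule.equivMapOfInjective (τ g0) hinj (W i))).symm
        have h2 : Module.finrank F ↥((W i).map (τ g0)) ≤ Module.finrank F ↥(W j) :=
          Submodule.finrank_mono hmap
        have h3 : Disjoint (W i) (W j) := hind.pairwiseDisjoint (Ne.symm hji)
        have h4 := Submodule.finrank_add_finrank_le_of_disjoint h3
        rw [hn] at h4
        omega
      have hHbot : derivedSeries ↥H (Nat.log 2 n) = ⊥ := by
        rw [eq_bot_iff]
        intro x hx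
        rw [Subgroup.mem_bot]
        apply Subtype.ext
        apply hτ
        rw [Subgroup.coe_one, map_one]
        have hinvH : ∀ i, ∀ h : ↥H, ∀ v ∈ W i, (τ.comp H.subtype) h v ∈ W i := by
          intro i h v hv
          have hh : (h : Q) * y = y * (h : Q) := by
            exact (hHmem _).mp (hHle h.2)
          exact hWinv (h : Q) hh i v hv
        have h1 : ∀ i, W i ≤ LinearMap.eqLocus (τ (x : Q)) LinearMap.id := by
          intro i v hv
          rw [fix_mem]
          have hd := hdim i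
          obtain ⟨m, hm⟩ : ∃ m : ℕ, Module.finrank F ↥(W i) = m := ⟨_, rfl⟩
          rw [hm] at hd
          have hlt : m < n := by omega
          have hle : Nat.log 2 m + 1 ≤ Nat.log 2 n := by
            rcases Nat.eq_zero_or_pos m with h0 | h0
            · rw [h0, Nat.log_zero_right]; omega
            · rw [← Nat.log_mul_base (by norm_num) h0.ne']
              exact Nat.log_mono_right (by omega)
          have hx' : x ∈ derivedSeries ↥H (Nat.log 2 m + 1) := derivedSeries_antitone ↥H hle hx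
          have hPH : IsPGroup p ↥H := hQ.to_subgroup H
          have h2 := ih m hlt ↥H hPH ↥(W i) hm
            (restr (τ.comp H.subtype) (W i) (hinvH i)) x hx'
          have h3 := congrArg (fun f : ↥(W i) →ₗ[F] ↥(W i) => (f ⟨v, hv⟩ : V)) h2
          exact h3
        have h2 : (⊤ : Submodule F V) ≤ LinearMap.eqLocus (τ (x : Q)) LinearMap.id := by
          rw [← htop]; exact iSup_le h1
        apply LinearMap.ext
        intro v
        exact (fix_mem τ _ v).mp (h2 Submodule.mem_top)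
      have h5 := ds_sub H hD1 (Nat.log 2 n)
      rw [hHbot, Subgroup.map_bot] at h5
      exact le_bot_iff.mp h5

theorem main (p : ℕ) [Fact p.Prime] {F : Type w} [Field F] (hp0 : (p : F) ≠ 0) (n : ℕ) :
    Claim.{u, v, w} p F n := by
  induction n using Nat.strong_induction_on with
  | _ n ih =>
    intro P _ _ hP V _ _ _ hn ρ x hx
    obtain ⟨ρu, hρu⟩ : ∃ ρu : P →* (V →ₗ[F] V)ˣ,
        ∀ g, ((ρu g : (V →ₗ[F] V)ˣ) : V →ₗ[F] V) = ρ g := ⟨ρ.toHomUnits, fun g => rfl⟩
    have hQ : IsPGroup p (P ⧸ ρu.ker) := hP.to_quotient ρu.ker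
    obtain ⟨τ, hτ⟩ : ∃ τ : (P ⧸ ρu.ker) →* (V →ₗ[F] V),
        τ = (Units.coeHom _).comp (QuotientGroup.kerLift ρu) := ⟨_, rfl⟩
    have hτinj : Function.Injective τ := by
      rw [hτ]
      intro a b hab
      apply QuotientGroup.kerLift_injective ρu
      apply Units.ext
      exact hab
    have h1 := main_faithful p hp0 n ih hQ hn τ hτinj
    have h2 : (QuotientGroup.mk' ρu.ker) x ∈ derivedSeries (P ⧸ ρu.ker) (Nat.log 2 n + 1) :=
      map_derivedSeries_le_derivedSeries _ _ (Subgroup.mem_map_of_mem _ hx)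
    rw [h1, Subgroup.mem_bot] at h2
    have h3 : ρu x = 1 := MonoidHom.mem_ker.mp ((QuotientGroup.eq_one_iff x).mp h2)
    rw [← hρu, h3]
    rfl

end Cfsg.Agent.Helper19.LinP
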