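import Mathlib
import Cfsg.Agent.Helper19.O504B

/-!
Piece [A2] for S1011 (request 1162 of helper21): in a simple group of order 504 whose Sylow
7-normalizers have order 14 there is an involution inverting an element of order 7.
-/

set_option autoImplicit false

namespace Cfsg.Agent.Helper19.O504A2

open Cfsg.Agent.Helper19.O504B

variable {G : Type*} [Group G] [Finite G] [IsSimpleGroup G]

theorem exists_D14 (h : Nat.card G = 504)
    (hN : ∀ P : Sylow 7 G, Nat.card ↥(Subgroup.normalizer ((P : Subgroup G) : Set G)) = 14) :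
    ∃ x t : G, orderOf x = 7 ∧ orderOf t = 2 ∧ t * x * t⁻¹ = x⁻¹ := by
  classical
  haveI : Fact (Nat.Prime 7) := ⟨by norm_num⟩
  haveI : Fact (Nat.Prime 2) := ⟨by norm_num⟩
  obtain ⟨x, hx⟩ := exists_prime_orderOf_dvd_card' (G := G) 7 (by rw [h]; norm_num)
  obtain ⟨P, hP⟩ := exists_sylow h x hx
  have hxP : x ∈ (P : Subgroup G) := by rw [hP]; exact Subgroup.mem_zpowers x
  have hcardN := hN P
  obtain ⟨t', ht'⟩ := exists_prime_orderOf_dvd_card'
    (G := ↥(Subgroup.normalizer ((P : Subgroup G) : Set G))) 2 (by rw [hcardN]; norm_num)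
  obtain ⟨t, htdef⟩ : ∃ t : G, t = (t' : G) := ⟨_, rfl⟩
  have ht : orderOf t = 2 := by rw [htdef, Subgroup.orderOf_coe]; exact ht'
  have htN : t ∈ Subgroup.normalizer ((P : Subgroup G) : Set G) := by rw [htdef]; exact t'.2
  have ht2 : t * t = 1 := by
    have := pow_orderOf_eq_one t
    rwa [ht, pow_two] at this
  have htinv : t⁻¹ = t := inv_eq_of_mul_eq_one_right ht2
  have hmem : t * x * t⁻¹ ∈ Subgroup.zpowers x := by
    have := (Subgroup.mem_normalizer_iff.mp htN x).mp hxP
    rw [← hP]
    exact this
  obtain ⟨k, hk⟩ := Subgroup.mem_zpowers_iff.mp hmem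
  obtain ⟨m, hm⟩ : ∃ m : ℤ, m = k % 7 := ⟨_, rfl⟩
  have hk' : x ^ m = t * x * t⁻¹ := by
    rw [← hk, hm]
    have := zpow_mod_orderOf x k
    rw [hx] at this
    exact this
  have hm0 : 0 ≤ m := by rw [hm]; exact Int.emod_nonneg _ (by norm_num)
  have hm7 : m < 7 := by rw [hm]; exact Int.emod_lt_of_pos _ (by norm_num)
  have hmm : x ^ (m * m) = x := by
    have h1 : t * (t * x * t⁻¹) * t⁻¹ = x := by
      rw [htinv]
      simp only [mul_assoc, ht2, mul_one]
      rw [← mul_assoc, ht2, one_mul]
    rw [← hk', ← conj_zpow, ← hk', ← zpow_mul] at h1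
    exact h1
  have hdvd : (7 : ℤ) ∣ m * m - 1 := by
    have h1 : x ^ (m * m - 1) = 1 := by rw [zpow_sub_one, hmm, mul_inv_cancel]
    have := (orderOf_dvd_iff_zpow_eq_one).mpr h1
    rw [hx] at this
    exact_mod_cast this
  -- Burnside: `t` does not centralize `x`
  have hnc : t * x * t⁻¹ ≠ x := by
    intro hcomm
    have htx : t * x = x * t := by
      have := congrArg (fun g => g * t) hcomm
      simpa [mul_assoc] using this
    have hxH : x ∈ Subgroup.centralizer ({x} : Set G) ⊓
        Subgroup.normalizer ((P : Subgroup G) : Set G) := by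
      refine Subgroup.mem_inf.mpr ⟨?_, Subgroup.le_normalizer hxP⟩
      rw [Subgroup.mem_centralizer_iff]
      intro y hy
      rw [Set.mem_singleton_iff] at hy
      rw [hy]
    have htH : t ∈ Subgroup.centralizer ({x} : Set G) ⊓
        Subgroup.normalizer ((P : Subgroup G) : Set G) := by
      refine Subgroup.mem_inf.mpr ⟨?_, htN⟩
      rw [Subgroup.mem_centralizer_iff]
      intro y hy
      rw [Set.mem_singleton_iff] at hy
      rw [hy]
      exact htx.symm
    have h7 : 7 ∣ Nat.card ↥(Subgroup.centralizer ({x} : Set G) ⊓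
        Subgroup.normalizer ((P : Subgroup G) : Set G)) := by
      have := Subgroup.orderOf_dvd_natCard _ hxH
      rwa [hx] at this
    have h2 : 2 ∣ Nat.card ↥(Subgroup.centralizer ({x} : Set G) ⊓
        Subgroup.normalizer ((P : Subgroup G) : Set G)) := by
      have := Subgroup.orderOf_dvd_natCard _ htH
      rwa [ht] at this
    have h14 : 14 ∣ Nat.card ↥(Subgroup.centralizer ({x} : Set G) ⊓
        Subgroup.normalizer ((P : Subgroup G) : Set G)) :=
      Nat.Coprime.mul_dvd_of_dvd_of_dvd (by norm_num : Nat.Coprime 7 2) h7 h2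
    have hHN : Subgroup.centralizer ({x} : Set G) ⊓
        Subgroup.normalizer ((P : Subgroup G) : Set G)
        = Subgroup.normalizer ((P : Subgroup G) : Set G) := by
      apply Subgroup.eq_of_le_of_card_ge inf_le_right
      rw [hcardN]
      exact Nat.le_of_dvd Nat.card_pos h14
    have hPle : Subgroup.normalizer (P : Set G) ≤ Subgroup.centralizer (P : Set G) := by
      intro n hn
      have hn' : n ∈ Subgroup.normalizer ((P : Subgroup G) : Set G) := hn
      rw [← hHN] at hn'
      have hnx : x * n = n * x :=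
        (Subgroup.mem_centralizer_iff.mp (Subgroup.mem_inf.mp hn').1) x (Set.mem_singleton x)
      rw [Subgroup.mem_centralizer_iff]
      intro y hy
      have hy' : y ∈ (P : Subgroup G) := hy
      rw [hP] at hy'
      obtain ⟨j, rfl⟩ := Subgroup.mem_zpowers_iff.mp hy'
      exact ((Commute.zpow_left (show Commute x n from hnx) j)).eq
    have hc := MonoidHom.ker_transferSylow_isComplement' P hPle
    have hcm := hc.card_mul_card
    rw [h, sylow7_card h P] at hcm
    have hker : Nat.card ↥(MonoidHom.transferSylow P hPle).ker = 72 := by omega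
    rcases (MonoidHom.normal_ker (MonoidHom.transferSylow P hPle)).eq_bot_or_eq_top with hb | hb
    · rw [hb, Subgroup.card_bot] at hker
      omega
    · rw [hb, Subgroup.card_top, h] at hker
      omega
  have hm6 : m = 6 := by
    interval_cases m
    · exfalso; omega
    · exfalso; apply hnc; rw [← hk']; simp
    · exfalso; omega
    · exfalso; omega
    · exfalso; omega
    · exfalso; omega
    · rfl
  refine ⟨x, t, hx, ht, ?_⟩
  rw [← hk', hm6]
  have h6 : x ^ (6 : ℤ) * x = 1 := by
    rw [← zpow_add_one]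
    norm_num
    have h7 := pow_orderOf_eq_one x
    rwa [hx] at h7
  exact eq_inv_of_mul_eq_one_left h6

end Cfsg.Agent.Helper19.O504A2
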