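import Mathlib
import Cfsg.Agent.Helper18.SpecPGL

set_option autoImplicit false

namespace Cfsg.Agent.Helper19.Psl3x

open Polynomial

/-- charpoly `(X - lam) * ψ` with `ψ` irreducible quadratic, `det M = 1`:
`M ^ ((q^2-1)/gcd(3,q-1))` is scalar. -/
theorem case_quad {F : Type*} [Field F] [Fintype F] (M : Matrix (Fin 3) (Fin 3) F)
    (hdet : M.det = 1) (lam : F) (ψ : Polynomial F) (hψm : ψ.Monic) (hψd : ψ.natDegree = 2)
    (hψ : Irreducible ψ) (hchar : M.charpoly = (Polynomial.X - Polynomial.C lam) * ψ) :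
    ∃ c : F, M ^ ((Fintype.card F ^ 2 - 1) / Nat.gcd 3 (Fintype.card F - 1))
      = c • (1 : Matrix (Fin 3) (Fin 3) F) := by
  classical
  set q := Fintype.card F with hq
  have hq1 : 1 < q := Fintype.one_lt_card
  set d := Nat.gcd 3 (q - 1) with hd
  have hdq : d ∣ q - 1 := Nat.gcd_dvd_right _ _
  have hd3 : d ∣ 3 := Nat.gcd_dvd_left _ _
  obtain ⟨k, hk⟩ := hdq
  have hdpos : 0 < d := Nat.gcd_pos_of_pos_left _ (by norm_num)
  -- ψ = X^2 - C t * X + C δ
  set t : F := - ψ.coeff 1 with ht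
  set δ : F := ψ.coeff 0 with hδ
  have hψeq : ψ = Cfsg.Agent.Helper18.Spec.quadPoly2 t δ := by
    unfold Cfsg.Agent.Helper18.Spec.quadPoly2
    ext n
    have h2 : ψ.coeff 2 = 1 := by
      have := hψm.coeff_natDegree
      rwa [hψd] at this
    rcases Nat.lt_or_ge n 3 with hn | hn
    · interval_cases n
      · simp [hδ, coeff_X, coeff_C]
      · simp [ht, coeff_X, coeff_C, coeff_one]
      · simp [h2, coeff_X, coeff_C, coeff_one]
    · have h1 : ψ.coeff n = 0 := coeff_eq_zero_of_natDegree_lt (by omega)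
      rw [h1]
      have hn2 : n ≠ 2 := by omega
      have hn1 : n ≠ 1 := by omega
      have hn0 : n ≠ 0 := by omega
      simp [coeff_X_pow, coeff_C, coeff_X, hn2, hn1, hn0, Ne.symm hn1, Ne.symm hn0, Ne.symm hn2]
  have hnoroot : ∀ z : F, z ^ 2 - t * z + δ ≠ 0 := by
    intro z hz
    have hroot : ψ.IsRoot z := by
      rw [hψeq]
      unfold Cfsg.Agent.Helper18.Spec.quadPoly2
      simp [hz]
    have hdeg1 : ψ.degree = 1 := Polynomial.degree_eq_one_of_irreducible_of_root hψ hroot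
    have : ψ.natDegree = 1 := natDegree_eq_of_degree_eq_some hdeg1
    omega
  have hdvd1 : ψ ∣ X ^ (q + 1) - C δ := by
    rw [hψeq]
    exact Cfsg.Agent.Helper18.Spec.adjoinRoot_pow_card_add_one' t δ hnoroot
  -- constant term: lam * δ = 1
  have hlamδ : lam * δ = 1 := by
    have h1 := Matrix.det_eq_sign_charpoly_coeff M
    rw [hdet, hchar] at h1
    have h2 : ((X - C lam) * ψ).coeff 0 = - lam * δ := by
      rw [mul_coeff_zero]
      simp [hδ]
    rw [h2] at h1
    have h3 : ((-1 : F)) ^ (Fintype.card (Fin 3)) = -1 := by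
      rw [Fintype.card_fin]; norm_num
    rw [h3] at h1
    linear_combination -h1
  have hδ0 : δ ≠ 0 := by
    intro h
    rw [h, mul_zero] at hlamδ
    exact zero_ne_one hlamδ
  have hδq : δ ^ (q - 1) = 1 := FiniteField.pow_card_sub_one_eq_one δ hδ0
  -- exponent
  have he : (q ^ 2 - 1) / d = (q + 1) * k := by
    have : q ^ 2 - 1 = d * ((q + 1) * k) := by
      have key : ∀ n : ℕ, 1 ≤ n → n ^ 2 - 1 = (n + 1) * (n - 1) := by
        intro n hn
        obtain ⟨m, rfl⟩ : ∃ m, n = m + 1 := ⟨n - 1, by omega⟩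
        simp only [Nat.add_sub_cancel]
        have : (m + 1) ^ 2 = (m + 1 + 1) * m + 1 := by ring
        omega
      have h3 : q ^ 2 - 1 = (q + 1) * (q - 1) := key q hq1.le
      rw [h3, hk]
      ring
    rw [this, Nat.mul_div_cancel_left _ hdpos]
  refine ⟨δ ^ k, ?_⟩
  rw [he]
  -- ψ ∣ X^((q+1)k) - C (δ^k)
  have hdvdψ : ψ ∣ X ^ ((q + 1) * k) - C (δ ^ k) := by
    have h := sub_dvd_pow_sub_pow (X ^ (q + 1) : F[X]) (C δ) k
    rw [← pow_mul, ← C_pow] at h
    exact hdvd1.trans h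
  -- (X - C lam) ∣ X^((q+1)k) - C (δ^k)
  have hlam : lam ^ ((q + 1) * k) = δ ^ k := by
    have hd2 : d ∣ q + 2 := by
      have : q + 2 = (q - 1) + 3 := by omega
      rw [this]
      exact Dvd.dvd.add ⟨k, hk⟩ hd3
    obtain ⟨m, hm⟩ := hd2
    have h1 : δ ^ ((q + 2) * k) = 1 := by
      have : (q + 2) * k = (q - 1) * m := by
        rw [hm, hk]; ring
      rw [this, pow_mul, hδq, one_pow]
    have h2 : (lam * δ) ^ ((q + 1) * k) = 1 := by rw [hlamδ, one_pow]
    have h3 : δ ^ ((q + 2) * k) = δ ^ ((q + 1) * k) * δ ^ k := by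
      rw [← pow_add]; congr 1; ring
    calc lam ^ ((q + 1) * k) = lam ^ ((q + 1) * k) * δ ^ ((q + 2) * k) := by rw [h1, mul_one]
      _ = (lam * δ) ^ ((q + 1) * k) * δ ^ k := by rw [h3, mul_pow]; ring
      _ = δ ^ k := by rw [h2, one_mul]
  have hdvdl : (X - C lam) ∣ X ^ ((q + 1) * k) - C (δ ^ k) := by
    rw [dvd_iff_isRoot]
    simp [hlam]
  have hcop : IsCoprime (X - C lam) ψ := by
    apply IsCoprime.symm
    rw [hψ.coprime_iff_not_dvd]
    intro hdv
    have h1 := natDegree_le_of_dvd hdv (X_sub_C_ne_zero lam)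
    rw [hψd, natDegree_X_sub_C] at h1
    omega
  have hdvd : M.charpoly ∣ X ^ ((q + 1) * k) - C (δ ^ k) := by
    rw [hchar]
    exact hcop.mul_dvd hdvdl hdvdψ
  obtain ⟨r, hr⟩ := hdvd
  have hz : aeval M (X ^ ((q + 1) * k) - C (δ ^ k) : F[X]) = 0 := by
    rw [hr, map_mul, Matrix.aeval_self_charpoly, zero_mul]
  rw [map_sub, map_pow, aeval_X, aeval_C, Algebra.algebraMap_eq_smul_one] at hz
  exact sub_eq_zero.mp hz

end Cfsg.Agent.Helper19.Psl3x
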